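import Cfsg.Agent.PFifth.Defs
import Cfsg.Agent.PGroup.Frattini

/-!
Sign tools for frames: fixed and inverted representatives, and the signed form of a frame (S5264).
-/

set_option autoImplicit false

open scoped commutatorElement

namespace Cfsg.Agent.PFifth

variable {G : Type*} [Group G] [Finite G] {p : ℕ} [Fact p.Prime] {P O : Subgroup G}
  {x e1 e2 : G} {τ : MulAut G}

namespace SignAux

theorem exists_half (ho : Odd (Nat.card G)) (a : G) : ∃ k : ℕ, a ^ k * a ^ k = a := by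
  obtain ⟨r, hr⟩ : Odd (orderOf a) := ho.of_dvd_nat (orderOf_dvd_natCard a)
  refine ⟨r + 1, ?_⟩
  rw [← pow_add, show r + 1 + (r + 1) = orderOf a + 1 by omega, pow_succ, pow_orderOf_eq_one,
    one_mul]

theorem eq_one_of_two_pow (ho : Odd (Nat.card G)) {a : G} {s : ℕ} (h : a ^ 2 ^ s = 1) :
    a = 1 := by
  refine orderOf_eq_one_iff.1 (Nat.eq_one_of_dvd_coprimes ?_ (orderOf_dvd_natCard a)
    (orderOf_dvd_of_pow_eq_one h))
  exact ((Nat.coprime_two_right).2 ho).pow_right s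

end SignAux

theorem exists_fixed_mem (ho : Odd (Nat.card G)) {τ : MulAut G} (hτ : τ * τ = 1)
    {N : Subgroup G} (hN : ∀ n ∈ N, τ n ∈ N) {g : G} (hg : g⁻¹ * τ g ∈ N) :
    ∃ g', g⁻¹ * g' ∈ N ∧ τ g' = g' := by
  have hττ : ∀ a, τ (τ a) = a := fun a => by rw [← MulAut.mul_apply, hτ]; rfl
  set n0 := g⁻¹ * τ g with hn0
  obtain ⟨k, hk⟩ := SignAux.exists_half ho n0
  have h1 : τ n0 = n0⁻¹ := by rw [hn0, map_mul, map_inv, hττ, mul_inv_rev, inv_inv]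
  refine ⟨g * n0 ^ k, by rw [inv_mul_cancel_left]; exact N.pow_mem hg k, ?_⟩
  rw [map_mul, map_pow, h1, inv_pow, show τ g = g * n0 by rw [hn0, mul_inv_cancel_left], mul_assoc]
  congr 1
  rw [mul_inv_eq_iff_eq_mul]
  exact hk.symm

theorem exists_inverted_mem (ho : Odd (Nat.card G)) {τ : MulAut G} (hτ : τ * τ = 1)
    {N : Subgroup G} [N.Normal] (hN : ∀ n ∈ N, τ n ∈ N) {g : G} (hg : g * τ g ∈ N) :
    ∃ g', g⁻¹ * g' ∈ N ∧ τ g' = g'⁻¹ := by
  have hττ : ∀ a, τ (τ a) = a := fun a => by rw [← MulAut.mul_apply, hτ]; rfl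
  set n0 := g * τ g with hn0
  obtain ⟨k, hk⟩ := SignAux.exists_half ho n0
  have h1 : τ n0 = g⁻¹ * n0 * g := by rw [hn0, map_mul, hττ]; group
  refine ⟨(n0 ^ k)⁻¹ * g, ?_, ?_⟩
  · rw [← mul_assoc]
    simpa using Subgroup.Normal.conj_mem inferInstance _ (N.inv_mem (N.pow_mem hg k)) g⁻¹
  · have h2 : τ (n0 ^ k) = g⁻¹ * n0 ^ k * g := by
      rw [map_pow, h1]
      have := conj_pow (i := k) (a := g⁻¹) (b := n0)
      rwa [inv_inv] at this
    have h3 : g * τ g = n0 ^ k * n0 ^ k := by rw [hk]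
    rw [map_mul, map_inv, h2]
    calc (g⁻¹ * n0 ^ k * g)⁻¹ * τ g = g⁻¹ * (n0 ^ k)⁻¹ * (g * τ g) := by group
      _ = g⁻¹ * n0 ^ k := by rw [h3]; group
      _ = ((n0 ^ k)⁻¹ * g)⁻¹ := by group

theorem eq_one_of_fixed_inverted (ho : Odd (Nat.card G)) {τ : MulAut G} {a : G}
    (h1 : τ a = a) (h2 : τ a = a⁻¹) : a = 1 :=
  SignAux.eq_one_of_two_pow ho (s := 1) (by
    rw [pow_one, pow_two]; exact mul_eq_one_iff_eq_inv.2 (h1.symm.trans h2))

namespace SignAux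

theorem frame_odd (hG : IsPGroup p G) (hp : p ≠ 2) : Odd (Nat.card G) := by
  obtain ⟨n, hn⟩ := IsPGroup.iff_card.1 hG
  rw [hn]
  exact ((Fact.out : p.Prime).odd_of_ne_two hp).pow

omit [Finite G] [Fact p.Prime] in
theorem comm_pow_left {a b : G} (h : Commute a ⁅a, b⁆) : ∀ n : ℕ, ⁅a ^ n, b⁆ = ⁅a, b⁆ ^ n := by
  intro n
  induction n with
  | zero => simp
  | succ n ih =>
    have e : ⁅a ^ (n + 1), b⁆ = a * ⁅a ^ n, b⁆ * a⁻¹ * ⁅a, b⁆ := by
      rw [pow_succ']; simp only [commutatorElement_def]; group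
    rw [e, ih, (h.pow_right n).eq, mul_inv_cancel_right, ← pow_succ]

omit [Finite G] [Fact p.Prime] in
theorem comm_pow_right {a b : G} (h : Commute b ⁅a, b⁆) : ∀ n : ℕ, ⁅a, b ^ n⁆ = ⁅a, b⁆ ^ n := by
  intro n
  induction n with
  | zero => simp
  | succ n ih =>
    have e : ⁅a, b ^ (n + 1)⁆ = ⁅a, b⁆ * (b * ⁅a, b ^ n⁆ * b⁻¹) := by
      rw [pow_succ']; simp only [commutatorElement_def]; group
    rw [e, ih, (h.pow_right n).eq, mul_inv_cancel_right, ← pow_succ']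

/-- Elementary consequences of a frame. -/
structure Facts (p : ℕ) (P O : Subgroup G) (e1 e2 : G) : Prop where
  phi_mem : ∀ f ∈ phi P, f ∈ P
  comm_mem : ∀ a ∈ P, ∀ b ∈ P, ⁅a, b⁆ ∈ phi P
  pow_mem : ∀ a ∈ P, a ^ p ∈ phi P
  phi_central : ∀ f ∈ phi P, ∀ w ∈ P, Commute f w
  phi_norm : ∀ g ∈ Subgroup.normalizer (P : Set G), ∀ f ∈ phi P, g * f * g⁻¹ ∈ phi P
  c_pow : ⁅e1, e2⁆ ^ p = 1

theorem facts (hG : IsPGroup p G) (h : Frame p P O x e1 e2) : Facts p P O e1 e2 := by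
  have hP : IsPGroup p P := hG.to_subgroup P
  have hcm : ∀ a ∈ P, ∀ b ∈ P, ⁅a, b⁆ ∈ phi P := fun a ha b hb =>
    ⟨⁅(⟨a, ha⟩ : P), ⟨b, hb⟩⁆, PGroup.commutatorElement_mem_frattini hP _ _,
      by simp [commutatorElement_def]⟩
  have hpw : ∀ a ∈ P, a ^ p ∈ phi P := fun a ha =>
    ⟨(⟨a, ha⟩ : P) ^ p, PGroup.pow_mem_frattini hP _, by simp⟩
  have hcen : ∀ f ∈ phi P, ∀ w ∈ P, Commute f w := fun f hf w hw =>
    h.O_central f (h.phi_le hf) w hw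
  refine ⟨fun f hf => h.O_le (h.phi_le hf), hcm, hpw, hcen, fun g hg f hf => ?_, ?_⟩
  · obtain ⟨f', hf', rfl⟩ := hf
    refine ⟨P.normalizerMonoidHom ⟨g, hg⟩ f', ?_, rfl⟩
    exact (Subgroup.characteristic_iff_map_eq.1 (inferInstance : (frattini ↥P).Characteristic)
      (P.normalizerMonoidHom ⟨g, hg⟩)).le ⟨f', hf', rfl⟩
  · rw [← comm_pow_left (hcen _ (hcm _ h.mem1 _ h.mem2) _ h.mem1).symm]
    exact commutatorElement_eq_one_iff_commute.2 (hcen _ (hpw _ h.mem1) _ h.mem2)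

end SignAux

open SignAux in
theorem exists_signed (hG : IsPGroup p G) (hp : p ≠ 2) (h : Frame p P O x e1 e2) :
    ∃ x' e1' e2' τ, Signed p P O x' e1' e2' τ := by
  have hpp : p.Prime := Fact.out
  have ho : Odd (Nat.card G) := frame_odd hG hp
  have F := facts hG h
  obtain ⟨hφP, hcm, hpw, hcen, hφN, hcp⟩ := F
  have hlm : (((p - 1) * (p - 1) : ℕ) : ZMod p) = 1 := by
    rw [Nat.cast_mul, Nat.cast_sub hpp.one_le, ZMod.natCast_self]
    simp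
  obtain ⟨ψ, hψ⟩ := h.tor (p - 1) (p - 1) hlm
  -- the shape of `ψ` on the generators
  have hneg : ∀ e ∈ P, ∀ a, (e ^ (p - 1))⁻¹ * a ∈ phi P → e * a ∈ phi P := by
    intro e he a ha
    have e' : e * a = e ^ p * ((e ^ (p - 1))⁻¹ * a) := by
      conv_rhs => rw [show p = p - 1 + 1 from (Nat.sub_add_cancel hpp.one_le).symm,
        pow_succ', Nat.add_sub_cancel]
      group
    rw [e']
    exact mul_mem (hpw e he) ha
  have hf1 : e1 * ψ e1 ∈ phi P := hneg _ h.mem1 _ hψ.map1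
  have hf2 : e2 * ψ e2 ∈ phi P := hneg _ h.mem2 _ hψ.map2
  -- `ψ` fixes the Frattini subgroup
  have hψc : ψ ⁅e1, e2⁆ = ⁅e1, e2⁆ := by
    have hc1 : Commute e1 ⁅e1, e2⁆ := (hcen _ (hcm _ h.mem1 _ h.mem2) _ h.mem1).symm
    have hc2 : Commute e2 ⁅e1, e2⁆ := (hcen _ (hcm _ h.mem1 _ h.mem2) _ h.mem2).symm
    set f1 := (e1 ^ (p - 1))⁻¹ * ψ e1 with hf1'
    set f2 := (e2 ^ (p - 1))⁻¹ * ψ e2 with hf2'
    have he1 : ψ e1 = e1 ^ (p - 1) * f1 := by rw [hf1', mul_inv_cancel_left]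
    have he2 : ψ e2 = e2 ^ (p - 1) * f2 := by rw [hf2', mul_inv_cancel_left]
    have hd : ∀ a b f g : G, Commute f a → Commute f b → Commute g a → Commute g b → Commute f g →
        ⁅a * f, b * g⁆ = ⁅a, b⁆ := by
      intro a b f g hfa hfb hga hgb hfg
      simp only [commutatorElement_def]
      calc a * f * (b * g) * (a * f)⁻¹ * (b * g)⁻¹
          = a * (f * (b * g)) * f⁻¹ * a⁻¹ * g⁻¹ * b⁻¹ := by group
        _ = a * ((b * g) * f) * f⁻¹ * a⁻¹ * g⁻¹ * b⁻¹ := by rw [(hfb.mul_right hfg).eq]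
        _ = a * b * (g * a⁻¹) * g⁻¹ * b⁻¹ := by group
        _ = a * b * (a⁻¹ * g) * g⁻¹ * b⁻¹ := by rw [hga.inv_right.eq]
        _ = a * b * a⁻¹ * b⁻¹ := by group
    have hone : ((p - 1) * (p - 1)) % p = 1 % p :=
      (ZMod.natCast_eq_natCast_iff' _ _ _).1 (by simpa using hlm)
    have hP1 : e1 ^ (p - 1) ∈ P := pow_mem h.mem1 _
    have hP2 : e2 ^ (p - 1) ∈ P := pow_mem h.mem2 _
    rw [map_commutatorElement, he1, he2,
      hd _ _ _ _ (hcen _ hψ.map1 _ hP1) (hcen _ hψ.map1 _ hP2) (hcen _ hψ.map2 _ hP1)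
        (hcen _ hψ.map2 _ hP2) (hcen _ hψ.map1 _ (hφP _ hψ.map2))]
    have e3 : ⁅e1, e2 ^ (p - 1)⁆ = ⁅e1, e2⁆ ^ (p - 1) := comm_pow_right hc2 _
    rw [comm_pow_left (a := e1) (b := e2 ^ (p - 1)) (e3 ▸ hc1.pow_right _), e3, ← pow_mul]
    conv_rhs => rw [← pow_one ⁅e1, e2⁆]
    rw [pow_eq_pow_iff_modEq]
    exact Nat.ModEq.of_dvd (orderOf_dvd_of_pow_eq_one hcp) hone
  have hψφ : ∀ f ∈ phi P, ψ f = f := fun f hf => by
    obtain ⟨k, rfl⟩ := h.phi_gen f hf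
    rw [map_pow, hψc]
  -- the square of `ψ` on the generators
  have hsq : ∀ e ∈ P, e * ψ e ∈ phi P → (ψ * ψ) e = e := fun e he hf => by
    have e' : ψ e = e⁻¹ * (e * ψ e) := by rw [inv_mul_cancel_left]
    rw [MulAut.mul_apply]
    obtain ⟨f, hfe⟩ : ∃ f, f = e * ψ e := ⟨_, rfl⟩
    rw [← hfe] at e' hf
    calc ψ (ψ e) = ψ (e⁻¹ * f) := by rw [← e']
      _ = (ψ e)⁻¹ * f := by rw [map_mul, map_inv, hψφ _ hf]
      _ = f⁻¹ * (e * f) := by rw [e', mul_inv_rev, inv_inv, mul_assoc]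
      _ = e := by rw [← (hcen _ hf _ he).eq, inv_mul_cancel_left]
  have hodd : ∀ e ∈ P, e * ψ e ∈ phi P → ∀ r : ℕ, (ψ ^ (2 * r + 1)) e = ψ e := by
    intro e he hf r
    induction r with
    | zero => simp
    | succ r ih =>
      rw [show 2 * (r + 1) + 1 = 2 * r + 1 + 2 by ring, pow_add, MulAut.mul_apply, pow_two,
        hsq e he hf, ih]
  have hOn : ∀ o ∈ O, ∀ n : ℕ, (ψ ^ n) o = o * (o⁻¹ * ψ o) ^ n := by
    intro o hoO n
    induction n with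
    | zero => simp
    | succ n ih =>
      rw [pow_succ', MulAut.mul_apply, ih, map_mul, map_pow, hψφ _ (hψ.mapO o hoO), pow_succ',
        ← mul_assoc, mul_inv_cancel_left]
  -- the two-part of `ψ`
  obtain ⟨s, u, hu, hsu⟩ := Nat.exists_eq_two_pow_mul_odd (orderOf_pos ψ).ne'
  obtain ⟨r, rfl⟩ := hu
  set τ := ψ ^ (2 * r + 1) with hτdef
  have hτs : τ ^ 2 ^ s = 1 := by
    rw [hτdef, ← pow_mul, mul_comm, ← hsu, pow_orderOf_eq_one]
  have hτP : ∀ w ∈ P, τ w ∈ P := by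
    intro w hw
    have : ∀ n : ℕ, (ψ ^ n) w ∈ P := fun n => by
      induction n with
      | zero => simpa using hw
      | succ n ih => rw [pow_succ', MulAut.mul_apply]; exact hψ.map_P _ ih
    exact this _
  have hτO : ∀ o ∈ O, τ o = o := by
    intro o hoO
    have h1 := hOn o hoO ((2 * r + 1) * 2 ^ s)
    rw [pow_mul, ← hτdef, hτs, MulAut.one_apply, left_eq_mul, pow_mul] at h1
    rw [hτdef, hOn o hoO, eq_one_of_two_pow ho h1, mul_one]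
  have hτ1 : e1 * τ e1 ∈ phi P := by rw [hτdef, hodd e1 h.mem1 hf1]; exact hf1
  have hτ2 : e2 * τ e2 ∈ phi P := by rw [hτdef, hodd e2 h.mem2 hf2]; exact hf2
  have hτφ : ∀ f ∈ phi P, τ f = f := fun f hf => hτO f (h.phi_le hf)
  -- `τ * τ` fixes `P`
  have hττP : ∀ w ∈ P, (τ * τ) w = w := by
    have hee : ∀ e ∈ P, e * τ e ∈ phi P → (τ * τ) e = e := fun e he hf => by
      have e' : τ e = e⁻¹ * (e * τ e) := by rw [inv_mul_cancel_left]
      rw [MulAut.mul_apply]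
      obtain ⟨f, hfe⟩ : ∃ f, f = e * τ e := ⟨_, rfl⟩
      rw [← hfe] at e' hf
      calc τ (τ e) = τ (e⁻¹ * f) := by rw [← e']
        _ = (τ e)⁻¹ * f := by rw [map_mul, map_inv, hτφ _ hf]
        _ = f⁻¹ * (e * f) := by rw [e', mul_inv_rev, inv_inv, mul_assoc]
        _ = e := by rw [← (hcen _ hf _ he).eq, inv_mul_cancel_left]
    intro w hw
    obtain ⟨i, j, o, hoO, rfl⟩ := h.gen w hw
    rw [map_mul, map_mul, map_pow, map_pow, hee e1 h.mem1 hτ1, hee e2 h.mem2 hτ2,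
      MulAut.mul_apply, hτO o hoO, hτO o hoO]
  -- `τ * τ` is trivial
  have hττ : τ * τ = 1 := by
    set σ := τ * τ with hσ
    set Fx := (σ : G ≃* G).toMonoidHom.eqLocus (MonoidHom.id G) with hFx
    have hPF : P ≤ Fx := fun w hw => hττP w hw
    have hnorm : Subgroup.normalizer (Fx : Set G) ≤ Fx := by
      intro g hg
      set c := g⁻¹ * σ g with hc
      have hcC : c ∈ Subgroup.centralizer (Fx : Set G) := by
        refine Subgroup.mem_centralizer_iff.2 fun w hw => ?_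
        have h1 : g * w * g⁻¹ ∈ Fx := (Subgroup.mem_normalizer_iff.1 hg w).1 hw
        have h2 : σ (g * w * g⁻¹) = g * w * g⁻¹ := h1
        rw [map_mul, map_mul, map_inv, show σ w = w from hw,
          show σ g = g * c by rw [hc, mul_inv_cancel_left]] at h2
        have h3 : c * w * c⁻¹ = w := by
          have h4 := congrArg (fun t => g⁻¹ * t * g) h2
          simpa [mul_assoc] using h4
        exact (mul_inv_eq_iff_eq_mul.1 h3).symm
      have hcF : c ∈ Fx := hPF (h.sc (Subgroup.centralizer_le hPF hcC))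
      have hn : ∀ n : ℕ, (σ ^ n) g = g * c ^ n := by
        intro n
        induction n with
        | zero => simp
        | succ n ih =>
          rw [pow_succ', MulAut.mul_apply, ih, map_mul, map_pow, show σ c = c from hcF,
            show σ g = g * c by rw [hc, mul_inv_cancel_left], pow_succ', mul_assoc]
      have h5 := hn (2 ^ s)
      rw [hσ, ← pow_two, ← pow_mul, mul_comm 2, pow_mul, hτs, one_pow, MulAut.one_apply,
        left_eq_mul] at h5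
      have hc1 : c = 1 := eq_one_of_two_pow ho h5
      show σ g = g
      exact (inv_mul_eq_one.1 (hc ▸ hc1)).symm
    have htop : Fx = ⊤ := by
      have := hG.isNilpotent
      by_contra hne
      exact (Group.normalizerCondition_of_isNilpotent (G := G) Fx (lt_top_iff_ne_top.2 hne)).not_ge
        hnorm
    exact MulEquiv.ext fun g => show g ∈ Fx from htop ▸ Subgroup.mem_top g
  -- inverted generators
  have hinv : ∀ e ∈ P, e * τ e ∈ phi P → ∃ d ∈ phi P, τ (e * d) = (e * d)⁻¹ := by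
    intro e he hf
    set f := e * τ e with hfdef
    obtain ⟨k, hk⟩ := exists_half ho f
    refine ⟨(f ^ k)⁻¹, inv_mem (pow_mem hf k), ?_⟩
    rw [map_mul, map_inv, hτφ _ (pow_mem hf k), show τ e = e⁻¹ * f by
      rw [hfdef, inv_mul_cancel_left], mul_inv_rev, inv_inv]
    calc e⁻¹ * f * (f ^ k)⁻¹ = e⁻¹ * (f ^ k * f ^ k) * (f ^ k)⁻¹ := by rw [hk]
      _ = e⁻¹ * f ^ k := by group
      _ = _ := (((hcen _ (pow_mem hf k) _ he).inv_right).eq).symm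
  obtain ⟨d1, hd1, ht1⟩ := hinv e1 h.mem1 hτ1
  obtain ⟨d2, hd2, ht2⟩ := hinv e2 h.mem2 hτ2
  -- `τ x` lies in `x P`
  have hxP : x⁻¹ * τ x ∈ P := by
    set N := Subgroup.normalizer (P : Set G) with hN
    have hτN : τ x ∈ N := by
      refine Subgroup.mem_normalizer_fintype (S := (P : Set G)) fun w hw => ?_
      have hw' : τ w ∈ P := hτP w hw
      have h1 : x * τ w * x⁻¹ ∈ P := (Subgroup.mem_normalizer_iff.1 h.x_norm _).1 hw'
      have h2 := hτP _ h1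
      rwa [map_mul, map_mul, map_inv, ← MulAut.mul_apply, hττ, MulAut.one_apply] at h2
    let K : Subgroup G :=
      { carrier := {a | a ∈ N ∧ ⁅a, e2⁆ ∈ phi P}
        one_mem' := ⟨one_mem _, by simp⟩
        mul_mem' := fun {a b} ha hb => ⟨mul_mem ha.1 hb.1, by
          have e : ⁅a * b, e2⁆ = a * ⁅b, e2⁆ * a⁻¹ * ⁅a, e2⁆ := by
            simp only [commutatorElement_def]; group
          rw [e]
          exact mul_mem (hφN a ha.1 _ hb.2) ha.2⟩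
        inv_mem' := fun {a} ha => ⟨inv_mem ha.1, by
          have e : ⁅a⁻¹, e2⁆ = a⁻¹ * ⁅a, e2⁆⁻¹ * (a⁻¹)⁻¹ := by
            simp only [commutatorElement_def]; group
          rw [e]
          exact hφN _ (inv_mem ha.1) _ (inv_mem ha.2)⟩ }
    have hPK : P ≤ K := fun w hw => ⟨Subgroup.le_normalizer hw, hcm w hw e2 h.mem2⟩
    have hKN : K ≤ N := fun a ha => ha.1
    have hxK : x ∉ K := by
      intro hx
      have h1 := mul_mem (h.phi_le hx.2) (h.phi_le (inv_mem h.com2))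
      rw [mul_inv_rev, inv_inv, mul_inv_cancel_left] at h1
      have h2 := (h.indep 1 0 (by simpa using h1)).1
      exact hpp.ne_one (Nat.dvd_one.1 h2)
    have hKP : K = P := by
      refine (Subgroup.eq_of_le_of_card_ge hPK ?_).symm
      have h1 : Nat.card K ∣ p * Nat.card P := h.card_norm ▸ Subgroup.card_dvd_of_le hKN
      obtain ⟨t, ht⟩ := Subgroup.card_dvd_of_le hPK
      rw [ht, mul_comm p] at h1
      have h2 : t ∣ p := Nat.dvd_of_mul_dvd_mul_left Nat.card_pos h1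
      rcases (Nat.dvd_prime hpp).1 h2 with rfl | rfl
      · rw [ht, mul_one]
      · exfalso
        refine hxK ?_
        have : K = N := Subgroup.eq_of_le_of_card_ge hKN (by rw [h.card_norm, ht, mul_comm])
        exact this ▸ h.x_norm
    rw [← hKP]
    refine ⟨mul_mem (inv_mem h.x_norm) hτN, ?_⟩
    set c2 := e1⁻¹ * ⁅x, e2⁆ with hc2
    have hxe : x * e2 * x⁻¹ = e1 * c2 * e2 := by
      rw [hc2]; simp only [commutatorElement_def]; group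
    set f1 := e1 * τ e1 with hf1d
    set f2 := e2 * τ e2 with hf2d
    have hτe1 : τ e1 = e1⁻¹ * f1 := by rw [hf1d, inv_mul_cancel_left]
    have hτe2 : τ e2 = e2⁻¹ * f2 := by rw [hf2d, inv_mul_cancel_left]
    have hax : τ x * (e2⁻¹ * f2) * (τ x)⁻¹ = e1⁻¹ * f1 * c2 * (e2⁻¹ * f2) := by
      rw [← hτe1, ← hτe2, ← map_inv, ← map_mul, ← map_mul, hxe, map_mul, map_mul,
        hτφ c2 h.com2]
    have hcN : ∀ f ∈ phi P, τ x * f * (τ x)⁻¹ ∈ phi P := hφN _ hτN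
    set g2 := τ x * f2 * (τ x)⁻¹ with hg2
    have hae : τ x * e2 * (τ x)⁻¹ = g2 * (e1⁻¹ * f1 * c2 * (e2⁻¹ * f2))⁻¹ := by
      rw [← hax, hg2]; group
    have key : (τ x * e2 * (τ x)⁻¹) * (x * e2 * x⁻¹)⁻¹ ∈ phi P := by
      rw [hae, hxe]
      have hc := hcm e2 h.mem2 e1 h.mem1
      set A := f1⁻¹
      have e : g2 * (e1⁻¹ * f1 * c2 * (e2⁻¹ * f2))⁻¹ * (e1 * c2 * e2)⁻¹ =
          (g2 * f2⁻¹ * c2⁻¹ * f1⁻¹ * c2⁻¹) * ⁅e2, e1⁆ := by
        have q1 : Commute (c2⁻¹ * f1⁻¹) e2 := hcen _ (mul_mem (inv_mem h.com2) (inv_mem hτ1)) _ h.mem2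
        have q2 : Commute c2⁻¹ ⁅e2, e1⁆ := hcen _ (inv_mem h.com2) _ (hφP _ hc)
        have q3 : Commute (e1 * e2⁻¹) c2⁻¹ :=
          (hcen _ (inv_mem h.com2) _ (mul_mem h.mem1 (inv_mem h.mem2))).symm
        calc g2 * (e1⁻¹ * f1 * c2 * (e2⁻¹ * f2))⁻¹ * (e1 * c2 * e2)⁻¹
            = g2 * f2⁻¹ * (e2 * (c2⁻¹ * f1⁻¹)) * ((e1 * e2⁻¹) * c2⁻¹) * e1⁻¹ := by group
          _ = g2 * f2⁻¹ * ((c2⁻¹ * f1⁻¹) * e2) * (c2⁻¹ * (e1 * e2⁻¹)) * e1⁻¹ := by
              rw [q1.eq, q3.eq]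
          _ = g2 * f2⁻¹ * (c2⁻¹ * f1⁻¹) * (e2 * c2⁻¹) * e1 * e2⁻¹ * e1⁻¹ := by group
          _ = g2 * f2⁻¹ * (c2⁻¹ * f1⁻¹) * (c2⁻¹ * e2) * e1 * e2⁻¹ * e1⁻¹ := by
              rw [(hcen _ (inv_mem h.com2) _ h.mem2).eq]
          _ = _ := by simp only [commutatorElement_def]; group
      rw [e]
      exact mul_mem (mul_mem (mul_mem (mul_mem (mul_mem (hcN _ hτ2) (inv_mem hτ2))
        (inv_mem h.com2)) (inv_mem hτ1)) (inv_mem h.com2)) hc
    have e : ⁅x⁻¹ * τ x, e2⁆ =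
        x⁻¹ * ((τ x * e2 * (τ x)⁻¹) * (x * e2 * x⁻¹)⁻¹) * (x⁻¹)⁻¹ := by
      simp only [commutatorElement_def]; group
    rw [e]
    exact hφN _ (inv_mem h.x_norm) _ key
  obtain ⟨x', hx', htx⟩ := exists_fixed_mem ho hττ hτP hxP
  -- the new frame
  set w := x⁻¹ * x' with hw
  have hxw : x' = x * w := by rw [hw, mul_inv_cancel_left]
  have hwN : w ∈ Subgroup.normalizer (P : Set G) := Subgroup.le_normalizer hx'
  have hcx : ∀ e ∈ P, ∀ d ∈ phi P, ∃ A ∈ phi P, ∃ B ∈ phi P,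
      ⁅x', e * d⁆ = A * ⁅x, e⁆ * B := by
    intro e he d hd
    refine ⟨x * ⁅w, e * d⁆ * x⁻¹, hφN x h.x_norm _ (hcm w hx' _ (mul_mem he (hφP d hd))),
      e * ⁅x, d⁆ * e⁻¹, hφN e (Subgroup.le_normalizer he) _ (h.comO d (h.phi_le hd)), ?_⟩
    rw [hxw]; simp only [commutatorElement_def]; group
  have hpw' : ∀ e ∈ P, ∀ d ∈ phi P, ∀ n : ℕ, (e * d) ^ n = e ^ n * d ^ n := fun e he d hd n =>
    (hcen d hd e he).symm.mul_pow n
  refine ⟨x', e1 * d1, e2 * d2, τ, ?_⟩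
  refine ⟨⟨h.sc, ?_, ?_, h.card_norm, h.O_le, h.phi_le, h.card_O, mul_mem h.mem1 (hφP _ hd1),
    mul_mem h.mem2 (hφP _ hd2), ?_, ?_, ?_, ?_, ?_, h.O_central, ?_, ?_⟩, hττ, hτP, ht1, ht2,
    htx, hτO⟩
  · rw [hxw]; exact mul_mem h.x_norm hwN
  · intro hx2
    refine h.x_nmem ?_
    have h1 := mul_mem hx2 (inv_mem hx')
    rwa [hxw, mul_inv_cancel_right] at h1
  · -- generation
    intro v hv
    obtain ⟨i, j, o, hoO, rfl⟩ := h.gen v hv
    refine ⟨i, j, (d1 ^ i)⁻¹ * (d2 ^ j)⁻¹ * o, mul_mem (mul_mem (inv_mem (pow_mem (h.phi_le hd1) i))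
      (inv_mem (pow_mem (h.phi_le hd2) j))) hoO, ?_⟩
    have q : Commute (d2 ^ j) (d1 ^ i)⁻¹ :=
      hcen _ (pow_mem hd2 j) _ (inv_mem (pow_mem (hφP _ hd1) i))
    have q' : Commute (d1 ^ i) (e2 ^ j) :=
      hcen _ (pow_mem hd1 i) _ (pow_mem h.mem2 j)
    calc e1 ^ i * e2 ^ j * o
        = e1 ^ i * (e2 ^ j * d1 ^ i) * (d1 ^ i)⁻¹ * (d2 ^ j * (d2 ^ j)⁻¹) * o := by group
      _ = e1 ^ i * (d1 ^ i * e2 ^ j) * ((d1 ^ i)⁻¹ * d2 ^ j) * (d2 ^ j)⁻¹ * o := by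
          rw [q'.eq]; group
      _ = e1 ^ i * (d1 ^ i * e2 ^ j) * (d2 ^ j * (d1 ^ i)⁻¹) * (d2 ^ j)⁻¹ * o := by rw [q.eq]
      _ = (e1 ^ i * d1 ^ i) * (e2 ^ j * d2 ^ j) * ((d1 ^ i)⁻¹ * (d2 ^ j)⁻¹ * o) := by group
      _ = _ := by rw [hpw' e1 h.mem1 d1 hd1, hpw' e2 h.mem2 d2 hd2]
  · -- independence
    intro i j hij
    refine h.indep i j ?_
    rw [hpw' e1 h.mem1 d1 hd1, hpw' e2 h.mem2 d2 hd2] at hij
    have q : Commute (d1 ^ i) (e2 ^ j) := hcen _ (pow_mem hd1 i) _ (pow_mem h.mem2 j)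
    have h2 := mul_mem hij (inv_mem (mul_mem (pow_mem (h.phi_le hd1) i) (pow_mem (h.phi_le hd2) j)))
    have e : e1 ^ i * d1 ^ i * (e2 ^ j * d2 ^ j) * (d1 ^ i * d2 ^ j)⁻¹ = e1 ^ i * e2 ^ j := by
      calc e1 ^ i * d1 ^ i * (e2 ^ j * d2 ^ j) * (d1 ^ i * d2 ^ j)⁻¹
          = e1 ^ i * (d1 ^ i * e2 ^ j) * (d1 ^ i)⁻¹ := by group
        _ = e1 ^ i * (e2 ^ j * d1 ^ i) * (d1 ^ i)⁻¹ := by rw [q.eq]
        _ = _ := by group
    rwa [e] at h2
  · obtain ⟨A, hA, B, hB, e⟩ := hcx e2 h.mem2 d2 hd2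
    rw [e]
    have q : Commute A e1⁻¹ := hcen A hA _ (inv_mem h.mem1)
    have e' : (e1 * d1)⁻¹ * (A * ⁅x, e2⁆ * B) = d1⁻¹ * A * (e1⁻¹ * ⁅x, e2⁆) * B := by
      calc (e1 * d1)⁻¹ * (A * ⁅x, e2⁆ * B) = d1⁻¹ * (e1⁻¹ * A) * ⁅x, e2⁆ * B := by group
        _ = d1⁻¹ * (A * e1⁻¹) * ⁅x, e2⁆ * B := by rw [q.eq]
        _ = _ := by group
    rw [e']
    exact mul_mem (mul_mem (mul_mem (inv_mem hd1) hA) h.com2) hB
  · obtain ⟨A, hA, B, hB, e⟩ := hcx e1 h.mem1 d1 hd1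
    rw [e]
    exact mul_mem (mul_mem hA h.com1) hB
  · intro o hoO
    rw [hxw]
    have e : ⁅x * w, o⁆ = x * ⁅w, o⁆ * x⁻¹ * ⁅x, o⁆ := by
      simp only [commutatorElement_def]; group
    rw [e, commutatorElement_eq_one_iff_commute.2 (show Commute w o from (h.O_central o hoO w hx').symm)]
    simpa using h.comO o hoO
  · intro o hoφ
    obtain ⟨k, hk⟩ := h.phi_gen o hoφ
    refine ⟨k, hk.trans ?_⟩
    congr 1
    have q1 : Commute d1 e2 := hcen _ hd1 _ h.mem2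
    have q3 : Commute d1 d2 := hcen _ hd1 _ (hφP _ hd2)
    have q4 : Commute d2 e1 := hcen _ hd2 _ h.mem1
    simp only [commutatorElement_def]
    symm
    calc e1 * d1 * (e2 * d2) * (e1 * d1)⁻¹ * (e2 * d2)⁻¹
        = e1 * (d1 * (e2 * d2)) * d1⁻¹ * e1⁻¹ * d2⁻¹ * e2⁻¹ := by group
      _ = e1 * ((e2 * d2) * d1) * d1⁻¹ * e1⁻¹ * d2⁻¹ * e2⁻¹ := by rw [(q1.mul_right q3).eq]
      _ = e1 * e2 * (d2 * e1⁻¹) * d2⁻¹ * e2⁻¹ := by group
      _ = e1 * e2 * (e1⁻¹ * d2) * d2⁻¹ * e2⁻¹ := by rw [q4.inv_right.eq]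
      _ = _ := by group
  · intro l m hl
    obtain ⟨χ, hχ⟩ := h.tor l m hl
    have hχφ : ∀ f ∈ phi P, χ f ∈ phi P := fun f hf => by
      have := mul_mem hf (hχ.mapO f (h.phi_le hf))
      rwa [mul_inv_cancel_left] at this
    refine ⟨χ, hχ.map_P, ?_, ?_, hχ.mapO⟩
    · rw [hpw' e1 h.mem1 d1 hd1, map_mul, mul_inv_rev, mul_assoc,
        ← mul_assoc (e1 ^ l)⁻¹]
      exact mul_mem (inv_mem (pow_mem hd1 l)) (mul_mem hχ.map1 (hχφ _ hd1))
    · rw [hpw' e2 h.mem2 d2 hd2, map_mul, mul_inv_rev, mul_assoc,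
        ← mul_assoc (e2 ^ m)⁻¹]
      exact mul_mem (inv_mem (pow_mem hd2 m)) (mul_mem hχ.map2 (hχφ _ hd2))

end Cfsg.Agent.PFifth
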