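import Cfsg.Agent.FusionSys.Saturation
import Cfsg.Agent.FusionAlperin.Alperin
import Cfsg.Agent.FusionBatch.Basic

/-!
Extension of automorphisms when the subgroup has maximal order among the essential ones (S5264).
-/

set_option autoImplicit false

open Cfsg Cfsg.FusionSystem Cfsg.Agent.FusionSys

namespace Cfsg.Agent.PFifth

universe u

variable {Ω : Type u} [Group Ω] {S : Subgroup Ω} {p : ℕ}

/-- `φ` is the restriction of an automorphism of `S` in the system. -/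
def IsRestr (F : FusionSystem S) {P : Subgroup Ω} (φ : P →* Ω) : Prop :=
  ∃ (hP : P ≤ S) (ψ : MulAut S), ψ ∈ F.autGroup S ∧ ∀ x : P, φ x = (ψ ⟨x, hP x.2⟩ : Ω)

/-- The maps which are restrictions of automorphisms of `S` when their source is large. -/
def bigSystem [Finite S] (F : FusionSystem S) (c : ℕ) : FusionSystem S where
  Hom P := {φ | φ ∈ F.Hom P ∧ (c < Nat.card P → IsRestr F φ)}
  le_of_mem h := F.le_of_mem h.1
  injective_of_mem h := F.injective_of_mem h.1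
  conj_mem := fun {P g} hP hg => ⟨F.conj_mem hP hg, fun _ =>
    ⟨hP, MulAut.conj (⟨g, hg⟩ : S), inn_le_autGroup F le_rfl ⟨⟨g, hg⟩, rfl⟩, fun _ => rfl⟩⟩
  comp_mem := by
    rintro P Q φ ψ ⟨hφ, hφr⟩ ⟨hψ, hψr⟩ h
    refine ⟨F.comp_mem hφ hψ h, fun hc => ?_⟩
    have hQ : c < Nat.card Q := by
      haveI : Finite Q := finite_of_le ‹_› (le_S F hψ)
      exact hc.trans_le (Nat.card_le_card_of_injective (fun x : P => (⟨φ x, h x⟩ : Q))
        fun a b e => F.injective_of_mem hφ (congrArg Subtype.val e))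
    obtain ⟨hPS, a, ha, hae⟩ := hφr hc
    obtain ⟨hQS, b, hb, hbe⟩ := hψr hQ
    refine ⟨hPS, b * a, mul_mem hb ha, fun x => ?_⟩
    show ψ ⟨φ x, h x⟩ = _
    rw [hbe]
    exact congrArg (fun y : S => (b y : Ω)) (Subtype.ext (hae x))
  inv_mem := by
    rintro P φ ⟨hφ, hφr⟩
    obtain ⟨ψ, hψ, hψe⟩ := F.inv_mem hφ
    refine ⟨ψ, ⟨hψ, fun hc => ?_⟩, hψe⟩
    have hP : c < Nat.card P := by
      rwa [← Nat.card_congr (MonoidHom.ofInjective (F.injective_of_mem hφ)).toEquiv] at hc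
    obtain ⟨hPS, a, ha, hae⟩ := hφr hP
    refine ⟨range_le_S F hφ, a⁻¹, inv_mem ha, ?_⟩
    rintro ⟨_, x, rfl⟩
    rw [hψe x]
    have h1 : (⟨φ x, range_le_S F hφ ⟨x, rfl⟩⟩ : S) = a ⟨x, hPS x.2⟩ := Subtype.ext (hae x)
    rw [h1, MulAut.inv_apply_self]

variable [Finite S] [Fact p.Prime]

/-- Above the orders of all essential subgroups every map is a restriction from `S`. -/
theorem isRestr_of_card (hS : IsPGroup p S) {F : FusionSystem S} (hF : F.IsSaturated p) {c : ℕ}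
    (hc : ∀ Q, F.IsEssential p Q → Nat.card Q ≤ c) {R : Subgroup Ω} {φ : R →* Ω}
    (hφ : φ ∈ F.Hom R) (hR : c < Nat.card R) : IsRestr F φ := by
  refine (FusionAlperin.alperin_le hS hF (bigSystem F c) ?_ R hφ).2 hR
  rintro P hP α hα
  have hPS : P ≤ S := by
    rcases hP with rfl | hP
    · exact le_rfl
    · exact hP.1.1
  refine (mem_autGroup _ hPS).2 ⟨autGroup_mem_hom F hPS hα, fun hlt => ?_⟩
  rcases hP with rfl | hP
  · exact ⟨le_rfl, α, hα, fun _ => rfl⟩
  · exact absurd (hc P hP) (not_le.2 hlt)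

/-- An automorphism of an essential subgroup of maximal order normalising `Aut_S(P)` comes from
`S`. -/
theorem exists_autS_ext (hS : IsPGroup p S) {F : FusionSystem S} (hF : F.IsSaturated p)
    {P : Subgroup Ω} (hP : F.IsEssential p P) {c : ℕ}
    (hc : ∀ Q, F.IsEssential p Q → Nat.card Q ≤ c) (hcP : c < Nat.card (normalizerIn S P))
    {α : MulAut P} (hα : α ∈ F.autGroup P)
    (hn : ∀ β ∈ autInducedBy S P, α * β * α⁻¹ ∈ autInducedBy S P) :
    ∃ ψ ∈ F.autGroup S, ∀ x : P, (α x : Ω) = (ψ ⟨x, hP.1.1 x.2⟩ : Ω) := by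
  have hPS := hP.1.1
  set φ : P →* Ω := P.subtype.comp α.toMonoidHom with hφd
  have hφ : φ ∈ F.Hom P := autGroup_mem_hom F hPS hα
  have hr : φ.range = P := by
    ext y
    constructor
    · rintro ⟨x, rfl⟩; exact (α x).2
    · intro hy
      exact ⟨α.symm ⟨y, hy⟩, by simp [hφd]⟩
  have hext : extender S P φ = normalizerIn S P := by
    refine extender_eq_normalizerIn fun g hg => ?_
    obtain ⟨k, hk, hke⟩ := mem_autInducedBy.1 (hn _ (mem_autInducedBy.2
      ⟨g, hg.1, fun _ => rfl⟩ : P.normalizerMonoidHom ⟨g, hg.2⟩ ∈ autInducedBy S P))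
    refine ⟨k, hk, fun x hx => ?_⟩
    have h1 := hke (α x)
    simp only [MulAut.mul_apply, MulAut.inv_apply_self] at h1
    exact h1
  obtain ⟨ψ, hψ, hψe, -, -⟩ := receptive_extend
    (saturated_receptive_of_fullyNormalized hS hF hP.2.1) hφ hr
  obtain ⟨hRS, a, ha, hae⟩ := isRestr_of_card hS hF hc hψ (by rwa [hext])
  exact ⟨a, ha, fun x => (hψe x).symm.trans (hae _)⟩

/-- With trivial core there is an essential subgroup. -/
theorem exists_essential (hS : IsPGroup p S) {F : FusionSystem S} (hF : F.IsSaturated p)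
    (hne : S ≠ ⊥) (hcore : F.core = ⊥) : ∃ P, F.IsEssential p P := by
  by_contra hno
  rw [not_exists] at hno
  refine hne (eq_bot_iff.2 ((le_sSup (s := {Q : Subgroup Ω | F.IsNormal Q}) ?_).trans hcore.le))
  refine ⟨le_rfl, fun P φ hφ => ?_⟩
  haveI : Finite P := finite_of_le ‹_› (le_S F hφ)
  obtain ⟨hPS, a, ha, hae⟩ := isRestr_of_card hS hF (c := 0) (fun Q hQ => absurd hQ (hno Q)) hφ
    Nat.card_pos
  have hsup : P ⊔ S ≤ S := sup_le hPS le_rfl
  have haH := autGroup_mem_hom F le_rfl ha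
  refine ⟨restr hsup (S.subtype.comp a.toMonoidHom), restr_mem F hsup haH,
    fun x => (hae x).symm, ?_⟩
  ext y
  rw [mem_map_subgroupOf]
  constructor
  · rintro ⟨x, -, rfl⟩
    exact (a ⟨x, hsup x.2⟩).2
  · intro hy
    exact ⟨⟨(a.symm ⟨y, hy⟩ : S), (le_sup_right : S ≤ P ⊔ S) (a.symm ⟨y, hy⟩).2⟩,
      (a.symm ⟨y, hy⟩).2, congrArg Subtype.val (a.apply_symm_apply ⟨y, hy⟩)⟩

end Cfsg.Agent.PFifth
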