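import Cfsg.Agent.MCE.Transvection

/-!
# The torus of two transvections in general position (S5264)
-/

set_option autoImplicit false

open Cfsg

namespace Cfsg.Agent.PFifth

variable {V : Type*} [CommGroup V] [Finite V] {p : ℕ} [Fact p.Prime]

/-- The map `v ↦ v⁻¹ * t v`. -/
private def dsp (t : MulAut V) : V →* V where
  toFun v := v⁻¹ * t v
  map_one' := by simp
  map_mul' v w := by rw [map_mul, mul_inv]; ac_rfl

omit [Finite V] in
private theorem shift {t : MulAut V} {v d : V} (hd : t d = d) (hv : t v = v * d) :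
    ∀ n : ℕ, (t ^ n) v = v * d ^ n := by
  intro n
  induction n with
  | zero => simp
  | succ n ih =>
    rw [pow_succ', MulAut.mul_apply, ih, map_mul, map_pow, hd, hv, mul_assoc, ← pow_succ']

omit [Finite V] in
private theorem fixed_pow {t : MulAut V} {v : V} (hv : t v = v) (n : ℕ) : (t ^ n) v = v := by
  simpa using shift (t := t) (v := v) (d := 1) (map_one _) (by simpa using hv) n

omit [Finite V] in
private theorem fixed_inv {t : MulAut V} {v : V} (hv : t v = v) : t⁻¹ v = v :=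
  t.symm_apply_eq.2 hv.symm

variable {A : Subgroup (MulAut V)} {R : Sylow p A}

omit [Fact p.Prime] in
private theorem sylow_eq_zpowers [hp : Fact p.Prime] (hR : Nat.card R = p) {x : A}
    (hx : x ∈ (R : Subgroup A)) (hx1 : x ≠ 1) : Subgroup.zpowers x = (R : Subgroup A) := by
  refine Subgroup.eq_of_le_of_card_ge (Subgroup.zpowers_le.2 hx) ?_
  have h2 : orderOf x ∣ p := by
    rw [← hR, ← Subgroup.orderOf_mk x hx]
    exact orderOf_dvd_natCard _
  rcases (Nat.dvd_prime hp.out).1 h2 with h | h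
  · exact absurd (orderOf_eq_one_iff.1 h) hx1
  · rw [Nat.card_zpowers, h]
    exact hR.le

omit [Fact p.Prime] in
private theorem emb_normalizer [hp : Fact p.Prime] (hR : Nat.card R = p)
    (hnn : ¬ (R : Subgroup A).Normal) :
    MCE.Emb R (Subgroup.normalizer ((R : Subgroup A) : Set A)) := by
  refine ⟨fun e => hnn (Subgroup.normalizer_eq_top_iff.1 e), fun Q hQ hQ1 => ?_⟩
  obtain ⟨x, hx, hx1⟩ := (Subgroup.bot_or_exists_ne_one Q).resolve_left hQ1
  have e : Q = (R : Subgroup A) := le_antisymm hQ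
    ((sylow_eq_zpowers hR (hQ hx) hx1).ge.trans (Subgroup.zpowers_le.2 hx))
  rw [e]

/-- Every element outside the normalizer gives a torus frame. -/
private theorem frame (hV : ∀ x : V, x ^ p = 1) (hR : Nat.card R = p)
    (hnn : ¬ (R : Subgroup A).Normal) {u : A} {I : Subgroup V}
    (h : MCE.Tv (u : MulAut V) I) (hI : Nat.card I = p) (hu : u ≠ 1) (huR : u ∈ (R : Subgroup A))
    {c : A} (hc : c ∉ Subgroup.normalizer ((R : Subgroup A) : Set A)) :
    ∃ (i j : V) (O : Subgroup V), i ∈ I ∧ i ≠ 1 ∧ j ∈ I.map (c : MulAut V).toMonoidHom ∧ j ≠ 1 ∧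
      (∀ v, ∃ a b : ℕ, ∃ o ∈ O, v = i ^ a * j ^ b * o) ∧
      (∀ a b : ℕ, i ^ a * j ^ b ∈ O → p ∣ a ∧ p ∣ b) ∧ Nat.card V = Nat.card O * p ^ 2 ∧
      (u : MulAut V) j = j * i ∧ (∀ o ∈ O, (u : MulAut V) o = o) ∧
      (∀ v : V, (∀ a : A, a ^ p = 1 → (a : MulAut V) v = v) → v ∈ O) ∧
      ∀ l m : ℕ, ((l * m : ℕ) : ZMod p) = 1 →
        ∃ α : A, α ∈ Subgroup.normalizer ((R : Subgroup A) : Set A) ∧
          (α : MulAut V) i = i ^ l ∧ (α : MulAut V) j = j ^ m ∧
            ∀ o ∈ O, (α : MulAut V) o = o := by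
  have hp := (Fact.out : p.Prime)
  have hY := emb_normalizer hR hnn
  have hRY : (R : Subgroup A) ≤ Subgroup.normalizer ((R : Subgroup A) : Set A) :=
    Subgroup.le_normalizer
  have hup : u ^ p = 1 := Subtype.ext (by push_cast; exact h.pow_prime hV)
  set u' : A := c * u * c⁻¹ with hu'
  have hu'p : u' ^ p = 1 := by rw [hu', conj_pow, hup, mul_one, mul_inv_cancel]
  have h' : MCE.Tv (u' : MulAut V) (I.map (c : MulAut V).toMonoidHom) := by
    push_cast [hu']
    exact h.conj _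
  set I' := I.map (c : MulAut V).toMonoidHom with hI'
  have hI'c : Nat.card I' = p := by
    rw [hI', Subgroup.card_map_of_injective (c : MulAut V).injective, hI]
  have key : ∀ hf : (∀ i ∈ I', (u : MulAut V) i = i) ∨ (∀ i ∈ I, (u' : MulAut V) i = i),
      False := fun hf => by
    refine hc (hY.mem_of_conj hRY (hRY huR) hup hu ?_)
    have := MCE.mem_of_link (c := 1) hY hRY hV h h' hu (by rwa [Ne, conj_eq_one_iff]) hf
      (by simpa using hRY huR)
    simpa using this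
  obtain ⟨j, hjI, hj⟩ : ∃ j ∈ I', (u : MulAut V) j ≠ j := by
    by_contra hall
    push Not at hall
    exact key (Or.inl hall)
  obtain ⟨i, hi⟩ : ∃ i, i = j⁻¹ * (u : MulAut V) j := ⟨_, rfl⟩
  have hiI : i ∈ I := hi ▸ h.disp j
  have huj : (u : MulAut V) j = j * i := by rw [hi, mul_inv_cancel_left]
  have hi1 : i ≠ 1 := fun e => hj (by rw [huj, e, mul_one])
  have hj1 : j ≠ 1 := fun e => hj (by rw [e, map_one])
  have hui : (u : MulAut V) i = i := h.fix i hiI
  have hu'j : (u' : MulAut V) j = j := h'.fix j hjI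
  obtain ⟨e, he⟩ : ∃ e, e = i⁻¹ * (u' : MulAut V) i := ⟨_, rfl⟩
  have heI : e ∈ I' := he ▸ h'.disp i
  have hu'i : (u' : MulAut V) i = i * e := by rw [he, mul_inv_cancel_left]
  have he1 : e ≠ 1 := fun e0 => by
    refine key (Or.inr fun y hy => ?_)
    obtain ⟨n, rfl⟩ := MCE.generate_of_card hI hiI hi1 hy
    rw [map_pow, hu'i, e0, mul_one]
  have hu'e : (u' : MulAut V) e = e := h'.fix e heI
  have hdvd : ∀ {x : V} {n : ℕ}, x ≠ 1 → x ^ n = 1 → p ∣ n := fun {x n} hx hn =>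
    orderOf_eq_prime (hV x) hx ▸ orderOf_dvd_of_pow_eq_one hn
  let ψ : V →* I × I' :=
    ((dsp (u : MulAut V)).codRestrict I h.disp).prod ((dsp (u' : MulAut V)).codRestrict I' h'.disp)
  have hψ : ∀ v : V, v ∈ ψ.ker ↔ (u : MulAut V) v = v ∧ (u' : MulAut V) v = v := by
    intro v
    rw [MonoidHom.mem_ker]
    constructor
    · intro hh
      have h1 : v⁻¹ * (u : MulAut V) v = 1 := congrArg (fun z : I × I' => (z.1 : V)) hh
      have h2 : v⁻¹ * (u' : MulAut V) v = 1 := congrArg (fun z : I × I' => (z.2 : V)) hh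
      exact ⟨(inv_mul_eq_one.1 h1).symm, (inv_mul_eq_one.1 h2).symm⟩
    · rintro ⟨h1, h2⟩
      exact Prod.ext (Subtype.ext (show v⁻¹ * (u : MulAut V) v = 1 by rw [h1, inv_mul_cancel]))
        (Subtype.ext (show v⁻¹ * (u' : MulAut V) v = 1 by rw [h2, inv_mul_cancel]))
  set O := ψ.ker with hO
  have hdec : ∀ v, ∃ a b : ℕ, ∃ o ∈ O, v = i ^ a * j ^ b * o := by
    intro v
    obtain ⟨b, hb⟩ := MCE.generate_of_card hI hiI hi1 (h.disp v)
    obtain ⟨a, ha⟩ := MCE.generate_of_card hI'c heI he1 (h'.disp v)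
    refine ⟨a, b, (i ^ a * j ^ b)⁻¹ * v, (hψ _).2 ⟨?_, ?_⟩, (mul_inv_cancel_left _ _).symm⟩
    · rw [map_mul, map_inv, map_mul, map_pow, map_pow, hui, huj,
        show (u : MulAut V) v = v * i ^ b from eq_mul_of_inv_mul_eq hb.symm, mul_pow]
      exact Additive.ofMul.injective (by simp only [ofMul_mul, ofMul_inv, ofMul_pow]; abel)
    · rw [map_mul, map_inv, map_mul, map_pow, map_pow, hu'i, hu'j,
        show (u' : MulAut V) v = v * e ^ a from eq_mul_of_inv_mul_eq ha.symm, mul_pow]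
      exact Additive.ofMul.injective (by simp only [ofMul_mul, ofMul_inv, ofMul_pow]; abel)
  have hind : ∀ a b : ℕ, i ^ a * j ^ b ∈ O → p ∣ a ∧ p ∣ b := by
    intro a b hab
    obtain ⟨h1, h2⟩ := (hψ _).1 hab
    rw [map_mul, map_pow, map_pow, hui, huj, mul_pow, ← mul_assoc, mul_eq_left] at h1
    rw [map_mul, map_pow, map_pow, hu'i, hu'j, mul_pow, mul_right_comm, mul_eq_left] at h2
    exact ⟨hdvd he1 h2, hdvd hi1 h1⟩
  have hψs : Function.Surjective ψ := by
    rintro ⟨⟨x, hx⟩, ⟨y, hy⟩⟩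
    obtain ⟨b, rfl⟩ := MCE.generate_of_card hI hiI hi1 hx
    obtain ⟨a, rfl⟩ := MCE.generate_of_card hI'c heI he1 hy
    refine ⟨i ^ a * j ^ b, Prod.ext (Subtype.ext ?_) (Subtype.ext ?_)⟩
    · show (i ^ a * j ^ b)⁻¹ * (u : MulAut V) (i ^ a * j ^ b) = i ^ b
      rw [map_mul, map_pow, map_pow, hui, huj, mul_pow]
      exact Additive.ofMul.injective (by simp only [ofMul_mul, ofMul_inv, ofMul_pow]; abel)
    · show (i ^ a * j ^ b)⁻¹ * (u' : MulAut V) (i ^ a * j ^ b) = e ^ a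
      rw [map_mul, map_pow, map_pow, hu'i, hu'j, mul_pow]
      exact Additive.ofMul.injective (by simp only [ofMul_mul, ofMul_inv, ofMul_pow]; abel)
  have hcard : Nat.card V = Nat.card O * p ^ 2 := by
    rw [← Subgroup.card_mul_index O, hO, Subgroup.index_ker,
      MonoidHom.range_eq_top.2 hψs, Subgroup.card_top, Nat.card_prod, hI, hI'c, ← sq]
  refine ⟨i, j, O, hiI, hi1, hjI, hj1, hdec, hind, hcard, huj, fun o ho => ((hψ o).1 ho).1,
    fun v hv => (hψ v).2 ⟨hv u hup, hv u' hu'p⟩, fun l m hlm => ?_⟩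
  have hmod : ∀ v : V, v ^ (l * m) = v := by
    intro v
    have h1 : ((l * m : ℕ) : ZMod p) = ((1 : ℕ) : ZMod p) := by rw [hlm, Nat.cast_one]
    rw [pow_eq_pow_mod (l * m) (hV v), (ZMod.natCast_eq_natCast_iff' _ _ _).1 h1,
      ← pow_eq_pow_mod 1 (hV v), pow_one]
  obtain ⟨n, hn⟩ := MCE.generate_of_card hI'c heI he1 hjI
  set y : A := (u' ^ n)⁻¹ with hy
  have hyi : (y : MulAut V) i = i * j⁻¹ := by
    apply ((u' ^ n : A) : MulAut V).injective
    rw [hy]
    push_cast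
    rw [MulAut.apply_inv_self, map_mul, map_inv, fixed_pow hu'j,
      shift hu'e hu'i n, hn, mul_inv_cancel_right]
  have hyf : ∀ v, (u' : MulAut V) v = v → (y : MulAut V) v = v := fun v hv => by
    rw [hy]
    push_cast
    exact fixed_inv (fixed_pow hv n)
  have hyj := hyf j hu'j
  let W : ℕ → ℕ → A := fun a b => u ^ a * y ^ b * u ^ a
  have hW : ∀ a b, (∀ v : V, v ^ (a * b) = v) → ((W a b : A) : MulAut V) i = (j ^ b)⁻¹ ∧
      ((W a b : A) : MulAut V) j = i ^ a ∧ ∀ o ∈ O, ((W a b : A) : MulAut V) o = o := by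
    intro a b hab
    have e1 : ((y : MulAut V) ^ b) i = i * (j ^ b)⁻¹ := by
      rw [shift (by rw [map_inv, hyj]) hyi b, inv_pow]
    have e2 := fixed_pow hyj b
    have e3 : ((u : MulAut V) ^ a) j = j * i ^ a := shift hui huj a
    have e4 := fixed_pow hui a
    refine ⟨?_, ?_, fun o ho => ?_⟩
    · simp only [W]
      push_cast
      rw [MulAut.mul_apply, MulAut.mul_apply, e4, e1, map_mul, map_inv, map_pow, e4, e3, mul_pow,
        ← pow_mul, hab i]
      exact Additive.ofMul.injective (by simp only [ofMul_mul, ofMul_inv, ofMul_pow]; abel)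
    · simp only [W]
      push_cast
      rw [MulAut.mul_apply, MulAut.mul_apply, e3, map_mul, map_pow, e2, e1, mul_pow, inv_pow,
        ← pow_mul, mul_comm b a, hab j, mul_left_comm, mul_inv_cancel, mul_one, map_pow, e4]
    · obtain ⟨h1, h2⟩ := (hψ o).1 ho
      simp only [W]
      push_cast
      rw [MulAut.mul_apply, MulAut.mul_apply, fixed_pow h1, fixed_pow (hyf o h2), fixed_pow h1]
  obtain ⟨a1, a2, a3⟩ := hW l m hmod
  obtain ⟨o1, o2, o3⟩ := hW 1 1 (fun v => by rw [one_mul, pow_one])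
  rw [pow_one] at o1 o2
  set α : A := W l m * (W 1 1)⁻¹ with hα
  have hαi : (α : MulAut V) i = i ^ l := by
    rw [hα]
    push_cast
    conv_lhs => rw [← o2, MulAut.mul_apply, MulAut.inv_apply_self]
    exact a2
  have hαj : (α : MulAut V) j = j ^ m := by
    have e0 : ((W 1 1 : A) : MulAut V)⁻¹ j = i⁻¹ := by
      apply ((W 1 1 : A) : MulAut V).injective
      rw [MulAut.apply_inv_self, map_inv, o1, inv_inv]
    rw [hα]
    push_cast
    rw [MulAut.mul_apply, e0, map_inv, a1, inv_inv]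
  have hαo : ∀ o ∈ O, (α : MulAut V) o = o := fun o ho => by
    rw [hα]
    push_cast
    rw [MulAut.mul_apply, fixed_inv (o3 o ho), a3 o ho]
  refine ⟨α, ?_, hαi, hαj, hαo⟩
  have hcomm : α * u = u ^ (l * l) * α := by
    refine Subtype.ext (MulEquiv.ext fun v => ?_)
    obtain ⟨a, b, o, ho, rfl⟩ := hdec v
    have h1 := ((hψ o).1 ho).1
    push_cast
    rw [MulAut.mul_apply, MulAut.mul_apply]
    simp only [map_mul, map_pow, hui, huj, h1, hαi, hαj, hαo o ho, fixed_pow hui, fixed_pow h1,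
      shift hui huj]
    have e5 : (i ^ (l * l)) ^ m = i ^ l := by
      rw [← pow_mul, mul_assoc, mul_comm l (l * m), pow_mul, hmod]
    rw [mul_pow (j ^ m) (i ^ l), mul_pow j (i ^ (l * l)), e5, mul_pow (j ^ m) (i ^ l)]
  have hconj : α * u * α⁻¹ = u ^ (l * l) := by rw [hcomm, mul_inv_cancel_right]
  have hne : α * u * α⁻¹ ≠ 1 := by rwa [Ne, conj_eq_one_iff]
  rw [← sylow_eq_zpowers hR huR hu, Subgroup.mem_normalizer_iff_map_conj_eq, MonoidHom.map_zpowers]
  show Subgroup.zpowers (α * u * α⁻¹) = Subgroup.zpowers u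
  rw [sylow_eq_zpowers hR huR hu, sylow_eq_zpowers hR (hconj ▸ pow_mem huR _) hne]

theorem torus_frame (hp : p ≠ 2) (hV : ∀ x : V, x ^ p = 1) (hR : Nat.card R = p)
    (hnn : ¬ (R : Subgroup A).Normal) {u : A} {I : Subgroup V} (h : MCE.Tv (u : MulAut V) I)
    (hI : Nat.card I = p) (hu : u ≠ 1) (huR : u ∈ (R : Subgroup A)) :
    ∃ (i j : V) (O : Subgroup V), i ∈ I ∧ (∀ v, ∃ a b : ℕ, ∃ o ∈ O, v = i ^ a * j ^ b * o) ∧
      (∀ a b : ℕ, i ^ a * j ^ b ∈ O → p ∣ a ∧ p ∣ b) ∧ Nat.card V = Nat.card O * p ^ 2 ∧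
      (u : MulAut V) j = j * i ∧ (∀ o ∈ O, (u : MulAut V) o = o) ∧
      (∀ v : V, (∀ a : A, a ^ p = 1 → (a : MulAut V) v = v) → v ∈ O) ∧
      ∀ l m : ℕ, ((l * m : ℕ) : ZMod p) = 1 →
        ∃ α : A, α ∈ Subgroup.normalizer ((R : Subgroup A) : Set A) ∧
          (α : MulAut V) i = i ^ l ∧ (α : MulAut V) j = j ^ m ∧
            ∀ o ∈ O, (α : MulAut V) o = o := by
  have _ := hp
  obtain ⟨c, hc, -⟩ := MCE.exists_generic (emb_normalizer hR hnn) hV h hu huR
  obtain ⟨i, j, O, hi, -, -, -, hrest⟩ := frame hV hR hnn h hI hu huR hc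
  exact ⟨i, j, O, hi, hrest⟩

theorem map_le_displacement (hp : p ≠ 2) (hV : ∀ x : V, x ^ p = 1) (hR : Nat.card R = p)
    (hnn : ¬ (R : Subgroup A).Normal) {u : A} {I : Subgroup V} (h : MCE.Tv (u : MulAut V) I)
    (hI : Nat.card I = p) (hu : u ≠ 1) (huR : u ∈ (R : Subgroup A)) (c : A) :
    I.map (c : MulAut V).toMonoidHom ≤ Subgroup.closure
      {w | ∃ α : A, α ∈ Subgroup.normalizer ((R : Subgroup A) : Set A) ∧
        ∃ v, w = v⁻¹ * (α : MulAut V) v} := by
  set D := Subgroup.closure {w : V | ∃ α : A, α ∈ Subgroup.normalizer ((R : Subgroup A) : Set A) ∧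
        ∃ v, w = v⁻¹ * (α : MulAut V) v}
  set N := Subgroup.normalizer ((R : Subgroup A) : Set A) with hN
  obtain ⟨q, hq⟩ : ∃ q : ℕ, ((2 * q : ℕ) : ZMod p) = 1 := by
    refine ⟨((2 : ZMod p)⁻¹).val, ?_⟩
    have h2 : (2 : ZMod p) ≠ 0 := fun e => hp
      ((Nat.prime_dvd_prime_iff_eq Fact.out Nat.prime_two).1
        ((ZMod.natCast_eq_zero_iff 2 p).1 (by exact_mod_cast e)))
    push_cast
    rw [ZMod.natCast_zmod_val, mul_inv_cancel₀ h2]
  have mem_of : ∀ {α : A} {v : V}, α ∈ N → (α : MulAut V) v = v ^ 2 → v ∈ D := by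
    intro α v hα hv
    refine Subgroup.subset_closure ⟨α, hα, v, ?_⟩
    rw [hv, pow_two, inv_mul_cancel_left]
  have big : ∀ {J : Subgroup V} {v : V}, Nat.card J = p → v ∈ J → v ≠ 1 → v ∈ D → J ≤ D := by
    intro J v hJ hv hv1 hvD x hx
    obtain ⟨n, rfl⟩ := MCE.generate_of_card hJ hv hv1 hx
    exact pow_mem hvD n
  by_cases hc : c ∈ N
  · obtain ⟨d, hd, -⟩ := MCE.exists_generic (emb_normalizer hR hnn) hV h hu huR
    obtain ⟨i, j, O, hi, hi1, -, -, -, -, -, -, -, -, htor⟩ := frame hV hR hnn h hI hu huR hd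
    obtain ⟨α, hα, hαi, -, -⟩ := htor 2 q hq
    have hID : I ≤ D := big hI hi hi1 (mem_of hα hαi)
    refine le_trans ?_ hID
    have hmem : c * u * c⁻¹ ∈ (R : Subgroup A) := (Subgroup.mem_normalizer_iff.1 hc u).1 huR
    rw [← sylow_eq_zpowers hR huR hu] at hmem
    obtain ⟨k, hk⟩ := (isOfFinOrder_of_finite u).mem_powers_iff_mem_zpowers.2 hmem
    have hk' : (c : MulAut V) * (u : MulAut V) * (c : MulAut V)⁻¹ = (u : MulAut V) ^ k := by
      have := congrArg (fun z : A => (z : MulAut V)) hk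
      simpa using this.symm
    obtain ⟨v, hv⟩ : ∃ v, (u : MulAut V) v ≠ v := by
      by_contra hall
      push Not at hall
      exact hu (Subtype.ext (MulEquiv.ext hall))
    rintro _ ⟨x, hx, rfl⟩
    obtain ⟨n, rfl⟩ := MCE.generate_of_card hI (h.disp v)
      (fun e => hv (inv_mul_eq_one.1 e).symm) hx
    rw [map_pow]
    refine pow_mem ?_ n
    show (c : MulAut V) (v⁻¹ * (u : MulAut V) v) ∈ I
    have e : (c : MulAut V) (v⁻¹ * (u : MulAut V) v) =
        ((c : MulAut V) v)⁻¹ * ((u : MulAut V) ^ k) ((c : MulAut V) v) := by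
      rw [← hk']; simp
    rw [e, h.pow_apply, inv_mul_cancel_left]
    exact pow_mem (h.disp _) k
  · obtain ⟨i, j, O, -, -, hj, hj1, -, -, -, -, -, -, htor⟩ := frame hV hR hnn h hI hu huR hc
    obtain ⟨α, hα, -, hαj, -⟩ := htor q 2 (by rw [mul_comm]; exact hq)
    refine big ?_ hj hj1 (mem_of hα hαj)
    rw [Subgroup.card_map_of_injective (c : MulAut V).injective, hI]

end Cfsg.Agent.PFifth
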