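import Cfsg.Agent.FusRankThree.Setup

/-!
Transvection property of an essential subgroup (S5264).
-/

set_option autoImplicit false

open Cfsg Cfsg.FusionSystem Cfsg.Agent.FusionSys Cfsg.Agent.FusRankThree

namespace Cfsg.Agent.PFifth

universe u

variable {Ω : Type u} [Group Ω] {S : Subgroup Ω}

/-- `|N_S(P) : P| = p` and an element of `N_S(P)` outside `P` acts as a transvection on `P / Φ(P)`. -/
structure Transv (F : FusionSystem S) (p : ℕ) (P : Subgroup Ω) : Prop where
  le : P ≤ S
  card_norm : Nat.card (normalizerIn S P) = p * Nat.card P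
  tv : ∃ g : normalizerIn S P, (g : Ω) ∉ P ∧ ∃ I : Subgroup (FQ P), Nat.card I = p ∧
    (∀ v : FQ P, v⁻¹ * rho F P (conjAut F le g) v ∈ I) ∧
    ∀ i ∈ I, rho F P (conjAut F le g) i = i

/-- `S` has no abelian subgroup of index `p`. -/
def NoAbelian (p : ℕ) (S : Subgroup Ω) : Prop :=
  ∀ A : Subgroup S, IsMulCommutative ↥A → A.index ≠ p

end Cfsg.Agent.PFifth
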