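import Cfsg.Agent.PFifth.Defs
import Cfsg.Agent.PFifth.TransvDefs
import Cfsg.Agent.PFifth.Extend
import Cfsg.Agent.PFifth.Torus
import Cfsg.Agent.H73.SmallEssential.Cubic
import Cfsg.Agent.FusionSys.CubeEssential
import Cfsg.Agent.PGroup.Basic
import Cfsg.Agent.FusRankThree.Lin

/-!
The frame of an essential subgroup of maximal order, with tori coming from `S` (S5264).
-/

set_option autoImplicit false
set_option linter.style.haveILetI false

open Cfsg Cfsg.FusionSystem Cfsg.Agent.FusionSys Cfsg.Agent.FusRankThree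
open scoped commutatorElement

namespace Cfsg.Agent.PFifth

universe u

variable {Ω : Type u} [Group Ω] {S : Subgroup Ω} [Finite S] {p : ℕ} [Fact p.Prime]

/-- The inclusion of a subgroup of `S` into `S`. -/
abbrev incl {P : Subgroup Ω} (hPS : P ≤ S) : P →* S := Subgroup.inclusion hPS

theorem map_incl_top {P : Subgroup Ω} (hPS : P ≤ S) : (incl hPS).range = P.subgroupOf S := by
  ext y
  constructor
  · rintro ⟨z, rfl⟩; exact z.2
  · intro hy; exact ⟨⟨y, hy⟩, rfl⟩

theorem phi_subgroupOf (hS : IsPGroup p S) {P : Subgroup Ω} (hPS : P ≤ S) :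
    phi (P.subgroupOf S) = (frattini ↥P).map (incl hPS) := by
  haveI : Finite P := finite_of_le ‹_› hPS
  unfold phi
  rw [← PGroup.map_frattini (hS.to_le hPS) (Subgroup.subgroupOfEquivOfLe hPS).symm.toMonoidHom
    (Subgroup.subgroupOfEquivOfLe hPS).symm.surjective, Subgroup.map_map]
  rfl

theorem card_normalizer_subgroupOf {P : Subgroup Ω} (hPS : P ≤ S) :
    Nat.card (Subgroup.normalizer ((P.subgroupOf S : Subgroup S) : Set S)) =
      Nat.card (normalizerIn S P) := by
  have h : Subgroup.normalizer ((P.subgroupOf S : Subgroup S) : Set S) =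
      (normalizerIn S P).subgroupOf S := by
    ext y
    rw [Subgroup.mem_subgroupOf, mem_normalizerIn, Subgroup.mem_normalizer_iff,
      Subgroup.mem_normalizer_iff]
    constructor
    · intro h
      refine ⟨y.2, fun z => ⟨fun hz => ?_, fun hz => ?_⟩⟩
      · exact (h ⟨z, hPS hz⟩).1 hz
      · have hzS : z ∈ S := by
          have := S.mul_mem (S.mul_mem (S.inv_mem y.2) (hPS hz)) y.2
          simpa [mul_assoc] using this
        exact (h ⟨z, hzS⟩).2 hz
    · exact fun h z => h.2 z
  rw [h, Nat.card_congr (Subgroup.subgroupOfEquivOfLe (normalizerIn_le P)).toEquiv]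

set_option maxHeartbeats 1600000 in
/-- Centrality of the fixed part and generation of the Frattini subgroup by a commutator. -/
theorem frame_central (hS : IsPGroup p S) {F : FusionSystem S} (hF : F.IsSaturated p)
    {P : Subgroup Ω} (hP : F.IsEssential p P)
    (hfacts : Nat.card P = p ^ 2 ∨ Nat.card P = p ^ 3 ∨
      (Nat.card P = p ^ 4 ∧ ¬ IsMulCommutative ↥P ∧ Nat.card (Subgroup.center ↥P) = p ^ 2 ∧
        Nat.card (frattini ↥P) = p ∧ frattini ↥P = commutator ↥P))
    {z1 z2 : P} (O' : Subgroup P) (hΦO : frattini ↥P ≤ O')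
    (hgen' : ∀ w : P, ∃ a b : ℕ, ∃ o ∈ O', w = z1 ^ a * z2 ^ b * o)
    (hcardO : Nat.card P = Nat.card O' * p ^ 2)
    (hfixO : ∀ w : P, (∀ a : (rho F P).range, a ^ p = 1 →
      (a : MulAut (FQ P)) (QuotientGroup.mk' (frattini ↥P) w) = QuotientGroup.mk' (frattini ↥P) w) →
        w ∈ O') :
    O' ≤ Subgroup.center ↥P ∧ ∀ o ∈ frattini ↥P, ∃ k : ℕ, o = ⁅z1, z2⁆ ^ k := by
  classical
  have hpp : p.Prime := Fact.out
  haveI : Finite P := finite_of_le ‹_› hP.1.1
  have hPp : IsPGroup p P := hS.to_le hP.1.1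
  set mk := QuotientGroup.mk' (frattini ↥P) with hmk
  by_cases hab : IsMulCommutative ↥P
  · have hexp : ∀ v : P, v ^ p = 1 := by
      rcases hfacts with h | h | h
      · exact H73.SmallEssential.abelian_cube_exp hS hF hP (fun a b => hab.is_comm.comm a b)
          (Or.inl h)
      · exact H73.SmallEssential.abelian_cube_exp hS hF hP (fun a b => hab.is_comm.comm a b)
          (Or.inr h)
      · exact absurd hab h.2.1
    have hΦ : frattini ↥P = ⊥ := by
      rw [FusionSys.frattini_eq_range_pow hPp (fun a b => hab.is_comm.comm a b)]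
      refine (Subgroup.eq_bot_iff_forall _).2 ?_
      rintro _ ⟨v, rfl⟩
      exact hexp v
    refine ⟨fun o _ => Subgroup.mem_center_iff.2 fun w => hab.is_comm.comm w o, fun o ho => ?_⟩
    exact ⟨0, by rw [pow_zero]; exact Subgroup.mem_bot.1 (hΦ ▸ ho)⟩
  · obtain ⟨hOc, hΦc, hΦp⟩ : O' ≤ Subgroup.center ↥P ∧ frattini ↥P = commutator ↥P ∧
        Nat.card (frattini ↥P) = p := by
      rcases hfacts with h | h | ⟨hcard4, -, hZ, hΦp, hΦc⟩
      · exact absurd ⟨⟨IsPGroup.commutative_of_card_eq_prime_sq h⟩⟩ hab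
      · obtain ⟨hex, hidx⟩ := FusionSys.nonabelian_cube h hab
        have hO : O' = frattini ↥P := by
          refine (Subgroup.eq_of_le_of_card_ge hΦO (le_of_eq ?_)).symm
          have h1 := (frattini ↥P).card_mul_index
          rw [hidx, hcardO] at h1
          exact (Nat.eq_of_mul_eq_mul_right (pow_pos hpp.pos 2) h1).symm
        refine ⟨hO.le.trans hex.1.2.1.le, hex.1.2.1.trans hex.1.2.2.symm, ?_⟩
        rw [hex.1.2.1]; exact hex.2
      · refine ⟨?_, hΦc, hΦp⟩
        letI : CommGroup (FQ P) := { (inferInstance : Group (FQ P)) with mul_comm := FQ_comm hPp }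
        have hΦz : frattini ↥P ≤ Subgroup.center ↥P := by
          by_contra hnle
          have h2 : frattini ↥P ⊓ Subgroup.center ↥P ≠ ⊥ := by
            haveI : Nontrivial (frattini ↥P) := Finite.one_lt_card_iff_nontrivial.1
              (by rw [hΦp]; exact hpp.one_lt)
            exact Cfsg.Agent.PGroup.inf_center_ne_bot hPp (frattini ↥P)
              ((Subgroup.nontrivial_iff_ne_bot _).1 inferInstance)
          have h3 := Subgroup.card_dvd_of_le (inf_le_left : frattini ↥P ⊓ Subgroup.center ↥P ≤ _)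
          rw [hΦp, Nat.dvd_prime hpp] at h3
          rcases h3 with h3 | h3
          · exact h2 (Subgroup.card_eq_one.1 h3)
          · exact hnle ((Subgroup.eq_of_le_of_card_ge inf_le_left
              (le_of_eq (hΦp.trans h3.symm))).ge.trans inf_le_right)
        have hZO : Subgroup.center ↥P ≤ O' := by
          intro w hw
          refine hfixO _ fun a ha => ?_
          obtain ⟨α, hα⟩ := MonoidHom.rangeRestrict_surjective (rho F P) a
          set L := (Subgroup.center ↥P).map mk with hL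
          have hLc : Nat.card L = p := by
            have h1 := (mk.comp (Subgroup.center ↥P).subtype).ker.card_mul_index
            rw [Subgroup.index_ker, MonoidHom.range_comp, Subgroup.range_subtype, ← hL] at h1
            have h2 : (mk.comp (Subgroup.center ↥P).subtype).ker =
                (frattini ↥P).subgroupOf (Subgroup.center ↥P) := by
              rw [← MonoidHom.comap_ker, hmk, QuotientGroup.ker_mk']; rfl
            rw [h2, Nat.card_congr (Subgroup.subgroupOfEquivOfLe hΦz).toEquiv, hΦp, hZ, sq] at h1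
            exact Nat.eq_of_mul_eq_mul_left hpp.pos h1
          have hLinv : ∀ v ∈ L, (a : MulAut (FQ P)) v ∈ L := by
            rintro _ ⟨v, hv, rfl⟩
            refine ⟨(α : MulAut P) v, ?_, ?_⟩
            · exact (Subgroup.characteristic_iff_le_comap.1 inferInstance (α : MulAut P)) hv
            · rw [← hα]; rfl
          by_cases h1 : mk w = 1
          · rw [h1, map_one]
          obtain ⟨k, hk⟩ := LinAux.exists_pow_eq hLc (Subgroup.mem_map_of_mem mk hw) h1 (hLinv _ (Subgroup.mem_map_of_mem mk hw))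
          have hit : ∀ n : ℕ, ((a ^ n : (rho F P).range) : MulAut (FQ P)) (mk w) =
              mk w ^ (k ^ n) := by
            intro n
            induction n with
            | zero => simp
            | succ n ih =>
              rw [pow_succ', Subgroup.coe_mul, MulAut.mul_apply, ih, map_pow, ← hk, ← pow_mul,
                pow_succ']
          have hone := hit p
          rw [ha, OneMemClass.coe_one, MulAut.one_apply] at hone
          have hord : orderOf (mk w) = p := orderOf_eq_prime (FQ_pow hPp _) h1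
          conv_lhs at hone => rw [← pow_one (mk w)]
          rw [pow_eq_pow_iff_modEq, hord, ← ZMod.natCast_eq_natCast_iff, Nat.cast_pow,
            ZMod.pow_card] at hone
          rw [← hk]
          conv_rhs => rw [← pow_one (mk w)]
          rw [pow_eq_pow_iff_modEq, hord, ← ZMod.natCast_eq_natCast_iff]
          exact hone.symm
        refine (Subgroup.eq_of_le_of_card_ge hZO ?_).ge
        refine le_of_eq (Nat.eq_of_mul_eq_mul_right (pow_pos hpp.pos 2) ?_)
        rw [← hcardO, hZ]
        rw [hcard4, ← pow_add]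
    refine ⟨hOc, fun o ho => ?_⟩
    have hne : ⁅z1, z2⁆ ≠ 1 := by
      intro h1
      refine hab ⟨⟨fun a b => ?_⟩⟩
      have hc12 : Commute z1 z2 := commutatorElement_eq_one_iff_commute.1 h1
      obtain ⟨a1, a2, oa, hoa, rfl⟩ := hgen' a
      obtain ⟨b1, b2, ob, hob, rfl⟩ := hgen' b
      have ha' : ∀ w, Commute oa w := fun w => (Subgroup.mem_center_iff.1 (hOc hoa) w).symm
      have hb' : ∀ w, Commute ob w := fun w => (Subgroup.mem_center_iff.1 (hOc hob) w).symm
      have hx : Commute (z1 ^ a1 * z2 ^ a2) (z1 ^ b1 * z2 ^ b2) :=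
        (((Commute.refl z1).pow_pow _ _).mul_right (hc12.pow_pow _ _)).mul_left
          ((hc12.symm.pow_pow _ _).mul_right ((Commute.refl z2).pow_pow _ _))
      exact (((hx.mul_right (hb' _).symm).mul_left (ha' _))).eq
    have hmemc : ⁅z1, z2⁆ ∈ frattini ↥P := hΦc ▸
      Subgroup.commutator_mem_commutator (Subgroup.mem_top _) (Subgroup.mem_top _)
    obtain ⟨k, hk⟩ := LinAux.exists_pow_eq hΦp hmemc hne ho
    exact ⟨k, hk.symm⟩

set_option maxHeartbeats 1600000 in
/-- The frame of an essential subgroup of maximal order. -/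
theorem exists_frame (hS : IsPGroup p S) {F : FusionSystem S} (hF : F.IsSaturated p) (hp : p ≠ 2)
    {P : Subgroup Ω} (hP : F.IsEssential p P) (hT : Transv F p P)
    (hmax : ∀ Q, F.IsEssential p Q → Nat.card Q ≤ Nat.card P)
    (hfacts : Nat.card P = p ^ 2 ∨ Nat.card P = p ^ 3 ∨
      (Nat.card P = p ^ 4 ∧ ¬ IsMulCommutative ↥P ∧ Nat.card (Subgroup.center ↥P) = p ^ 2 ∧
        Nat.card (frattini ↥P) = p ∧ frattini ↥P = commutator ↥P)) :
    ∃ (O : Subgroup S) (x e1 e2 : S), Frame p (P.subgroupOf S) O x e1 e2 := by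
  classical
  have hpp : p.Prime := Fact.out
  have hPS : P ≤ S := hP.1.1
  haveI : Finite P := finite_of_le ‹_› hPS
  have hPp : IsPGroup p P := hS.to_le hPS
  haveI : Finite (normalizerIn S P) := finite_of_le ‹_› (normalizerIn_le P)
  -- the linear data
  obtain ⟨R, Y, hRne, hY, hYn, hmem⟩ := exists_lin_data hS hF hP
  letI : CommGroup (FQ P) := { (inferInstance : Group (FQ P)) with mul_comm := FQ_comm hPp }
  have hnn : ¬ (R : Subgroup (rho F P).range).Normal := fun hn => by
    have := hYn R le_rfl hRne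
    rw [Subgroup.normalizer_eq_top_iff.mpr hn] at this
    exact hY (top_le_iff.1 this)
  obtain ⟨g, hgP, I, hI, hId, hIf⟩ := hT.tv
  set π : normalizerIn S P →* (rho F P).range := (rho F P).rangeRestrict.comp (conjAut F hPS)
    with hπ
  have hπR : π.range = (R : Subgroup (rho F P).range) := by
    ext r
    constructor
    · rintro ⟨y, rfl⟩
      exact (hmem _).2 (mem_autInducedBy.2 ⟨y, y.2.1, fun _ => rfl⟩)
    · intro hr
      obtain ⟨α, rfl⟩ := MonoidHom.rangeRestrict_surjective (rho F P) r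
      obtain ⟨y, hy, hye⟩ := mem_autInducedBy.1 ((hmem α).1 hr)
      refine ⟨⟨y, hy, mem_normalizer_of_conj_eq (α : MulAut P) hye⟩, ?_⟩
      rw [hπ, MonoidHom.comp_apply]
      congr 1
      exact Subtype.ext (MulEquiv.ext fun z => Subtype.ext (hye z).symm)
  have hker : π.ker = P.subgroupOf (normalizerIn S P) := by
    ext y
    rw [MonoidHom.mem_ker, Subgroup.mem_subgroupOf, hπ, MonoidHom.comp_apply,
      ← rho_conjAut_eq_one hS hP y, Subtype.ext_iff]
    rfl
  have hR : Nat.card R = p := by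
    have h1 := π.ker.card_mul_index
    rw [Subgroup.index_ker, hπR, hker,
      Nat.card_congr (Subgroup.subgroupOfEquivOfLe (le_normalizerIn hPS)).toEquiv, hT.card_norm,
      mul_comm p] at h1
    exact Nat.eq_of_mul_eq_mul_left Nat.card_pos h1
  have hu : π g ≠ 1 := fun h => hgP (by
    have := MonoidHom.mem_ker.2 h
    rwa [hker, Subgroup.mem_subgroupOf] at this)
  obtain ⟨i, j, OV, hiI, hgen, hind, hcardV, huj, huO, hfixO, htor⟩ :=
    torus_frame hp (FQ_pow hPp) hR hnn (u := π g) (I := I) ⟨hId, hIf⟩ hI hu (hπR ▸ ⟨g, rfl⟩)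
  set mk := QuotientGroup.mk' (frattini ↥P) with hmk
  obtain ⟨z1, hz1⟩ := QuotientGroup.mk'_surjective (frattini ↥P) i
  obtain ⟨z2, hz2⟩ := QuotientGroup.mk'_surjective (frattini ↥P) j
  set O' : Subgroup P := OV.comap mk with hO'
  have hΦO : frattini ↥P ≤ O' := fun w hw => by
    rw [hO', Subgroup.mem_comap, hmk, QuotientGroup.mk'_apply, (QuotientGroup.eq_one_iff w).2 hw]
    exact one_mem _
  have hgen' : ∀ w : P, ∃ a b : ℕ, ∃ o ∈ O', w = z1 ^ a * z2 ^ b * o := by
    intro w
    obtain ⟨a, b, o, ho, e⟩ := hgen (mk w)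
    refine ⟨a, b, (z1 ^ a * z2 ^ b)⁻¹ * w, ?_, (mul_inv_cancel_left _ _).symm⟩
    rw [hO', Subgroup.mem_comap, map_mul, map_inv, map_mul, map_pow, map_pow, hz1, hz2, e,
      inv_mul_cancel_left]
    exact ho
  have hcardO : Nat.card P = Nat.card O' * p ^ 2 := by
    have h1 := O'.card_mul_index
    have h2 : O'.index = p ^ 2 := by
      rw [hO', Subgroup.index_comap_of_surjective _ (QuotientGroup.mk'_surjective _)]
      have h3 := OV.card_mul_index
      rw [hcardV] at h3
      exact Nat.eq_of_mul_eq_mul_left Nat.card_pos h3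
    rw [← h1, h2]
  -- centrality
  have hkey : O' ≤ Subgroup.center ↥P ∧ ∀ o ∈ frattini ↥P, ∃ k : ℕ, o = ⁅z1, z2⁆ ^ k :=
    frame_central hS hF hP hfacts O' hΦO hgen' hcardO fun w hw => hfixO _ hw
  set ι : P →* S := incl hPS with hι
  have hιinj : Function.Injective ι := Subgroup.inclusion_injective hPS
  have hphi := phi_subgroupOf hS hPS
  have hrel : ∀ a b : P, mk a = mk b → (ι a)⁻¹ * ι b ∈ phi (P.subgroupOf S) := by
    intro a b h
    rw [hphi, ← map_inv, ← map_mul]
    exact ⟨a⁻¹ * b, QuotientGroup.eq.1 h, rfl⟩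
  have hgN : ((⟨g, g.2.1⟩ : S)) ∈ Subgroup.normalizer ((P.subgroupOf S : Subgroup S) : Set S) :=
    Subgroup.mem_normalizer_iff.2 fun z => Subgroup.mem_normalizer_iff.1 g.2.2 z
  have hconj : ∀ w : P, mk ((conjAut F hPS g : MulAut P) w) =
      ((π g : (rho F P).range) : MulAut (FQ P)) (mk w) := fun w => rfl
  have hcomm : ∀ w : P, ⁅(⟨g, g.2.1⟩ : S), ι w⁆ = ι ((conjAut F hPS g : MulAut P) w * w⁻¹) :=
    fun w => Subtype.ext rfl
  refine ⟨O'.map ι, ⟨g, g.2.1⟩, ι z1, ι z2, ?_⟩
  refine
    { sc := fun y hy => ?_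
      x_norm := hgN
      x_nmem := hgP
      card_norm := ?_
      O_le := ?_
      phi_le := hphi.le.trans (Subgroup.map_mono hΦO)
      card_O := ?_
      mem1 := z1.2
      mem2 := z2.2
      gen := fun w hw => ?_
      indep := fun a b h => ?_
      com2 := ?_
      com1 := ?_
      comO := ?_
      O_central := ?_
      phi_gen := ?_
      tor := ?_ }
  · exact hP.1.2 P (isConj_refl F hPS) (mem_centralizerIn.2 ⟨y.2, fun z hz =>
      congrArg Subtype.val (Subgroup.mem_centralizer_iff.1 hy ⟨z, hPS hz⟩ hz)⟩)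
  · rw [card_normalizer_subgroupOf hPS, hT.card_norm,
      Nat.card_congr (Subgroup.subgroupOfEquivOfLe hPS).toEquiv]
  · rintro _ ⟨w, -, rfl⟩; exact w.2
  · rw [Subgroup.card_map_of_injective hιinj,
      Nat.card_congr (Subgroup.subgroupOfEquivOfLe hPS).toEquiv, hcardO]
  · obtain ⟨a, b, o, ho, e⟩ := hgen' ⟨w, hw⟩
    refine ⟨a, b, ι o, ⟨o, ho, rfl⟩, ?_⟩
    rw [← map_pow, ← map_pow, ← map_mul, ← map_mul, ← e]
    rfl
  · rw [← map_pow, ← map_pow, ← map_mul, Subgroup.mem_map_iff_mem hιinj, hO', Subgroup.mem_comap,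
      map_mul, map_pow, map_pow, hz1, hz2] at h
    exact hind a b h
  · rw [hcomm]
    refine hrel _ _ ?_
    rw [map_mul, map_inv, hconj, hz1, hz2, huj, mul_comm j, mul_inv_cancel_right]
  · rw [hcomm, hphi]
    refine ⟨_, (QuotientGroup.eq_one_iff _).1 ?_, rfl⟩
    show mk _ = 1
    rw [map_mul, map_inv, hconj, hz1, show ((π g : (rho F P).range) : MulAut (FQ P)) i = i from hIf i hiI]
    exact mul_inv_cancel _
  · rintro _ ⟨o, ho, rfl⟩
    rw [hcomm, hphi]
    refine ⟨_, (QuotientGroup.eq_one_iff _).1 ?_, rfl⟩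
    show mk _ = 1
    rw [map_mul, map_inv, hconj, huO _ ho]
    exact mul_inv_cancel _
  · rintro _ ⟨o, ho, rfl⟩ w hw
    exact (congrArg ι (Subgroup.mem_center_iff.1 (hkey.1 ho) ⟨w, hw⟩)).symm
  · rw [hphi]
    rintro _ ⟨o, ho, rfl⟩
    obtain ⟨k, rfl⟩ := hkey.2 o ho
    exact ⟨k, by rw [map_pow, map_commutatorElement]⟩
  · intro l m hlm
    obtain ⟨α, hαn, hαi, hαj, hαO⟩ := htor l m hlm
    obtain ⟨a, ha⟩ := MonoidHom.rangeRestrict_surjective (rho F P) α
    obtain ⟨ψ, -, hψ⟩ := exists_autS_ext hS hF hP (c := Nat.card P) hmax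
      (by
        rw [hT.card_norm]
        calc Nat.card P = 1 * Nat.card P := (one_mul _).symm
          _ < p * Nat.card P := Nat.mul_lt_mul_of_pos_right hpp.one_lt Nat.card_pos)
      a.2 (fun β hβ => by
        have hβA : β ∈ F.autGroup P := autInducedBy_le_autGroup F hPS hβ
        refine (hmem (a * ⟨β, hβA⟩ * a⁻¹)).1 ?_
        rw [map_mul, map_mul, map_inv, ha]
        exact (Subgroup.mem_normalizer_iff.1 hαn _).1 ((hmem ⟨β, hβA⟩).2 hβ))
    have hψι : ∀ w : P, ψ (ι w) = ι ((a : MulAut P) w) := fun w => Subtype.ext (hψ w).symm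
    have hαmk : ∀ w : P, mk ((a : MulAut P) w) = (α : MulAut (FQ P)) (mk w) := fun w => by
      rw [← ha]; rfl
    refine ⟨ψ, fun w hw => ?_, ?_, ?_, ?_⟩
    · rw [show w = ι ⟨w, hw⟩ from Subtype.ext rfl, hψι]
      exact ((a : MulAut P) _).2
    · rw [hψι, ← map_pow]
      exact hrel _ _ (by rw [map_pow, hαmk, hz1, hαi])
    · rw [hψι, ← map_pow]
      exact hrel _ _ (by rw [map_pow, hαmk, hz2, hαj])
    · rintro _ ⟨o, ho, rfl⟩
      rw [hψι]
      exact hrel _ _ (by rw [hαmk, hαO _ ho])

end Cfsg.Agent.PFifth
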