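import Mathlib

/-!
Groups of order `p ^ 5` with a self-centralising subgroup carrying a torus: definitions (S5264).
-/

set_option autoImplicit false

open scoped commutatorElement

namespace Cfsg.Agent.PFifth

variable {G : Type*} [Group G]

/-- The Frattini subgroup of a subgroup, inside the group. -/
abbrev phi (P : Subgroup G) : Subgroup G := (frattini ↥P).map P.subtype

/-- An automorphism of `G` respecting a frame `(O, e1, e2)` of `P`, with multipliers `l` and `m`. -/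
structure IsTorus (P O : Subgroup G) (e1 e2 : G) (l m : ℕ) (ψ : MulAut G) : Prop where
  map_P : ∀ w ∈ P, ψ w ∈ P
  map1 : (e1 ^ l)⁻¹ * ψ e1 ∈ phi P
  map2 : (e2 ^ m)⁻¹ * ψ e2 ∈ phi P
  mapO : ∀ o ∈ O, o⁻¹ * ψ o ∈ phi P

/-- A self-centralising subgroup `P` on whose Frattini quotient an element `x` of its normaliser
acts as a transvection, together with its tori. -/
structure Frame (p : ℕ) (P O : Subgroup G) (x e1 e2 : G) : Prop where
  sc : Subgroup.centralizer (P : Set G) ≤ P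
  x_norm : x ∈ Subgroup.normalizer (P : Set G)
  x_nmem : x ∉ P
  card_norm : Nat.card (Subgroup.normalizer (P : Set G)) = p * Nat.card P
  O_le : O ≤ P
  phi_le : phi P ≤ O
  card_O : Nat.card P = Nat.card O * p ^ 2
  mem1 : e1 ∈ P
  mem2 : e2 ∈ P
  gen : ∀ w ∈ P, ∃ i j : ℕ, ∃ o ∈ O, w = e1 ^ i * e2 ^ j * o
  indep : ∀ i j : ℕ, e1 ^ i * e2 ^ j ∈ O → p ∣ i ∧ p ∣ j
  com2 : e1⁻¹ * ⁅x, e2⁆ ∈ phi P
  com1 : ⁅x, e1⁆ ∈ phi P
  comO : ∀ o ∈ O, ⁅x, o⁆ ∈ phi P
  O_central : ∀ o ∈ O, ∀ w ∈ P, o * w = w * o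
  phi_gen : ∀ o ∈ phi P, ∃ k : ℕ, o = ⁅e1, e2⁆ ^ k
  tor : ∀ l m : ℕ, ((l * m : ℕ) : ZMod p) = 1 → ∃ ψ : MulAut G, IsTorus P O e1 e2 l m ψ

/-- A frame with an involution inverting `e1`, `e2` and fixing `x` and every element of `O`. -/
structure Signed (p : ℕ) (P O : Subgroup G) (x e1 e2 : G) (τ : MulAut G) : Prop
    extends Frame p P O x e1 e2 where
  sq : τ * τ = 1
  sP : ∀ w ∈ P, τ w ∈ P
  s1 : τ e1 = e1⁻¹
  s2 : τ e2 = e2⁻¹
  sx : τ x = x
  sO : ∀ o ∈ O, τ o = o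

/-- The conclusion of each case: an abelian subgroup of index `p`, or, for `p = 3`, an element
outside the Frattini subgroup fixed modulo it by every automorphism. -/
def Goal (p : ℕ) (G : Type*) [Group G] : Prop :=
  (∃ A : Subgroup G, IsMulCommutative ↥A ∧ A.index = p) ∨
    (p = 3 ∧ ∃ z : G, z ∉ frattini G ∧ ∀ ψ : MulAut G, z⁻¹ * ψ z ∈ frattini G)

end Cfsg.Agent.PFifth
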