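import Mathlib
import Cfsg.Agent.PGroup.Frattini

/-!
A 3-group with an element outside the Frattini subgroup fixed modulo it by every automorphism (S5264).
-/

set_option autoImplicit false

open scoped commutatorElement

namespace Cfsg.Agent.PFifth

namespace Fix

variable {G : Type*} [Group G]

theorem comm_mul_of_central {G : Type*} [Group G] {x g₁ g₂ : G} (hc : ∀ g : G, ⁅x, g₂⁆ * g = g * ⁅x, g₂⁆) :
    ⁅x, g₁ * g₂⁆ = ⁅x, g₁⁆ * ⁅x, g₂⁆ := by
  have e : ⁅x, g₁ * g₂⁆ = ⁅x, g₁⁆ * (g₁ * ⁅x, g₂⁆ * g₁⁻¹) := by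
    simp only [commutatorElement_def]; group
  rw [e, ← hc g₁, mul_assoc ⁅x, g₂⁆, mul_inv_cancel, mul_one]

/-- Commutation with a fixed element whose commutators are central. -/
def commHom (x : G) (hx : ∀ g g' : G, ⁅x, g⁆ * g' = g' * ⁅x, g⁆) : G →* G where
  toFun g := ⁅x, g⁆
  map_one' := commutatorElement_one_right x
  map_mul' _ g₂ := comm_mul_of_central (hx g₂)

theorem pow_pow_comm {H K F : G} (hF : ∀ y, F * y = y * F) (hHK : H * K = F * (K * H))
    (a b : ℕ) : H ^ a * K ^ b = F ^ (a * b) * (K ^ b * H ^ a) := by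
  have hFn : ∀ (n : ℕ) y, F ^ n * y = y * F ^ n := fun n y => (Commute.pow_left (hF y) n).eq
  have h1 : ∀ b : ℕ, H * K ^ b = F ^ b * (K ^ b * H) := by
    intro b
    induction b with
    | zero => simp
    | succ b ih =>
      calc H * K ^ (b + 1) = H * K ^ b * K := by rw [pow_succ, mul_assoc]
        _ = F ^ b * (K ^ b * (H * K)) := by rw [ih]; simp only [mul_assoc]
        _ = F ^ b * ((K ^ b * F) * (K * H)) := by rw [hHK]; simp only [mul_assoc]
        _ = F ^ b * ((F * K ^ b) * (K * H)) := by rw [hF]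
        _ = F ^ (b + 1) * (K ^ (b + 1) * H) := by simp only [pow_succ, mul_assoc]
  induction a with
  | zero => simp
  | succ a ih =>
    calc H ^ (a + 1) * K ^ b = H ^ a * (H * K ^ b) := by rw [pow_succ, mul_assoc]
      _ = (H ^ a * F ^ b) * (K ^ b * H) := by rw [h1, mul_assoc]
      _ = F ^ b * (H ^ a * K ^ b) * H := by rw [← hFn]; simp only [mul_assoc]
      _ = F ^ b * F ^ (a * b) * (K ^ b * (H ^ a * H)) := by rw [ih]; simp only [mul_assoc]
      _ = _ := by rw [← pow_add, ← pow_succ, show b + a * b = (a + 1) * b by ring]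

theorem pow_mem_of_three_dvd {N : Subgroup G} {x : G} {a : ℕ} (hx : x ^ 3 ∈ N) (ha : 3 ∣ a) :
    x ^ a ∈ N := by
  obtain ⟨d, rfl⟩ := ha
  rw [pow_mul]
  exact pow_mem hx d

/-- In a 3-group a prime-to-3 power generates the same cyclic subgroup. -/
theorem mem_of_pow_mem (hG : IsPGroup 3 G) {N : Subgroup G} {x : G} {a : ℕ} (hx : x ^ a ∈ N)
    (ha : ¬ 3 ∣ a) : x ∈ N := by
  obtain ⟨m, hm⟩ := hG x
  have hco : a.Coprime (orderOf x) := Nat.Coprime.coprime_dvd_right (orderOf_dvd_of_pow_eq_one hm)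
    ((((Nat.Prime.coprime_iff_not_dvd Nat.prime_three).mpr ha).symm).pow_right m)
  obtain ⟨y, hy⟩ := exists_pow_eq_self_of_coprime hco
  rw [← hy]
  exact pow_mem hx y

theorem comm_word {H K F W₁ W₂ : G} (hF : ∀ y, F * y = y * F) (hHK : H * K = F * (K * H))
    (h₁ : ∀ y, W₁ * y = y * W₁) (h₂ : ∀ y, W₂ * y = y * W₂) (a m b : ℕ) :
    ⁅H ^ a * K ^ m * W₁, K ^ b * W₂⁆ = F ^ (a * b) := by
  have absorb : ∀ X Y W : G, (∀ y, W * y = y * W) → ⁅X * W, Y⁆ = ⁅X, Y⁆ := by
    intro X Y W hW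
    rw [commutatorElement_def, commutatorElement_def, mul_assoc X W Y, hW Y]
    group
  have absorb' : ∀ X Y W : G, (∀ y, W * y = y * W) → ⁅X, Y * W⁆ = ⁅X, Y⁆ := by
    intro X Y W hW
    rw [← commutatorElement_inv (Y * W) X, absorb Y X W hW, commutatorElement_inv]
  rw [absorb _ _ _ h₁, absorb' _ _ _ h₂,
    show ⁅H ^ a * K ^ m, K ^ b⁆ = H ^ a * (K ^ m * K ^ b * (K ^ m)⁻¹) * (H ^ a)⁻¹ * (K ^ b)⁻¹ by
      rw [commutatorElement_def]; group,
    (Commute.pow_pow_self K m b).eq, mul_inv_cancel_right, pow_pow_comm hF hHK]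
  group

theorem zmod_key : ∀ A B T E : ZMod 3,
    A * (A * B) * T = T * (B * E) → T ≠ 0 → A * B ≠ 0 → E = 1 := by
  decide

end Fix

open Cfsg.Agent.PFifth.Fix in
/-- The element `z` is fixed modulo the Frattini subgroup by every automorphism. -/
theorem fix_goal {G : Type*} [Group G] [Finite G] (hG : IsPGroup 3 G) {h k z c : G}
    (hc : ∀ g, c * g = g * c) (hc3 : c ^ 3 = 1)
    (hgen : Subgroup.closure {h, k, ⁅h, k⁆, z, c} = ⊤) (fk : ⁅⁅h, k⁆, k⁆ = 1)
    (fh : ⁅⁅h, k⁆, h⁆ ∈ Subgroup.zpowers c) (fh1 : ⁅⁅h, k⁆, h⁆ ≠ 1) (zh : ⁅z, h⁆ = 1)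
    (zk : ⁅z, k⁆ ∈ Subgroup.zpowers c) (zk1 : ⁅z, k⁆ ≠ 1)
    (hh : h ^ 3 ∈ Subgroup.closure {⁅h, k⁆, c}) (hk : k ^ 3 ∈ Subgroup.closure {⁅h, k⁆, c})
    (hz : z ^ 3 ∈ Subgroup.closure {⁅h, k⁆, c}) (hzK : z ∉ Subgroup.closure {⁅h, k⁆, c}) :
    ∃ z : G, z ∉ frattini G ∧ ∀ ψ : MulAut G, z⁻¹ * ψ z ∈ frattini G := by
  set f := ⁅h, k⁆ with hf
  set K := Subgroup.closure {f, c} with hKdef
  set μ := ⁅f, h⁆ with hμ
  set κ := ⁅z, k⁆ with hκ
  set C := Subgroup.zpowers c with hC
  have : Fact (Nat.Prime 3) := ⟨Nat.prime_three⟩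
  have Ccen : ∀ x ∈ C, ∀ g, x * g = g * x := by
    rintro _ ⟨i, rfl⟩ g
    exact (Commute.zpow_left (hc g) i).eq
  have hCn : C.Normal := ⟨fun x hx g => by
    rw [← Ccen x hx g, mul_assoc, mul_inv_cancel, mul_one]; exact hx⟩
  have C3 : ∀ x ∈ C, x ^ 3 = 1 := by
    rintro _ ⟨i, rfl⟩
    show (c ^ i) ^ 3 = 1
    rw [← zpow_natCast, ← zpow_mul, mul_comm, zpow_mul, zpow_natCast, hc3, one_zpow]
  have fK : f ∈ K := Subgroup.subset_closure (by simp)
  have cK : c ∈ K := Subgroup.subset_closure (by simp)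
  have CK : C ≤ K := Subgroup.zpowers_le.mpr cK
  -- `z` commutes with `f`
  have hzf : z * f = f * z := by
    have e1 : z * h = h * z := commutatorElement_eq_one_iff_mul_comm.mp zh
    have e2 : z * k * z⁻¹ = κ * k := by rw [hκ, commutatorElement_def]; group
    have e : z * f * z⁻¹ = f := by
      calc z * f * z⁻¹ = ⁅z * h * z⁻¹, z * k * z⁻¹⁆ := by
            rw [hf, commutatorElement_def, commutatorElement_def]; group
        _ = ⁅h, κ * k⁆ := by rw [e1, e2, mul_assoc, mul_inv_cancel, mul_one]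
        _ = f := by
          rw [hf, commutatorElement_def, commutatorElement_def,
            show h * (κ * k) = κ * (h * k) by rw [← mul_assoc, ← Ccen κ zk h, mul_assoc]]
          rw [show κ * (h * k) * h⁻¹ * (κ * k)⁻¹ = κ * (h * k * h⁻¹ * k⁻¹) * κ⁻¹ by group,
            Ccen κ zk, mul_assoc, mul_inv_cancel, mul_one]
    calc z * f = z * f * z⁻¹ * z := by group
      _ = f * z := by rw [e]
  -- modulo `C`, the elements `f` and `z` are central
  set q := QuotientGroup.mk' C with hq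
  have qsurj : Function.Surjective q := QuotientGroup.mk'_surjective C
  have qC : ∀ x, q x = 1 ↔ x ∈ C := fun x => QuotientGroup.eq_one_iff x
  have qcomm : ∀ x y : G, ⁅x, y⁆ ∈ C → q x * q y = q y * q x := fun x y hxy => by
    rw [← commutatorElement_eq_one_iff_mul_comm, ← map_commutatorElement]
    exact (qC _).mpr hxy
  have qcen : ∀ x : G, ⁅x, h⁆ ∈ C → ⁅x, k⁆ ∈ C → ⁅x, f⁆ ∈ C → ⁅x, z⁆ ∈ C →
      ∀ g : G, ⁅x, g⁆ ∈ C := by
    intro x h1 h2 h3 h4 g
    have hle : Subgroup.closure {h, k, f, z, c} ≤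
        (Subgroup.centralizer ({q x} : Set (G ⧸ C))).comap q := by
      rw [Subgroup.closure_le]
      intro y hy
      simp only [Set.mem_insert_iff, Set.mem_singleton_iff] at hy
      simp only [Subgroup.coe_comap, Set.mem_preimage, SetLike.mem_coe,
        Subgroup.mem_centralizer_singleton_iff]
      refine (qcomm x y ?_).symm
      rcases hy with rfl | rfl | rfl | rfl | rfl
      · exact h1
      · exact h2
      · exact h3
      · exact h4
      · rw [show ⁅x, y⁆ = 1 from commutatorElement_eq_one_iff_mul_comm.mpr (hc x).symm]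
        exact one_mem _
    rw [hgen] at hle
    have := hle (Subgroup.mem_top g)
    rw [Subgroup.mem_comap, Subgroup.mem_centralizer_singleton_iff] at this
    rw [← qC, map_commutatorElement, commutatorElement_eq_one_iff_mul_comm]
    exact this.symm
  have inv_comm : ∀ {x y : G}, ⁅x, y⁆ ∈ C → ⁅y, x⁆ ∈ C := fun {x y} hxy => by
    rw [← commutatorElement_inv]; exact inv_mem hxy
  have cf : ∀ g : G, ⁅f, g⁆ ∈ C := qcen f fh (by rw [fk]; exact one_mem _)
    (by rw [commutatorElement_self]; exact one_mem _)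
    (by rw [commutatorElement_eq_one_iff_mul_comm.mpr hzf.symm]; exact one_mem _)
  have cz : ∀ g : G, ⁅z, g⁆ ∈ C := qcen z (by rw [zh]; exact one_mem _) zk
    (by rw [commutatorElement_eq_one_iff_mul_comm.mpr hzf]; exact one_mem _)
    (by rw [commutatorElement_self]; exact one_mem _)
  have Fc : ∀ y, q f * y = y * q f := fun y => by
    obtain ⟨g, rfl⟩ := qsurj y; exact qcomm f g (cf g)
  have Zc : ∀ y, q z * y = y * q z := fun y => by
    obtain ⟨g, rfl⟩ := qsurj y; exact qcomm z g (cz g)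
  -- the subgroup `K`
  have Kform : ∀ x ∈ K, ∃ i : ℤ, q x = q f ^ i := by
    intro x hx
    have hle : K ≤ (Subgroup.zpowers (q f)).comap q := by
      rw [hKdef, Subgroup.closure_le]
      intro y hy
      simp only [Set.mem_insert_iff, Set.mem_singleton_iff] at hy
      rcases hy with rfl | rfl
      · exact ⟨1, zpow_one _⟩
      · refine ⟨0, ?_⟩
        show q f ^ (0 : ℤ) = _
        rw [zpow_zero]
        exact ((qC _).mpr (Subgroup.mem_zpowers y)).symm
    obtain ⟨i, hi⟩ := hle hx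
    exact ⟨i, hi.symm⟩
  have Kc : ∀ x ∈ K, ∀ g : G, ⁅x, g⁆ ∈ C := by
    intro x hx g
    obtain ⟨i, hi⟩ := Kform x hx
    rw [← qC, map_commutatorElement, commutatorElement_eq_one_iff_mul_comm, hi]
    exact (Commute.zpow_left (Fc (q g)) i).eq
  have hKn : K.Normal := ⟨fun x hx g => by
    have e : g * x * g⁻¹ = ⁅g, x⁆ * x := by rw [commutatorElement_def]; group
    rw [e]
    exact mul_mem (CK (inv_comm (Kc x hx g))) hx⟩
  set π := QuotientGroup.mk' K with hπ
  have πK : ∀ x, π x = 1 ↔ x ∈ K := fun x => QuotientGroup.eq_one_iff x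
  have hab : ∀ x y : G, ⁅x, y⁆ ∈ K := by
    have gens : ∀ x ∈ ({h, k, f, z, c} : Set G), ∀ y ∈ ({h, k, f, z, c} : Set G), ⁅x, y⁆ ∈ K := by
      intro x hx y hy
      have P : ∀ {x y : G}, ⁅x, y⁆ ∈ C → ⁅x, y⁆ ∈ K ∧ ⁅y, x⁆ ∈ K :=
        fun hxy => ⟨CK hxy, CK (inv_comm hxy)⟩
      have cC : ∀ g : G, ⁅c, g⁆ ∈ C := fun g => by
        rw [commutatorElement_eq_one_iff_mul_comm.mpr (hc g)]; exact one_mem _
      simp only [Set.mem_insert_iff, Set.mem_singleton_iff] at hx hy
      rcases hx with rfl | rfl | rfl | rfl | rfl <;> rcases hy with rfl | rfl | rfl | rfl | rfl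
      all_goals first
        | exact fK
        | (rw [commutatorElement_self]; exact one_mem _)
        | exact (P (cf _)).1
        | exact (P (cf _)).2
        | exact (P (cz _)).1
        | exact (P (cz _)).2
        | exact (P (cC _)).1
        | exact (P (cC _)).2
        | (rw [← commutatorElement_inv]; exact inv_mem fK)
    have hle : ∀ y ∈ ({h, k, f, z, c} : Set G), ∀ x, π x * π y = π y * π x := by
      intro y hy x
      have : Subgroup.closure {h, k, f, z, c} ≤
          (Subgroup.centralizer ({π y} : Set (G ⧸ K))).comap π := by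
        rw [Subgroup.closure_le]
        intro w hw
        simp only [Subgroup.coe_comap, Set.mem_preimage, SetLike.mem_coe,
          Subgroup.mem_centralizer_singleton_iff]
        rw [← commutatorElement_eq_one_iff_mul_comm, ← map_commutatorElement]
        exact (πK _).mpr (gens w hw y hy)
      rw [hgen] at this
      have := this (Subgroup.mem_top x)
      rwa [Subgroup.mem_comap, Subgroup.mem_centralizer_singleton_iff] at this
    intro x y
    have : Subgroup.closure {h, k, f, z, c} ≤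
        (Subgroup.centralizer ({π x} : Set (G ⧸ K))).comap π := by
      rw [Subgroup.closure_le]
      intro w hw
      simp only [Subgroup.coe_comap, Set.mem_preimage, SetLike.mem_coe,
        Subgroup.mem_centralizer_singleton_iff]
      exact (hle w hw x).symm
    rw [hgen] at this
    have := this (Subgroup.mem_top y)
    rw [Subgroup.mem_comap, Subgroup.mem_centralizer_singleton_iff] at this
    rw [← πK, map_commutatorElement, commutatorElement_eq_one_iff_mul_comm]
    exact this.symm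
  have qcommK : ∀ x y, π x * π y = π y * π x := fun x y => by
    rw [← commutatorElement_eq_one_iff_mul_comm, ← map_commutatorElement]
    exact (πK _).mpr (hab x y)
  let _ : CommGroup (G ⧸ K) :=
    { (inferInstance : Group (G ⧸ K)) with
      mul_comm := fun x y => by
        obtain ⟨a, rfl⟩ := QuotientGroup.mk'_surjective K x
        obtain ⟨b, rfl⟩ := QuotientGroup.mk'_surjective K y
        exact qcommK a b }
  -- coordinates
  have coord : ∀ g : G, ∃ a b e : ℕ, ∃ u ∈ K, g = h ^ a * k ^ b * z ^ e * u := by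
    intro g
    have key : ∀ g : G, ∃ a b e : ℕ, π g = π h ^ a * π k ^ b * π z ^ e := by
      intro g
      have hg : g ∈ Submonoid.closure ({h, k, f, z, c} : Set G) := by
        rw [← Subgroup.closure_toSubmonoid_of_finite, Subgroup.mem_toSubmonoid, hgen]
        exact Subgroup.mem_top g
      induction hg using Submonoid.closure_induction with
      | mem x hx =>
        simp only [Set.mem_insert_iff, Set.mem_singleton_iff] at hx
        rcases hx with rfl | rfl | rfl | rfl | rfl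
        · exact ⟨1, 0, 0, by simp⟩
        · exact ⟨0, 1, 0, by simp⟩
        · exact ⟨0, 0, 0, by simpa using (πK _).mpr fK⟩
        · exact ⟨0, 0, 1, by simp⟩
        · exact ⟨0, 0, 0, by simpa using (πK _).mpr cK⟩
      | one => exact ⟨0, 0, 0, by simp⟩
      | mul x y _ _ hx hy =>
        obtain ⟨a, b, e, hx⟩ := hx
        obtain ⟨a', b', e', hy⟩ := hy
        refine ⟨a + a', b + b', e + e', ?_⟩
        rw [map_mul, hx, hy, pow_add, pow_add, pow_add]
        ac_rfl
    obtain ⟨a, b, e, he⟩ := key g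
    refine ⟨a, b, e, (h ^ a * k ^ b * z ^ e)⁻¹ * g, (πK _).mp ?_, by group⟩
    rw [map_mul, map_inv, map_mul, map_mul, map_pow, map_pow, map_pow, he, inv_mul_cancel]
  -- the Frattini subgroup
  have hex : ∀ g : G, g ^ 3 ∈ K := by
    intro g
    obtain ⟨a, b, e, u, hu, rfl⟩ := coord g
    rw [← πK, map_pow, map_mul, map_mul, map_mul, map_pow, map_pow, map_pow, (πK u).mpr hu,
      mul_one, mul_pow, mul_pow, pow_right_comm, pow_right_comm (π k), pow_right_comm (π z),
      ← map_pow, ← map_pow π k, ← map_pow π z, (πK _).mpr hh, (πK _).mpr hk, (πK _).mpr hz]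
    simp
  have hzF : z ∉ frattini G := by
    obtain ⟨L, ⟨hKL, hzL⟩, hLmax⟩ := Set.Finite.exists_maximal
      (Set.toFinite {L : Subgroup G | K ≤ L ∧ z ∉ L}) ⟨K, le_rfl, hzK⟩
    have hgz : ∀ g, g ∈ L ⊔ Subgroup.zpowers z := by
      intro g
      by_contra hg
      have hgL : g ∉ L := fun h' => hg (Subgroup.mem_sup_left h')
      have hlt : L < L ⊔ Subgroup.zpowers g := lt_of_le_of_ne le_sup_left fun e =>
        hgL (e.symm ▸ Subgroup.mem_sup_right (Subgroup.mem_zpowers g))
      have hzL' : z ∈ L ⊔ Subgroup.zpowers g := by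
        by_contra hz'
        exact not_le_of_gt hlt (hLmax ⟨hKL.trans le_sup_left, hz'⟩ le_sup_left)
      have hLn : L.Normal := ⟨fun x hx y => by
        rw [show y * x * y⁻¹ = ⁅y, x⁆ * x by rw [commutatorElement_def]; group]
        exact mul_mem (hKL (hab y x)) hx⟩
      obtain ⟨l, hl, y, hy, e⟩ := Subgroup.mem_sup_of_normal_left.mp hzL'
      obtain ⟨i, rfl⟩ := hy
      replace e : l * g ^ i = z := e
      have hg3 : ∀ j : ℤ, g ^ (3 * j) ∈ L := fun j => by
        rw [zpow_mul, show (3 : ℤ) = ((3 : ℕ) : ℤ) from rfl, zpow_natCast]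
        exact zpow_mem (hKL (hex g)) j
      by_cases hi : (3 : ℤ) ∣ i
      · obtain ⟨j, rfl⟩ := hi
        exact hzL (e ▸ mul_mem hl (hg3 j))
      · obtain ⟨u, v, huv⟩ := (Int.prime_three.coprime_iff_not_dvd).mpr hi
        refine hg ?_
        have : g = g ^ (3 * u) * (g ^ i) ^ v := by
          rw [← zpow_mul, ← zpow_add, mul_comm 3 u, mul_comm i v, huv, zpow_one]
        rw [this]
        refine mul_mem (Subgroup.mem_sup_left (hg3 u)) (zpow_mem ?_ v)
        rw [show g ^ i = l⁻¹ * z by rw [← e]; group]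
        exact mul_mem (inv_mem (Subgroup.mem_sup_left hl))
          (Subgroup.mem_sup_right (Subgroup.mem_zpowers z))
    have hco : IsCoatom L := by
      refine ⟨fun e => hzL (e ▸ Subgroup.mem_top z), fun M hM => ?_⟩
      have hzM : z ∈ M := by
        by_contra hz'
        exact not_le_of_gt hM (hLmax ⟨hKL.trans hM.le, hz'⟩ hM.le)
      exact eq_top_iff.mpr fun g _ => sup_le hM.le (Subgroup.zpowers_le.mpr hzM) (hgz g)
    exact fun hzF => hzL (frattini_le_coatom hco hzF)
  have KF : K ≤ frattini G := by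
    have hcom : ∀ x y : G, ⁅x, y⁆ ∈ frattini G := fun x y =>
      Cfsg.Agent.PGroup.commutator_le_frattini hG
        (Subgroup.commutator_mem_commutator (Subgroup.mem_top x) (Subgroup.mem_top y))
    have hfF : f ∈ frattini G := hcom h k
    have hμF : μ ∈ frattini G := hcom f h
    have hcF : c ∈ frattini G := by
      obtain ⟨i, hi⟩ := fh
      replace hi : c ^ i = μ := hi
      have hi3 : ¬ (3 : ℤ) ∣ i := by
        rintro ⟨j, rfl⟩
        apply fh1
        rw [← hi, zpow_mul, show (3 : ℤ) = ((3 : ℕ) : ℤ) from rfl, zpow_natCast, hc3, one_zpow]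
      obtain ⟨u, v, huv⟩ := (Int.prime_three.coprime_iff_not_dvd).mpr hi3
      have : c = μ ^ v := by
        rw [← hi, ← zpow_mul]
        conv_lhs => rw [← zpow_one c, ← huv, zpow_add, mul_comm u 3, zpow_mul,
          show (3 : ℤ) = ((3 : ℕ) : ℤ) from rfl, zpow_natCast, hc3, one_zpow, one_mul, mul_comm]
      rw [this]
      exact zpow_mem hμF v
    rw [hKdef, Subgroup.closure_le]
    intro y hy
    simp only [Set.mem_insert_iff, Set.mem_singleton_iff] at hy
    rcases hy with rfl | rfl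
    exacts [hfF, hcF]
  refine ⟨z, hzF, fun ψ => KF ?_⟩
  -- the commutator maps of `f` and `z`
  let χf : G →* G := commHom f fun g g' => Ccen _ (cf g) g'
  let χz : G →* G := commHom z fun g g' => Ccen _ (cz g) g'
  have χfK : ∀ u ∈ K, χf u = 1 := by
    intro u hu
    refine (Subgroup.closure_le χf.ker).mpr ?_ hu
    intro y hy
    simp only [Set.mem_insert_iff, Set.mem_singleton_iff] at hy
    rcases hy with rfl | rfl
    · exact commutatorElement_self f
    · exact commutatorElement_eq_one_iff_mul_comm.mpr (hc f).symm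
  have χzK : ∀ u ∈ K, χz u = 1 := by
    intro u hu
    refine (Subgroup.closure_le χz.ker).mpr ?_ hu
    intro y hy
    simp only [Set.mem_insert_iff, Set.mem_singleton_iff] at hy
    rcases hy with rfl | rfl
    · exact commutatorElement_eq_one_iff_mul_comm.mpr hzf
    · exact commutatorElement_eq_one_iff_mul_comm.mpr (hc z).symm
  have ef : ∀ (a b e : ℕ) (u : G), u ∈ K → ⁅f, h ^ a * k ^ b * z ^ e * u⁆ = μ ^ a := by
    intro a b e u hu
    show χf _ = _
    rw [map_mul, map_mul, map_mul, map_pow, map_pow, map_pow, χfK u hu,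
      show χf h = μ from rfl, show χf k = 1 from fk,
      show χf z = 1 from commutatorElement_eq_one_iff_mul_comm.mpr hzf.symm]
    simp
  have ez : ∀ (a b e : ℕ) (u : G), u ∈ K → ⁅z, h ^ a * k ^ b * z ^ e * u⁆ = κ ^ b := by
    intro a b e u hu
    show χz _ = _
    rw [map_mul, map_mul, map_mul, map_pow, map_pow, map_pow, χzK u hu,
      show χz k = κ from rfl, show χz h = 1 from zh,
      show χz z = 1 from commutatorElement_self z]
    simp
  have oμ : orderOf μ = 3 := orderOf_eq_prime (C3 μ fh) fh1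
  have oκ : orderOf κ = 3 := orderOf_eq_prime (C3 κ zk) zk1
  have fC : f ∉ C := fun hfC => fh1 (commutatorElement_eq_one_iff_mul_comm.mpr (Ccen f hfC h))
  have qnat : ∀ x ∈ K, ∃ i : ℕ, q x = q f ^ i := fun x hx => by
    obtain ⟨i, hi⟩ := Kform x hx
    obtain ⟨n, hn⟩ := (mem_powers_iff_mem_zpowers (x := q f) (y := q f ^ i)).mpr ⟨i, rfl⟩
    exact ⟨n, by rw [hi]; exact hn.symm⟩
  have hdf : ∀ a, q f ^ a = 1 → 3 ∣ a := fun a ha => by
    by_contra h3
    exact fC (mem_of_pow_mem hG ((qC _).mp (by rw [map_pow]; exact ha)) h3)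
  have hHK : q h * q k = q f * (q k * q h) := by
    rw [← map_mul, ← map_mul, ← map_mul, hf, commutatorElement_def]; congr 1; group
  have qword : ∀ (a b e : ℕ) (u : G), u ∈ K → ∃ w : G ⧸ C, (∀ y, w * y = y * w) ∧
      q (h ^ a * k ^ b * z ^ e * u) = q h ^ a * q k ^ b * w := by
    intro a b e u hu
    obtain ⟨i, hi⟩ := qnat u hu
    refine ⟨q z ^ e * q f ^ i,
      fun y => (Commute.mul_left (Commute.pow_left (Zc y) e) (Commute.pow_left (Fc y) i)).eq, ?_⟩
    rw [map_mul, map_mul, map_mul, map_pow, map_pow, map_pow, hi]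
    simp only [mul_assoc]
  have qCd : ∀ {x : G}, x ∈ C → ∀ g, q x * g = g * q x := fun hx g => by
    rw [(qC _).mpr hx, one_mul, mul_one]
  obtain ⟨a, m, e₁, u₁, hu₁, hψh⟩ := coord (ψ h)
  obtain ⟨n, b, e₂, u₂, hu₂, hψk⟩ := coord (ψ k)
  obtain ⟨a₃, b₃, e, u, hu, hψz⟩ := coord (ψ z)
  -- `ψ` keeps `f` modulo `C`
  have hψf : ψ f ∈ K := by rw [hf, map_commutatorElement]; exact hab _ _
  obtain ⟨D, hD⟩ := qnat (ψ f) hψf
  obtain ⟨d, hd, hψf'⟩ : ∃ d ∈ C, ψ f = f ^ D * d :=
    ⟨(f ^ D)⁻¹ * ψ f, (qC _).mp (by rw [map_mul, map_inv, map_pow, hD, inv_mul_cancel]),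
      by group⟩
  have comm_f : ∀ g : G, ⁅ψ f, g⁆ = ⁅f, g⁆ ^ D := by
    intro g
    have hpow : ∀ n : ℕ, ⁅f ^ n, g⁆ = ⁅f, g⁆ ^ n := by
      intro n
      induction n with
      | zero => simp
      | succ n ih =>
        rw [pow_succ', show ⁅f * f ^ n, g⁆ = f * ⁅f ^ n, g⁆ * f⁻¹ * ⁅f, g⁆ by
          simp only [commutatorElement_def]; group, ih,
          show f * ⁅f, g⁆ ^ n = ⁅f, g⁆ ^ n * f from
            (Ccen _ (pow_mem (cf g) n) f).symm, mul_inv_cancel_right, ← pow_succ]
    rw [hψf', show ⁅f ^ D * d, g⁆ = f ^ D * ⁅d, g⁆ * (f ^ D)⁻¹ * ⁅f ^ D, g⁆ by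
      simp only [commutatorElement_def]; group,
      commutatorElement_eq_one_iff_mul_comm.mpr (Ccen d hd g), mul_one, mul_inv_cancel, one_mul,
      hpow]
  have hD3 : ¬ 3 ∣ D := by
    intro h3
    apply fh1
    apply ψ.injective
    rw [map_one, hμ, map_commutatorElement, comm_f, hψh, ef _ _ _ _ hu₁, ← pow_mul,
      orderOf_dvd_iff_pow_eq_one.symm, oμ]
    exact dvd_mul_of_dvd_right h3 a
  have hn : 3 ∣ n := by
    have : ⁅ψ f, ψ k⁆ = 1 := by rw [← map_commutatorElement, fk, map_one]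
    rw [comm_f, hψk, ef _ _ _ _ hu₂, ← pow_mul, ← orderOf_dvd_iff_pow_eq_one, oμ] at this
    exact ((Nat.prime_three.dvd_mul).mp this).resolve_right hD3
  have qhn : ∀ y, q h ^ n * y = y * q h ^ n := by
    intro y
    obtain ⟨i, hi⟩ := qnat _ (pow_mem_of_three_dvd hh hn)
    rw [map_pow] at hi
    rw [hi]
    exact (Commute.pow_left (Fc y) i).eq
  have hDab : q f ^ D = q f ^ (a * b) := by
    rw [← hD]
    obtain ⟨w₁, hw₁, e₁'⟩ := qword a m e₁ u₁ hu₁
    obtain ⟨w₂, hw₂, e₂'⟩ := qword n b e₂ u₂ hu₂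
    have hkn : q h ^ n * q k ^ b * w₂ = q k ^ b * (q h ^ n * w₂) := by
      rw [qhn, mul_assoc]
    calc q (ψ f) = ⁅q (ψ h), q (ψ k)⁆ := by rw [hf, map_commutatorElement, map_commutatorElement]
      _ = ⁅q h ^ a * q k ^ m * w₁, q k ^ b * (q h ^ n * w₂)⁆ := by rw [hψh, hψk, e₁', e₂', hkn]
      _ = q f ^ (a * b) := comm_word Fc hHK hw₁
          (fun y => (Commute.mul_left (qhn y) (hw₂ y)).eq) a m b
  have hDmod : (D : ZMod 3) = (a : ZMod 3) * b := by
    rcases le_total D (a * b) with hle | hle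
    · have : q f ^ (a * b - D) = 1 := by rw [pow_sub _ hle, hDab, mul_inv_cancel]
      have h3 := (ZMod.natCast_eq_zero_iff _ _).mpr (hdf _ this)
      rw [Nat.cast_sub hle, sub_eq_zero, Nat.cast_mul] at h3
      exact h3.symm
    · have : q f ^ (D - a * b) = 1 := by rw [pow_sub _ hle, hDab, mul_inv_cancel]
      have h3 := (ZMod.natCast_eq_zero_iff _ _).mpr (hdf _ this)
      rw [Nat.cast_sub hle, sub_eq_zero, Nat.cast_mul] at h3
      exact h3
  -- `ψ z` is central modulo `C`
  have hψzc : ∀ g : G, ⁅ψ z, g⁆ ∈ C := by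
    intro g
    obtain ⟨g, rfl⟩ := ψ.surjective g
    rw [← map_commutatorElement]
    obtain ⟨i, hi⟩ := cz g
    rw [← hi]
    show ψ (c ^ i) ∈ C
    rw [map_zpow]
    refine zpow_mem ?_ i
    obtain ⟨j, hj⟩ := fh
    have hψμ : ψ μ ∈ C := by rw [hμ, map_commutatorElement]; exact Kc _ hψf _
    have hμgen : c ∈ Subgroup.zpowers μ := by
      have hle : Subgroup.zpowers μ ≤ C := Subgroup.zpowers_le.mpr ⟨j, hj⟩
      have e := Subgroup.eq_of_le_of_card_ge hle (by
        rw [hC, Nat.card_zpowers, Nat.card_zpowers, oμ]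
        exact Nat.le_of_dvd (by norm_num) (orderOf_dvd_of_pow_eq_one hc3))
      rw [e]
      exact Subgroup.mem_zpowers c
    obtain ⟨l, hl⟩ := hμgen
    rw [← hl]
    show ψ (μ ^ l) ∈ C
    rw [map_zpow]
    exact zpow_mem hψμ l
  obtain ⟨w, hw, e₃'⟩ := qword a₃ b₃ e u hu
  have h3ab : 3 ∣ a₃ ∧ 3 ∣ b₃ := by
    have hk' : ∀ g, q (ψ z) * q g = q g * q (ψ z) := fun g => qcomm _ _ (hψzc g)
    rw [hψz, e₃'] at hk'
    constructor
    · apply hdf
      have h1 : ⁅q h ^ a₃ * q k ^ b₃ * w, q k ^ 1 * 1⁆ = q f ^ (a₃ * 1) :=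
        comm_word Fc hHK hw (fun y => by rw [one_mul, mul_one]) a₃ b₃ 1
      rw [pow_one, mul_one, mul_one, commutatorElement_eq_one_iff_mul_comm.mpr (hk' k)] at h1
      exact h1.symm
    · apply hdf
      have h1 := hk' h
      have h2 : q h * q k ^ b₃ = q k ^ b₃ * q h := by
        apply mul_left_cancel (a := q h ^ a₃)
        apply mul_right_cancel (b := w)
        calc q h ^ a₃ * (q h * q k ^ b₃) * w = q h * (q h ^ a₃ * q k ^ b₃ * w) := by
              simp only [← mul_assoc]; rw [← pow_succ, pow_succ']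
          _ = q h ^ a₃ * q k ^ b₃ * w * q h := h1.symm
          _ = q h ^ a₃ * (q k ^ b₃ * q h) * w := by
              simp only [mul_assoc]; rw [hw]
      have h3 := pow_pow_comm Fc hHK 1 b₃
      rw [pow_one, one_mul, h2] at h3
      exact (mul_eq_right.mp h3.symm)
  set r := h ^ a₃ * k ^ b₃ with hr
  have hrK : r ∈ K := mul_mem (pow_mem_of_three_dvd hh h3ab.1) (pow_mem_of_three_dvd hk h3ab.2)
  -- compare the two central commutators
  obtain ⟨t, ht⟩ : ∃ t : ℕ, κ = μ ^ t := by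
    have hle : Subgroup.zpowers μ ≤ C := Subgroup.zpowers_le.mpr fh
    have e := Subgroup.eq_of_le_of_card_ge hle (by
      rw [hC, Nat.card_zpowers, Nat.card_zpowers, oμ]
      exact Nat.le_of_dvd (by norm_num) (orderOf_dvd_of_pow_eq_one hc3))
    obtain ⟨t, ht⟩ := mem_powers_iff_mem_zpowers.mpr (show κ ∈ Subgroup.zpowers μ by rw [e]; exact zk)
    exact ⟨t, ht.symm⟩
  have hψμ : ψ μ = μ ^ (a * D) := by
    rw [hμ, map_commutatorElement, comm_f, hψh, ef _ _ _ _ hu₁, ← pow_mul]
  have hψκ : ψ κ = κ ^ (b * e) := by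
    rw [hκ, map_commutatorElement]
    have hzpow : ∀ (m : ℕ) (g : G), ⁅z ^ m, g⁆ = ⁅z, g⁆ ^ m := by
      intro m g
      induction m with
      | zero => simp
      | succ n ih =>
        rw [pow_succ', show ⁅z * z ^ n, g⁆ = z * ⁅z ^ n, g⁆ * z⁻¹ * ⁅z, g⁆ by
          simp only [commutatorElement_def]; group, ih,
          ← Ccen _ (pow_mem (cz g) n) z, mul_inv_cancel_right, ← pow_succ]
    have hu' : ⁅u, ψ k⁆ = 1 ∧ ⁅r, ψ k⁆ = 1 := by
      have key : ∀ x : G, x ∈ K → ⁅x, ψ k⁆ = 1 := by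
        intro x hx
        rw [commutatorElement_eq_one_iff_mul_comm]
        have hle : K ≤ Subgroup.centralizer {ψ k} := by
          rw [hKdef, Subgroup.closure_le]
          intro y hy
          simp only [Set.mem_insert_iff, Set.mem_singleton_iff] at hy
          rw [SetLike.mem_coe, Subgroup.mem_centralizer_singleton_iff]
          rcases hy with rfl | rfl
          · refine commutatorElement_eq_one_iff_mul_comm.mp ?_
            rw [hψk, ef _ _ _ _ hu₂, ← orderOf_dvd_iff_pow_eq_one, oμ]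
            exact hn
          · exact hc _
        exact Subgroup.mem_centralizer_singleton_iff.mp (hle hx)
      exact ⟨key u hu, key r hrK⟩
    rw [hψz, show ⁅r * z ^ e * u, ψ k⁆ = r * (z ^ e * ⁅u, ψ k⁆ * (z ^ e)⁻¹ * ⁅z ^ e, ψ k⁆) * r⁻¹ *
      ⁅r, ψ k⁆ by simp only [commutatorElement_def]; group, hu'.1, hu'.2, mul_one, mul_one,
      mul_inv_cancel, one_mul, hzpow, ← Ccen _ (pow_mem (cz _) e) r, mul_inv_cancel_right, hψk,
      ez _ _ _ _ hu₂, ← pow_mul]
  have hexp : (a * D * t) % 3 = (t * (b * e)) % 3 := by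
    have h1 : μ ^ (a * D * t) = μ ^ (t * (b * e)) := by
      rw [pow_mul, ← hψμ, ← map_pow, ← ht, hψκ, ht, ← pow_mul]
    have := pow_eq_pow_iff_modEq.mp h1
    rw [oμ] at this
    exact this
  have hmod : (e : ZMod 3) = 1 := by
    have he : ((a * D * t : ℕ) : ZMod 3) = ((t * (b * e) : ℕ) : ZMod 3) :=
      (ZMod.natCast_eq_natCast_iff' _ _ _).mpr hexp
    push_cast at he
    rw [hDmod] at he
    have ht0 : (t : ZMod 3) ≠ 0 := by
      rw [Ne, ZMod.natCast_eq_zero_iff]
      intro h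
      apply zk1
      rw [ht, ← orderOf_dvd_iff_pow_eq_one, oμ]
      exact h
    have hab0 : (a : ZMod 3) * b ≠ 0 := by
      rw [← hDmod, Ne, ZMod.natCast_eq_zero_iff]
      exact hD3
    exact zmod_key _ _ _ _ he ht0 hab0
  rw [← πK, map_mul, map_inv, hψz, map_mul, map_mul, (πK _).mpr hrK, (πK _).mpr hu, mul_one,
    one_mul, map_pow]
  have he3 : e % 3 = 1 := by
    rw [← Nat.cast_one, ZMod.natCast_eq_natCast_iff'] at hmod
    exact hmod
  rw [← Nat.div_add_mod e 3, he3, pow_succ, pow_mul, ← map_pow, (πK _).mpr hz, one_pow, one_mul,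
    inv_mul_cancel]

end Cfsg.Agent.PFifth
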