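import Mathlib
import Cfsg.Agent.PFifth.Defs
import Cfsg.Agent.PFifth.Sign
import Cfsg.Agent.PFifth.Fix
import Cfsg.Agent.PGroup.Basic
import Cfsg.Agent.PGroup.Frattini

/-!
The elementary abelian case of groups of order `p ^ 5` with a signed frame (S5264).
-/

set_option autoImplicit false
set_option linter.unusedSectionVars false
set_option linter.style.haveILetI false

open scoped commutatorElement

namespace Cfsg.Agent.PFifth

namespace Elem

variable {G : Type*} [Group G]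

theorem comm_mul_right (u v w : G) : ⁅u, v * w⁆ = ⁅u, v⁆ * (v * ⁅u, w⁆ * v⁻¹) := by
  simp only [commutatorElement_def]; group

theorem comm_mul_left (u v w : G) : ⁅u * v, w⁆ = u * ⁅v, w⁆ * u⁻¹ * ⁅u, w⁆ := by
  simp only [commutatorElement_def]; group

theorem comm_eq_one {u v : G} (h : u * v = v * u) : ⁅u, v⁆ = 1 :=
  commutatorElement_eq_one_iff_mul_comm.2 h

theorem comm_zpow {u v c : G} (h : ⁅u, v⁆ = c) (hu : Commute c u) (hv : Commute c v) (a b : ℤ) :
    ⁅u ^ a, v ^ b⁆ = c ^ (a * b) := by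
  have e : u * v * u⁻¹ = c * v := by rw [← h, commutatorElement_def]; group
  have eb : u * v ^ b * u⁻¹ = c ^ b * v ^ b := by rw [← hv.mul_zpow, ← e]; exact conj_zpow.symm
  have g1 : ∀ U V D : G, U * V * U⁻¹ = D * V → V * U * V⁻¹ = D⁻¹ * U := fun U V D h => by
    rw [show D = U * V * U⁻¹ * V⁻¹ by rw [h]; group]; group
  have g2 : ∀ U V : G, U * V * U⁻¹ * V⁻¹ = U * (V * U * V⁻¹)⁻¹ := fun U V => by group
  have ec := g1 _ _ _ eb
  have ea : v ^ b * u ^ a * (v ^ b)⁻¹ = ((c ^ b)⁻¹) ^ a * u ^ a := by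
    rw [← conj_zpow, ec, ((hu.zpow_left b).inv_left).mul_zpow]
  rw [commutatorElement_def, g2, ea, mul_inv_rev, inv_zpow, inv_inv, ← zpow_mul, mul_comm b a,
    mul_inv_cancel_left]

theorem dvd_of_zpow_mem {p n : ℕ} [Fact p.Prime] {K : Subgroup G} {x : G} (hn : x ^ (p ^ n) = 1)
    (hx : x ∉ K) {k : ℤ} (hk : x ^ k ∈ K) : (p : ℤ) ∣ k := by
  by_contra hd
  obtain ⟨a, b, hab⟩ : IsCoprime ((p : ℤ) ^ n) k :=
    (((Nat.prime_iff_prime_int.1 Fact.out).coprime_iff_not_dvd).2 hd).pow_left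
  apply hx
  have : x = (x ^ ((p : ℤ) ^ n)) ^ a * (x ^ k) ^ b := by
    rw [← zpow_mul, ← zpow_mul, ← zpow_add, mul_comm ((p : ℤ) ^ n), mul_comm k, hab, zpow_one]
  rw [this, show ((p : ℤ) ^ n) = ((p ^ n : ℕ) : ℤ) by push_cast; rfl, zpow_natCast, hn, one_zpow,
    one_mul]
  exact K.zpow_mem hk b

theorem mem_normalizer_of_conj [Finite G] {K : Subgroup G} {g : G}
    (h : ∀ w ∈ K, g * w * g⁻¹ ∈ K) : g ∈ Subgroup.normalizer (K : Set G) := by
  have he : K.map (MulAut.conj g).toMonoidHom = K := by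
    refine Subgroup.eq_of_le_of_card_ge ?_
      (le_of_eq (Subgroup.card_map_of_injective (MulAut.conj g).injective).symm)
    rintro _ ⟨w, hw, rfl⟩
    exact h w hw
  refine Subgroup.mem_normalizer_iff.2 fun w => ⟨h w, fun hw => ?_⟩
  rw [← he] at hw
  obtain ⟨v, hv, hvw⟩ := hw
  exact (MulAut.conj g).injective hvw ▸ hv

/-- In a `p`-group a normal subgroup generated modulo a normal subgroup `K` by one element whose
`p`-th power lies in `K` is central modulo `K`. -/
theorem comm_mem_of_cyclic_layer [Finite G] {p : ℕ} [Fact p.Prime] (hG : IsPGroup p G)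
    (K L : Subgroup G) [K.Normal] [L.Normal] {b : G} (hbL : b ∈ L) (hb : b ^ p ∈ K)
    (hgen : ∀ l ∈ L, ∃ j : ℤ, (b ^ j)⁻¹ * l ∈ K) (y : G) : ⁅b, y⁆ ∈ K := by
  let π := QuotientGroup.mk' K
  by_cases hbK : b ∈ K
  · have : (QuotientGroup.mk' K) ⁅b, y⁆ = 1 := by
      rw [map_commutatorElement]
      exact comm_eq_one (by rw [show (QuotientGroup.mk' K) b = 1 from (QuotientGroup.eq_one_iff b).2 hbK]; simp)
    exact (QuotientGroup.eq_one_iff _).1 this
  have hne : π b ≠ 1 := fun h => hbK ((QuotientGroup.eq_one_iff b).1 h)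
  have hord : orderOf (π b) = p := by
    refine orderOf_eq_prime ?_ hne
    rw [← map_pow]
    exact (QuotientGroup.eq_one_iff _).2 hb
  have hmap : L.map π = Subgroup.zpowers (π b) := by
    refine le_antisymm ?_ (Subgroup.zpowers_le.2 ⟨b, hbL, rfl⟩)
    rintro _ ⟨l, hl, rfl⟩
    obtain ⟨j, hj⟩ := hgen l hl
    refine ⟨j, ?_⟩
    change π b ^ j = π l
    rw [← map_zpow]
    exact QuotientGroup.eq.2 hj
  haveI : (L.map π).Normal := Subgroup.Normal.map inferInstance π (QuotientGroup.mk'_surjective K)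
  have hc := Cfsg.Agent.PGroup.le_center_of_card_eq (hG.to_quotient K) (N := L.map π)
    (by rw [hmap, Nat.card_zpowers, hord]) ⟨b, hbL, rfl⟩
  have : (QuotientGroup.mk' K) ⁅b, y⁆ = 1 := by
    rw [map_commutatorElement]
    exact comm_eq_one (Subgroup.mem_center_iff.1 hc _).symm
  exact (QuotientGroup.eq_one_iff _).1 this

end Elem

open Elem in
theorem elem_case {G : Type*} [Group G] [Finite G] {p : ℕ} [Fact p.Prime] {P O : Subgroup G}
    {x e1 e2 : G} {τ : MulAut G} (hp : p ≠ 2) (hcard : Nat.card G = p ^ 5)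
    (h : Signed p P O x e1 e2 τ) (hP : Nat.card P = p ^ 3) (hab : IsMulCommutative P) :
    Goal p G := by
  classical
  have hpp : p.Prime := Fact.out
  have hpI : Prime (p : ℤ) := Nat.prime_iff_prime_int.1 hpp
  have hp2I : ¬ (p : ℤ) ∣ 2 := fun hd =>
    hp ((Nat.prime_dvd_prime_iff_eq hpp Nat.prime_two).1 (by exact_mod_cast hd))
  have hG : IsPGroup p G := IsPGroup.of_card hcard
  have ho : Odd (Nat.card G) := by rw [hcard]; exact (hpp.odd_of_ne_two hp).pow
  have hpow : ∀ y : G, y ^ (p ^ 5) = 1 := fun y => by rw [← hcard]; exact pow_card_eq_one'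
  have hcomm : ∀ u ∈ P, ∀ v ∈ P, u * v = v * u := fun u hu v hv =>
    congrArg Subtype.val (hab.is_comm.comm ⟨u, hu⟩ ⟨v, hv⟩)
  -- the Frattini subgroup of `P` is trivial
  have hphi : ∀ o ∈ phi P, o = 1 := fun o hmem => by
    obtain ⟨k, rfl⟩ := h.phi_gen o hmem
    rw [comm_eq_one (hcomm _ h.mem1 _ h.mem2), one_pow]
  have hx1 : ⁅x, e1⁆ = 1 := hphi _ h.com1
  have hx2 : ⁅x, e2⁆ = e1 := (inv_mul_eq_one.1 (hphi _ h.com2)).symm
  have hxo : ∀ o ∈ O, ⁅x, o⁆ = 1 := fun o hmem => hphi _ (h.comO o hmem)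
  have cx1 : Commute e1 x := (commutatorElement_eq_one_iff_mul_comm.1 hx1).symm
  have cxo : ∀ o ∈ O, Commute o x := fun o hmem =>
    (commutatorElement_eq_one_iff_mul_comm.1 (hxo o hmem)).symm
  have c12 : Commute e1 e2 := hcomm _ h.mem1 _ h.mem2
  -- `e1`, `e2`, `O`
  have he1O : e1 ∉ O := fun hmem => by
    have := (h.indep 1 0 (by simpa using hmem)).1
    exact hpp.one_lt.ne' (Nat.dvd_one.1 this)
  have hcO : Nat.card O = p := by
    have := h.card_O
    rw [hP, pow_succ p 2, mul_comm] at this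
    exact (Nat.eq_of_mul_eq_mul_right (pow_pos hpp.pos 2) this).symm
  haveI : Nontrivial ↥O := Finite.one_lt_card_iff_nontrivial.1 (hcO ▸ hpp.one_lt)
  obtain ⟨⟨t, htO⟩, ht1⟩ := exists_ne (1 : ↥O)
  have hOt : ∀ o ∈ O, ∃ k : ℤ, o = t ^ k := fun o hmem => by
    obtain ⟨k, hk⟩ := Subgroup.mem_zpowers_iff.1
      (mem_zpowers_of_prime_card hcO ht1 (g' := (⟨o, hmem⟩ : ↥O)))
    exact ⟨k, by simpa using congrArg Subtype.val hk.symm⟩
  have ht : t ≠ 1 := fun e => ht1 (Subtype.ext e)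
  have htP : t ∈ P := h.O_le htO
  have hord : ∀ w ∈ P, w ^ p = 1 := by
    intro w hw
    obtain ⟨i, j, o, ho', rfl⟩ := h.gen w hw
    have he : ∀ u ∈ P, u ^ p ∈ phi P := by
      intro u hu
      exact ⟨(⟨u, hu⟩ : ↥P) ^ p, Cfsg.Agent.PGroup.pow_mem_frattini (hG.to_subgroup P) _, rfl⟩
    exact hphi _ (he _ hw)
  have he1 : e1 ≠ 1 := fun e => he1O (e ▸ O.one_mem)
  have hoe1 : orderOf e1 = p := orderOf_eq_prime (hord _ h.mem1) he1
  have hz1 : ∀ k : ℤ, e1 ^ k = 1 → (p : ℤ) ∣ k := fun k hk => by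
    have := orderOf_dvd_iff_zpow_eq_one.2 hk
    rwa [hoe1] at this
  -- the normaliser
  set N := Subgroup.normalizer (P : Set G) with hN
  have hcN : Nat.card N = p ^ 4 := by rw [h.card_norm, hP]; ring
  have hNidx : N.index = p := by
    have h1 := Subgroup.card_mul_index N
    rw [hcN, hcard, pow_succ p 4] at h1
    exact Nat.eq_of_mul_eq_mul_left (pow_pos hpp.pos 4) h1
  haveI hNn : N.Normal := Subgroup.normal_of_index_eq_minFac_card (by
    rw [hNidx, hcard, hpp.pow_minFac (by norm_num)])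
  have hPN : P ≤ N := Subgroup.le_normalizer
  have hxN : x ∈ N := h.x_norm
  have hNdec : ∀ n ∈ N, ∃ a : ℤ, ∃ u ∈ P, n = x ^ a * u := by
    have hle : Subgroup.zpowers x ≤ N := Subgroup.zpowers_le.2 hxN
    have heq : Subgroup.zpowers x ⊔ P = N := by
      refine Subgroup.eq_of_le_of_card_ge (sup_le hle hPN) ?_
      have hd : Nat.card ↥(Subgroup.zpowers x ⊔ P) ∣ p ^ 4 :=
        hcN ▸ Subgroup.card_dvd_of_le (sup_le hle hPN)
      obtain ⟨k, hk, hkc⟩ := (Nat.dvd_prime_pow hpp).1 hd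
      have hlt : Nat.card P < Nat.card ↥(Subgroup.zpowers x ⊔ P) :=
        lt_of_not_ge fun hge => h.x_nmem ((Subgroup.eq_of_le_of_card_ge le_sup_right hge).ge
          ((le_sup_left : Subgroup.zpowers x ≤ _) (Subgroup.mem_zpowers x)))
      rw [hP, hkc] at hlt
      have := (Nat.pow_lt_pow_iff_right hpp.one_lt).1 hlt
      rw [hcN, hkc]
      exact Nat.pow_le_pow_right hpp.pos this
    intro n hn
    rw [← heq, ← SetLike.mem_coe, Subgroup.coe_mul_of_left_le_normalizer_right _ _ hle] at hn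
    obtain ⟨a, ⟨k, rfl⟩, u, hu, rfl⟩ := hn
    exact ⟨k, u, hu, rfl⟩
  have hPdec : ∀ w ∈ P, ∃ i j : ℤ, ∃ o ∈ O, w = e1 ^ i * e2 ^ j * o := fun w hw => by
    obtain ⟨i, j, o, ho', rfl⟩ := h.gen w hw
    exact ⟨i, j, o, ho', by simp only [zpow_natCast]⟩
  -- `W = Z(N)`
  set W := P ⊓ Subgroup.centralizer ({x} : Set G) with hW
  have hWmem : ∀ w, w ∈ W ↔ w ∈ P ∧ w * x = x * w := fun w => by
    rw [hW, Subgroup.mem_inf, Subgroup.mem_centralizer_singleton_iff]
  have h1W : e1 ∈ W := (hWmem _).2 ⟨h.mem1, cx1.eq⟩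
  have hOW : ∀ o ∈ O, o ∈ W := fun o hmem => (hWmem _).2 ⟨h.O_le hmem, (cxo o hmem).eq⟩
  have hxe2 : ∀ a b : ℤ, ⁅x ^ a, e2 ^ b⁆ = e1 ^ (a * b) := fun a b => comm_zpow hx2 cx1 c12 a b
  have hWdec : ∀ w ∈ W, ∃ i : ℤ, ∃ o ∈ O, w = e1 ^ i * o := by
    intro w hw
    obtain ⟨hwP, hwx⟩ := (hWmem w).1 hw
    obtain ⟨i, j, o, ho', rfl⟩ := hPdec w hwP
    have hcj : ⁅x, e2 ^ j⁆ = 1 := by
      refine comm_eq_one ?_
      have h1 : e2 ^ j = (e1 ^ i)⁻¹ * (e1 ^ i * e2 ^ j * o) * o⁻¹ := by group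
      rw [h1]
      exact (((cx1.zpow_left i).inv_left).mul_left hwx).mul_left (cxo o ho').inv_left |>.eq.symm
    have hj := hz1 (1 * j) (by rw [← hxe2, zpow_one]; exact hcj)
    rw [one_mul] at hj
    obtain ⟨q, rfl⟩ := hj
    exact ⟨i, o, ho', by rw [zpow_mul, zpow_natCast, hord _ h.mem2, one_zpow, mul_one]⟩
  have hWN : ∀ w ∈ W, ∀ n ∈ N, n * w = w * n := by
    intro w hw n hn
    obtain ⟨a, u, hu, rfl⟩ := hNdec n hn
    obtain ⟨hwP, hwx⟩ := (hWmem w).1 hw
    exact ((Commute.zpow_right (show Commute w x from hwx) a).mul_right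
      (show Commute w u from hcomm _ hwP _ hu)).eq.symm
  have hcentW : ∀ n ∈ N, n * e2 = e2 * n → n * x = x * n → n ∈ W := by
    intro n hn h2 hx'
    obtain ⟨a, u, hu, rfl⟩ := hNdec n hn
    have hxa : x ^ a * e2 = e2 * x ^ a := by
      have hu2 : u * e2 = e2 * u := hcomm _ hu _ h.mem2
      calc x ^ a * e2 = x ^ a * (e2 * u) * u⁻¹ := by group
        _ = x ^ a * u * e2 * u⁻¹ := by rw [← hu2]; group
        _ = e2 * x ^ a := by rw [h2]; group
    have ha := hz1 (a * 1) (by rw [← hxe2, zpow_one]; exact comm_eq_one hxa)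
    rw [mul_one] at ha
    obtain ⟨q, rfl⟩ := ha
    have hxp : x ^ (p : ℤ) ∈ P := by
      have hd : (P.relIndex N) = p := by
        have h1 := Subgroup.relIndex_mul_relIndex ⊥ P N bot_le hPN
        rw [Subgroup.relIndex_bot_left, Subgroup.relIndex_bot_left, hP, hcN, pow_succ p 3] at h1
        exact Nat.eq_of_mul_eq_mul_left (pow_pos hpp.pos 3) h1
      haveI : (P.subgroupOf N).Normal := Subgroup.normal_in_normalizer
      have := Subgroup.pow_index_mem (P.subgroupOf N) (⟨x, hxN⟩ : ↥N)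
      rw [← Subgroup.relIndex, hd] at this
      rw [zpow_natCast]; exact this
    have hmem : x ^ ((p : ℤ) * q) * u ∈ P := P.mul_mem (by rw [zpow_mul]; exact P.zpow_mem hxp q) hu
    exact (hWmem _).2 ⟨hmem, hx'⟩
  haveI hWn : W.Normal := by
    refine ⟨fun w hw g => ?_⟩
    have hwN : g * w * g⁻¹ ∈ N := hNn.conj_mem w (hPN ((hWmem w).1 hw).1) g
    have hc : ∀ n ∈ N, g * w * g⁻¹ * n = n * (g * w * g⁻¹) := fun n hn => by
      have h1 : g⁻¹ * n * g ∈ N := by simpa using hNn.conj_mem n hn g⁻¹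
      have h2 := hWN w hw _ h1
      calc g * w * g⁻¹ * n = g * (w * (g⁻¹ * n * g)) * g⁻¹ := by group
        _ = g * ((g⁻¹ * n * g) * w) * g⁻¹ := by rw [h2]
        _ = n * (g * w * g⁻¹) := by group
    exact hcentW _ hwN (hc e2 (hPN h.mem2)) (hc x hxN)
  -- `e1` is central
  have he1N : ∀ n ∈ N, Commute n e1 := fun n hn => hWN e1 h1W n hn
  have hxP : ∀ (a : ℤ), ∀ v ∈ P, ⁅x ^ a, v⁆ ∈ Subgroup.zpowers e1 := by
    intro a v hv
    obtain ⟨i, j, o, ho', rfl⟩ := hPdec v hv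
    rw [comm_mul_right, comm_mul_right, hxe2,
      comm_eq_one ((cx1.zpow_left i).zpow_right a).eq.symm,
      comm_eq_one ((cxo o ho').zpow_right a).eq.symm]
    refine ⟨a * j, ?_⟩
    rw [mul_one, mul_inv_cancel, mul_one, one_mul]
    exact (mul_inv_eq_iff_eq_mul.2 ((Commute.zpow_zpow_self e1 i (a * j)).eq)).symm
  have hNN : ∀ n ∈ N, ∀ m ∈ N, ⁅n, m⁆ ∈ Subgroup.zpowers e1 := by
    intro n hn m hm
    obtain ⟨a, u, hu, rfl⟩ := hNdec n hn
    obtain ⟨b, v, hv, rfl⟩ := hNdec m hm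
    have hcz : ∀ y ∈ N, ∀ c ∈ Subgroup.zpowers e1, y * c * y⁻¹ ∈ Subgroup.zpowers e1 := by
      rintro y hy _ ⟨k, rfl⟩
      rw [((he1N y hy).zpow_right k).eq, mul_inv_cancel_right]
      exact ⟨k, rfl⟩
    rw [comm_mul_left, comm_mul_right u, comm_mul_right (x ^ a)]
    refine Subgroup.mul_mem _ (hcz _ (N.zpow_mem hxN a) _ (Subgroup.mul_mem _ ?_ ?_))
      (Subgroup.mul_mem _ ?_ ?_)
    · rw [← commutatorElement_inv]
      exact Subgroup.inv_mem _ (hxP b u hu)
    · refine hcz _ (N.zpow_mem hxN b) _ ?_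
      rw [comm_eq_one (hcomm _ hu _ hv)]; exact Subgroup.one_mem _
    · rw [comm_eq_one ((Commute.refl x).zpow_zpow a b).eq]; exact Subgroup.one_mem _
    · exact hcz _ (N.zpow_mem hxN b) _ (hxP a v hv)
  haveI hC : (Subgroup.zpowers e1).Normal := by
    refine ⟨fun c hc g => ?_⟩
    obtain ⟨k, rfl⟩ := hc
    have h1 : g * e1 * g⁻¹ ∈ Subgroup.zpowers e1 := by
      rw [← hx2, conjugate_commutatorElement, hx2]
      exact hNN _ (hNn.conj_mem x hxN g) _ (hNn.conj_mem e2 (hPN h.mem2) g)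
    rw [← conj_zpow]
    exact Subgroup.zpow_mem _ h1 k
  have hc1 : ∀ y : G, e1 * y = y * e1 := fun y =>
    (Subgroup.mem_center_iff.1 (Cfsg.Agent.PGroup.le_center_of_card_eq hG
      (N := Subgroup.zpowers e1) (by rw [Nat.card_zpowers, hoe1]) (Subgroup.mem_zpowers e1)) y).symm
  have hce : ∀ y : G, Commute e1 y := hc1
  -- the quotient by `W`
  let π := QuotientGroup.mk' W
  have hπ : ∀ a : G, π a = 1 ↔ a ∈ W := fun a => QuotientGroup.eq_one_iff a
  have hπe1 : π e1 = 1 := (hπ _).2 h1W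
  have hπP : ∀ v ∈ P, ∃ k : ℤ, π v = π e2 ^ k := fun v hv => by
    obtain ⟨i, j, o, ho', rfl⟩ := hPdec v hv
    exact ⟨j, by rw [map_mul, map_mul, map_zpow, map_zpow, hπe1, (hπ o).2 (hOW o ho'), one_zpow,
      one_mul, mul_one]⟩
  have hcXE : Commute (π x) (π e2) := by
    refine commutatorElement_eq_one_iff_mul_comm.1 ?_
    rw [← map_commutatorElement, hx2, hπe1]
  have hτ1 : ∀ k : ℤ, τ (e1 ^ k) = e1 ^ (-k) := fun k => by rw [map_zpow, h.s1, inv_zpow']
  have hτW : ∀ w ∈ W, τ w ∈ W := fun w hw => by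
    obtain ⟨i, o, ho', rfl⟩ := hWdec w hw
    rw [map_mul, hτ1, h.sO o ho']
    exact W.mul_mem (W.zpow_mem h1W _) (hOW o ho')
  have hτN : ∀ n ∈ N, τ n ∈ N := fun n hn => by
    obtain ⟨a, u, hu, rfl⟩ := hNdec n hn
    rw [map_mul, map_zpow, h.sx]
    exact N.mul_mem (N.zpow_mem hxN a) (hPN (h.sP u hu))
  have hττ : ∀ y : G, τ (τ y) = y := fun y => by
    rw [← MulAut.mul_apply, h.sq, MulAut.one_apply]
  have hWP : ∀ w ∈ W, w ∈ P := fun w hw => ((hWmem w).1 hw).1
  have hxW : x ∉ W := fun hmem => h.x_nmem (hWP _ hmem)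
  have he2W : e2 ∉ W := fun hmem => he1 (by
    rw [← hx2]; exact comm_eq_one ((hWmem _).1 hmem).2.symm)
  -- `x` is central modulo `W`
  have hxc : ∀ y : G, ⁅x, y⁆ ∈ W := by
    haveI : (N.map π).Normal := Subgroup.Normal.map inferInstance π (QuotientGroup.mk'_surjective W)
    have hne : N.map π ≠ ⊥ := fun hb => hxW ((hπ x).1 (by
      have hm : π x ∈ N.map π := ⟨x, hxN, rfl⟩
      rwa [hb, Subgroup.mem_bot] at hm))
    obtain ⟨q, hq, hq1⟩ := Subgroup.bot_or_exists_ne_one (N.map π ⊓ Subgroup.center (G ⧸ W))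
      |>.resolve_left (Cfsg.Agent.PGroup.inf_center_ne_bot (hG.to_quotient W) _ hne)
    obtain ⟨⟨n, hn, rfl⟩, hnc⟩ := hq
    obtain ⟨a, u, hu, rfl⟩ := hNdec n hn
    obtain ⟨i, j, o, ho', rfl⟩ := hPdec u hu
    set n := x ^ a * (e1 ^ i * e2 ^ j * o) with hndef
    have hπn : π n = π x ^ a * π e2 ^ j := by
      rw [hndef]; simp only [map_mul, map_zpow, hπe1, (hπ o).2 (hOW o ho'), one_zpow, one_mul, mul_one]
    have hπτ : π (τ n) = π x ^ a * π e2 ^ (-j) := by
      rw [hndef]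
      simp only [map_mul, map_zpow, h.sx, h.s1, h.s2, h.sO o ho', hπe1,
        (hπ o).2 (hOW o ho'), one_zpow, one_mul, mul_one, inv_zpow']
    have hτc : π (τ n) ∈ Subgroup.center (G ⧸ W) := by
      refine Subgroup.mem_center_iff.2 fun q => ?_
      obtain ⟨y, rfl⟩ := QuotientGroup.mk'_surjective W q
      refine (commutatorElement_eq_one_iff_mul_comm.1 ?_).symm
      rw [← map_commutatorElement, hπ, ← hττ y, ← map_commutatorElement τ]
      refine hτW _ ((hπ _).1 ?_)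
      rw [map_commutatorElement]
      exact comm_eq_one (Subgroup.mem_center_iff.1 hnc _).symm
    have h2a : π x ^ (2 * a) ∈ Subgroup.center (G ⧸ W) := by
      have he : π x ^ (2 * a) = π n * π (τ n) := by
        rw [hπn, hπτ, mul_assoc, ← mul_assoc (π e2 ^ j), (hcXE.zpow_zpow a j).symm.eq, mul_assoc,
          ← zpow_add, add_neg_cancel, zpow_zero, mul_one, ← zpow_add, two_mul]
      rw [he]; exact mul_mem hnc hτc
    have hxC : π x ∈ Subgroup.center (G ⧸ W) := by
      by_contra hxC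
      have hd := dvd_of_zpow_mem (n := 5) (by rw [← map_pow, hpow, map_one]) hxC h2a
      obtain ⟨c, rfl⟩ := (hpI.dvd_or_dvd hd).resolve_left hp2I
      have hxa : π x ^ ((p : ℤ) * c) = 1 := by
        rw [← map_zpow, hπ]
        refine hcentW _ (N.zpow_mem hxN _) (commutatorElement_eq_one_iff_mul_comm.1 ?_)
          (Commute.self_zpow x _).eq.symm
        rw [← zpow_one e2, hxe2, mul_one, zpow_mul, zpow_natCast, hord _ h.mem1, one_zpow]
      rw [hπn, hxa, one_mul] at hnc hq1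
      have hE : π e2 ∈ Subgroup.center (G ⧸ W) := by
        by_contra hE
        have hd := dvd_of_zpow_mem (n := 5) (by rw [← map_pow, hpow, map_one]) hE hnc
        obtain ⟨c', rfl⟩ := hd
        exact hq1 (by rw [zpow_mul, zpow_natCast, ← map_pow, hord _ h.mem2, map_one, one_zpow])
      have htop : N = ⊤ := by
        refine eq_top_iff.2 fun y _ => mem_normalizer_of_conj fun w hw => ?_
        obtain ⟨i', j', o', ho'', rfl⟩ := hPdec w hw
        have h2 : y * e2 * y⁻¹ ∈ P := by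
          have h3 : ⁅y, e2⁆ ∈ W := by
            rw [← hπ, map_commutatorElement]
            exact comm_eq_one (Subgroup.mem_center_iff.1 hE _)
          have h4 := P.mul_mem (hWP _ h3) h.mem2
          rwa [commutatorElement_def, inv_mul_cancel_right] at h4
        have h1 : y * e1 * y⁻¹ ∈ P := hWP _ (hWn.conj_mem e1 h1W y)
        rw [← conj_mul, ← conj_mul, ← conj_zpow, ← conj_zpow]
        exact P.mul_mem (P.mul_mem (P.zpow_mem h1 i') (P.zpow_mem h2 j'))
          (hWP _ (hWn.conj_mem o' (hOW o' ho'') y))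
      rw [htop, Subgroup.index_top] at hNidx
      exact hpp.one_lt.ne hNidx
    intro y
    rw [← hπ, map_commutatorElement]
    exact comm_eq_one (Subgroup.mem_center_iff.1 hxC _).symm
  -- `M = W⟨x⟩`
  set M := N ⊓ Subgroup.centralizer ({x} : Set G) with hM
  have hMmem : ∀ m, m ∈ M ↔ m ∈ N ∧ m * x = x * m := fun m => by
    rw [hM, Subgroup.mem_inf, Subgroup.mem_centralizer_singleton_iff]
  have hxM : x ∈ M := (hMmem _).2 ⟨hxN, rfl⟩
  have hWM : ∀ w ∈ W, w ∈ M := fun w hw =>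
    (hMmem _).2 ⟨hPN (hWP w hw), ((hWmem w).1 hw).2⟩
  have hMdec : ∀ m ∈ M, ∃ a : ℤ, ∃ w ∈ W, m = x ^ a * w := by
    intro m hm
    obtain ⟨hmN, hmx⟩ := (hMmem m).1 hm
    obtain ⟨a, u, hu, rfl⟩ := hNdec m hmN
    refine ⟨a, u, (hWmem u).2 ⟨hu, ?_⟩, rfl⟩
    have h1 := ((Commute.refl x).zpow_left a).inv_left.mul_left hmx
    rwa [inv_mul_cancel_left] at h1
  haveI hMn : M.Normal := by
    refine ⟨fun m hm g => ?_⟩
    obtain ⟨a, w, hw, rfl⟩ := hMdec m hm
    rw [← conj_mul, ← conj_zpow]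
    refine M.mul_mem (M.zpow_mem ?_ a) (hWM _ (hWn.conj_mem w hw g))
    rw [show g * x * g⁻¹ = ⁅x, g⁆⁻¹ * x by rw [commutatorElement_def]; group]
    exact M.mul_mem (hWM _ (W.inv_mem (hxc g))) hxM
  have hπM : ∀ w ∈ W, ∀ a : ℤ, π (x ^ a * w) = π x ^ a := fun w hw a => by
    rw [map_mul, (hπ w).2 hw, mul_one, map_zpow]
  have he2M : ∀ y : G, ⁅e2, y⁆ ∈ M := by
    refine comm_mem_of_cyclic_layer hG M N (hPN h.mem2)
      (by rw [hord _ h.mem2]; exact M.one_mem) fun n hn => ?_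
    obtain ⟨a, u, hu, rfl⟩ := hNdec n hn
    obtain ⟨i, j, o, ho', rfl⟩ := hPdec u hu
    refine ⟨j, ?_⟩
    have : π ((e2 ^ j)⁻¹ * (x ^ a * (e1 ^ i * e2 ^ j * o))) = π x ^ a := by
      simp only [map_mul, map_inv, map_zpow, hπe1, (hπ o).2 (hOW o ho'), one_zpow, one_mul, mul_one]
      rw [(hcXE.zpow_zpow a j).eq, inv_mul_cancel_left]
    have hw : (x ^ a)⁻¹ * ((e2 ^ j)⁻¹ * (x ^ a * (e1 ^ i * e2 ^ j * o))) ∈ W := by
      rw [← hπ, map_mul, this, map_inv, map_zpow, inv_mul_cancel]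
    have := M.mul_mem (M.zpow_mem hxM a) (hWM _ hw)
    rwa [mul_inv_cancel_left] at this
  have hj : ∀ g, g ∉ N → ∃ j : ℤ, ¬ (p : ℤ) ∣ j ∧ ∃ w ∈ W, ⁅e2, g⁆ = x ^ j * w := by
    intro g hg
    obtain ⟨j, w, hw, he⟩ := hMdec _ (he2M g)
    refine ⟨j, fun hd => hg ?_, w, hw, he⟩
    obtain ⟨c, rfl⟩ := hd
    have hxp : x ^ ((p : ℤ) * c) ∈ W := by
      refine hcentW _ (N.zpow_mem hxN _) (commutatorElement_eq_one_iff_mul_comm.1 ?_)
        (Commute.self_zpow x _).eq.symm
      rw [← zpow_one e2, hxe2, mul_one, zpow_mul, zpow_natCast, hord _ h.mem1, one_zpow]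
    have hmem : ⁅e2, g⁆ ∈ W := he ▸ W.mul_mem hxp hw
    refine mem_normalizer_of_conj fun v hv => ?_
    obtain ⟨i', j', o', ho'', rfl⟩ := hPdec v hv
    have h2 : g * e2 * g⁻¹ ∈ P := by
      rw [show g * e2 * g⁻¹ = ⁅e2, g⁆⁻¹ * e2 by rw [commutatorElement_def]; group]
      exact P.mul_mem (hWP _ (W.inv_mem hmem)) h.mem2
    rw [← conj_mul, ← conj_mul, ← conj_zpow, ← conj_zpow]
    exact P.mul_mem (P.mul_mem (P.zpow_mem (hWP _ (hWn.conj_mem e1 h1W g)) i') (P.zpow_mem h2 j'))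
      (hWP _ (hWn.conj_mem o' (hOW o' ho'') g))
  have hXcomm : ∀ q : G ⧸ W, Commute (π x) q := fun q => by
    obtain ⟨y, rfl⟩ := QuotientGroup.mk'_surjective W q
    exact commutatorElement_eq_one_iff_mul_comm.1 (by rw [← map_commutatorElement, hπ]; exact hxc y)
  have hxk : ∀ k : ℤ, π x ^ k = 1 → (p : ℤ) ∣ k := fun k hk =>
    dvd_of_zpow_mem (n := 5) (hpow x) h.x_nmem (hWP _ ((hπ _).1 (by rw [map_zpow, hk])))
  have hjQ : ∀ (g : G) (j : ℤ) (w : G), w ∈ W → ⁅e2, g⁆ = x ^ j * w → ⁅π e2, π g⁆ = π x ^ j :=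
    fun g j w hw he => by rw [← map_commutatorElement, he, hπM w hw]
  have hnofix : ∀ g, g ∉ N → τ g ≠ g := by
    intro g hg hfix
    obtain ⟨j, hjp, w, hw, he⟩ := hj g hg
    have h1 : ⁅(π e2) ^ (-1 : ℤ), (π g) ^ (1 : ℤ)⁆ = π x ^ j := by
      rw [zpow_neg_one, zpow_one, ← map_inv, ← map_commutatorElement, ← h.s2]
      conv_lhs => rw [← hfix]
      rw [← map_commutatorElement τ, he, map_mul, map_zpow τ, h.sx, hπM _ (hτW w hw)]
    rw [comm_zpow (hjQ g j w hw he) ((hXcomm _).zpow_left j) ((hXcomm _).zpow_left j), ← zpow_mul] at h1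
    have h2 : π x ^ (2 * j) = 1 := by
      rw [two_mul, zpow_add]; nth_rewrite 1 [← h1]
      rw [← zpow_add]; simp
    exact hjp ((hpI.dvd_or_dvd (hxk _ h2)).resolve_left hp2I)
  -- `τ` inverts `G` modulo `N`
  have hNab : ∀ y z : G, ⁅y, z⁆ ∈ N := by
    haveI : Fact (Nat.card (G ⧸ N)).Prime := ⟨by rw [← Subgroup.index_eq_card, hNidx]; exact hpp⟩
    haveI : IsCyclic (G ⧸ N) := isCyclic_of_prime_card (p := Nat.card (G ⧸ N)) rfl
    intro y z
    rw [← QuotientGroup.eq_one_iff (N := N)]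
    change QuotientGroup.mk' N ⁅y, z⁆ = 1
    rw [map_commutatorElement]
    exact comm_eq_one ((IsCyclic.isMulCommutative (α := G ⧸ N)).is_comm.comm _ _)
  have hinv : ∀ g, g * τ g ∈ N := by
    intro g
    by_contra hg
    have ha : (g * τ g)⁻¹ * τ (g * τ g) ∈ N := by
      rw [map_mul, hττ]
      have := hNab (τ g)⁻¹ g⁻¹
      rw [commutatorElement_def, inv_inv, inv_inv] at this
      simpa [mul_assoc] using this
    obtain ⟨a', ha', hfix⟩ := exists_fixed_mem ho h.sq hτN ha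
    refine hnofix a' (fun hmem => hg ?_) hfix
    have := N.mul_mem hmem (N.inv_mem ha')
    simpa using this
  obtain ⟨g0, hg0⟩ : ∃ g0, g0 ∉ N := by
    by_contra! hall
    have htop : N = ⊤ := eq_top_iff.2 fun y _ => hall y
    rw [htop, Subgroup.index_top] at hNidx
    exact hpp.one_lt.ne hNidx
  obtain ⟨g, hg', hginv⟩ := exists_inverted_mem ho h.sq hτN (hinv g0)
  have hgN : g ∉ N := fun hmem => hg0 (by
    have := N.mul_mem hmem (N.inv_mem hg')
    simpa using this)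
  obtain ⟨j, hjp, wj, hwj, hy⟩ := hj g hgN
  have hyQ := hjQ g j wj hwj hy
  have hGdec : ∀ y : G, ∃ b : ℤ, (g ^ b)⁻¹ * y ∈ N := fun y => by
    haveI : Fact (Nat.card (G ⧸ N)).Prime := ⟨by rw [← Subgroup.index_eq_card, hNidx]; exact hpp⟩
    have hne : (QuotientGroup.mk' N g) ≠ 1 := fun e => hgN ((QuotientGroup.eq_one_iff g).1 e)
    obtain ⟨b, hb⟩ := Subgroup.mem_zpowers_iff.1
      (mem_zpowers_of_prime_card (p := Nat.card (G ⧸ N)) rfl hne (g' := QuotientGroup.mk' N y))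
    refine ⟨b, QuotientGroup.eq.1 ?_⟩
    rw [← map_zpow] at hb
    exact hb
  -- commutators with `t` and `x`
  have htW : t ∈ W := hOW t htO
  have hWt : ∀ w ∈ W, ∃ k : ℤ, (t ^ k)⁻¹ * w ∈ Subgroup.zpowers e1 := fun w hw => by
    obtain ⟨i, o, ho', rfl⟩ := hWdec w hw
    obtain ⟨k, rfl⟩ := hOt o ho'
    refine ⟨k, i, ?_⟩
    change e1 ^ i = (t ^ k)⁻¹ * (e1 ^ i * t ^ k)
    rw [((hce t).zpow_zpow i k).eq, inv_mul_cancel_left]
  have htC : ∀ y : G, ⁅t, y⁆ ∈ Subgroup.zpowers e1 :=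
    comm_mem_of_cyclic_layer hG (Subgroup.zpowers e1) W htW
      (by rw [hord _ htP]; exact Subgroup.one_mem _) hWt
  have hfixsq : ∀ f : G, τ f = f → τ f = f⁻¹ → f = 1 := fun f h1 h2 =>
    eq_one_of_fixed_inverted ho h1 h2
  obtain ⟨r, hr⟩ : ∃ r : ℤ, ⁅t, g⁆ = e1 ^ r := by
    obtain ⟨r, hr⟩ := htC g; exact ⟨r, hr.symm⟩
  obtain ⟨s, hs⟩ : ∃ s : ℤ, ⁅x, g⁆ = e1 ^ s := by
    obtain ⟨i, o, ho', hio⟩ := hWdec _ (hxc g)
    obtain ⟨k, rfl⟩ := hOt o ho'
    have h1 : τ ⁅x, g⁆ = g⁻¹ * ⁅x, g⁆⁻¹ * g := by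
      rw [map_commutatorElement, h.sx, hginv, commutatorElement_def, commutatorElement_def]; group
    obtain ⟨l, hl⟩ : ∃ l : ℤ, g⁻¹ * t ^ (-k) * g = e1 ^ l * t ^ (-k) := by
      have h2 : ⁅g⁻¹, t ^ (-k)⁆ ∈ Subgroup.zpowers e1 := by
        rw [← commutatorElement_inv]
        refine Subgroup.inv_mem _ ?_
        obtain ⟨q, hq⟩ := htC g⁻¹
        rw [← zpow_one (g⁻¹), comm_zpow hq.symm ((hce (t)).zpow_left q)
          ((hce (_)).zpow_left q), ← zpow_mul]
        exact ⟨_, rfl⟩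
      obtain ⟨l, hl⟩ := h2
      refine ⟨l, ?_⟩
      rw [show e1 ^ l = ⁅g⁻¹, t ^ (-k)⁆ from hl, commutatorElement_def, inv_inv, inv_mul_cancel_right]
    rw [hio, map_mul, hτ1, map_zpow, h.sO t htO, mul_inv_rev, ← zpow_neg, ← zpow_neg] at h1
    have h2 : t ^ k = e1 ^ (i + (l + -i)) * t ^ (-k) := by
      calc t ^ k = (e1 ^ (-i))⁻¹ * (e1 ^ (-i) * t ^ k) := by group
        _ = (e1 ^ (-i))⁻¹ * (g⁻¹ * t ^ (-k) * g * e1 ^ (-i)) := by
            rw [h1]; rw [show g⁻¹ * (t ^ (-k) * e1 ^ (-i)) * g = g⁻¹ * t ^ (-k) * (e1 ^ (-i) * g) by group,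
              ((hce (g)).zpow_left (-i)).eq]; group
        _ = _ := by
            rw [hl, mul_assoc (e1 ^ l), (((hce (t)).zpow_zpow (-i) (-k))).symm.eq,
              zpow_add, zpow_add, zpow_neg e1 i, inv_inv]; group
    have h3 : t ^ (2 * k) = e1 ^ (i + (l + -i)) := by
      rw [two_mul, zpow_add]; nth_rewrite 1 [h2]; group
    have h4 : t ^ (2 * k) = 1 := by
      have hfix : τ (t ^ (2 * k)) = t ^ (2 * k) := by rw [map_zpow, h.sO t htO]
      refine hfixsq _ hfix ?_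
      rw [h3, hτ1, zpow_neg]
    have htd : (p : ℤ) ∣ 2 * k := by
      have := orderOf_dvd_iff_zpow_eq_one.2 h4
      rwa [orderOf_eq_prime (hord _ htP) ht] at this
    obtain ⟨c, rfl⟩ := (hpI.dvd_or_dvd htd).resolve_left hp2I
    exact ⟨i, by rw [hio, zpow_mul, zpow_natCast, hord _ htP, one_zpow, mul_one]⟩
  by_cases hr0 : (p : ℤ) ∣ r
  · -- an abelian maximal subgroup
    left
    have htg : t * g = g * t := commutatorElement_eq_one_iff_mul_comm.1 (by
      obtain ⟨c, rfl⟩ := hr0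
      rw [hr, zpow_mul, zpow_natCast, hord _ h.mem1, one_zpow])
    have htc : ∀ y : G, t * y = y * t := fun y => by
      obtain ⟨b, hb⟩ := hGdec y
      rw [show y = g ^ b * ((g ^ b)⁻¹ * y) by group]
      exact ((show Commute t g from htg).zpow_right b).mul_right (hWN t htW _ hb).symm |>.eq
    set g' := g * e2 ^ (-s) with hg'def
    have hxg : Commute x g' := by
      refine commutatorElement_eq_one_iff_mul_comm.1 ?_
      rw [hg'def, comm_mul_right, hs, show ⁅x, e2 ^ (-s)⁆ = e1 ^ (-s) by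
        rw [← zpow_one x, hxe2, one_mul], ← ((hce (g)).zpow_left (-s)).eq,
        mul_inv_cancel_right, zpow_neg, mul_inv_cancel]
    let S : Set G := {e1, t, x, g'}
    haveI hA : IsMulCommutative ↥(Subgroup.closure S) := by
      refine Subgroup.isMulCommutative_closure ?_
      intro a ha b hb
      rcases ha with rfl | rfl | rfl | rfl <;> rcases hb with rfl | rfl | rfl | rfl <;>
        first | rfl | exact hc1 _ | exact (hc1 _).symm | exact htc _ | exact (htc _).symm |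
          exact hxg.eq | exact hxg.eq.symm
    refine ⟨Subgroup.closure S, hA, ?_⟩
    have hg'N : g' ∉ N := fun hmem => hgN (by
      have := N.mul_mem hmem (N.inv_mem (N.zpow_mem (hPN h.mem2) (-s)))
      rwa [hg'def, mul_inv_cancel_right] at this)
    have hS : ∀ a ∈ S, a ∈ Subgroup.closure S := fun a ha => Subgroup.subset_closure ha
    -- `W` has order at least `p ^ 2`
    have hWA : W ≤ Subgroup.closure S := fun w hw => by
      obtain ⟨i, o, ho', rfl⟩ := hWdec w hw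
      obtain ⟨k, rfl⟩ := hOt o ho'
      exact mul_mem (zpow_mem (hS e1 (by simp [S])) _) (zpow_mem (hS t (by simp [S])) _)
    have hcW : p ^ 2 ≤ Nat.card W := by
      have hlt : Nat.card O < Nat.card W := lt_of_not_ge fun hge => he1O
        ((Subgroup.eq_of_le_of_card_ge (fun o hmem => hOW o hmem) hge).ge h1W)
      obtain ⟨k, -, hkc⟩ := (Nat.dvd_prime_pow hpp).1 (hP ▸ Subgroup.card_dvd_of_le inf_le_left :
        Nat.card W ∣ p ^ 3)
      rw [hcO, hkc] at hlt
      have : 1 < k := (Nat.pow_lt_pow_iff_right hpp.one_lt).1 (by rwa [pow_one])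
      rw [hkc]; exact Nat.pow_le_pow_right hpp.pos this
    have hstep : ∀ A B : Subgroup G, A ≤ B → ∀ b ∈ B, b ∉ A → p * Nat.card A ≤ Nat.card B := by
      intro A B hle b hb hbA
      have hd := Subgroup.card_dvd_of_le hle
      obtain ⟨k, -, hk⟩ := (Nat.dvd_prime_pow hpp).1 (hcard ▸ A.card_subgroup_dvd_card)
      obtain ⟨l, -, hl⟩ := (Nat.dvd_prime_pow hpp).1 (hcard ▸ B.card_subgroup_dvd_card)
      have hlt : Nat.card A < Nat.card B := lt_of_not_ge fun hge =>
        hbA ((Subgroup.eq_of_le_of_card_ge hle hge).ge hb)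
      rw [hk, hl] at hlt ⊢
      rw [← pow_succ']
      exact Nat.pow_le_pow_right hpp.pos ((Nat.pow_lt_pow_iff_right hpp.one_lt).1 hlt)
    have h1 : p * Nat.card W ≤ Nat.card ↥(Subgroup.closure S ⊓ N) :=
      hstep W _ (le_inf hWA fun w hw => hPN (hWP w hw)) x
        ⟨hS x (by simp [S]), hxN⟩ hxW
    have h2 : p * Nat.card ↥(Subgroup.closure S ⊓ N) ≤ Nat.card ↥(Subgroup.closure S) :=
      hstep _ _ inf_le_left g' (hS g' (by simp [S])) fun hmem => hg'N hmem.2
    have h4 : p ^ 4 ≤ Nat.card ↥(Subgroup.closure S) := by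
      refine le_trans ?_ h2
      refine le_trans ?_ (Nat.mul_le_mul_left p h1)
      calc p ^ 4 = p * (p * p ^ 2) := by ring
        _ ≤ _ := Nat.mul_le_mul_left p (Nat.mul_le_mul_left p hcW)
    have hne : Subgroup.closure S ≠ ⊤ := fun htop => he1 (by
      rw [← hx2]
      exact comm_eq_one (congrArg Subtype.val (hA.is_comm.comm
        (⟨x, htop ▸ Subgroup.mem_top x⟩ : ↥(Subgroup.closure S)) ⟨e2, htop ▸ Subgroup.mem_top e2⟩)))
    obtain ⟨k, hk, hkc⟩ := (Nat.dvd_prime_pow hpp).1 (hcard ▸ (Subgroup.closure S).index_dvd_card)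
    have hidx := Subgroup.card_mul_index (Subgroup.closure S)
    rw [hcard, hkc] at hidx
    rcases k with _ | _ | k
    · exact absurd (Subgroup.index_eq_one.1 (by rw [hkc, pow_zero])) hne
    · rw [hkc, zero_add, pow_one]
    · exfalso
      have h5 : p ^ 5 < p ^ 4 * p ^ (k + 2) := by
        rw [← pow_add]; exact Nat.pow_lt_pow_right hpp.one_lt (by omega)
      exact absurd hidx (ne_of_gt (lt_of_lt_of_le h5 (Nat.mul_le_mul_right _ h4)))
  · -- the prime is three
    have hp3 : p = 3 := by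
      by_contra hp3
      obtain ⟨m, hm⟩ : ∃ m, 2 * m = p + 1 := by
        obtain ⟨c, hc⟩ := hpp.odd_of_ne_two hp
        exact ⟨c + 1, by omega⟩
      obtain ⟨ψ, hψ⟩ := h.tor 2 m (by rw [hm]; simp)
      have ψ1 : ψ e1 = e1 ^ (2 : ℤ) := by
        rw [show (2 : ℤ) = ((2 : ℕ) : ℤ) from rfl, zpow_natCast]
        exact (inv_mul_eq_one.1 (hphi _ hψ.map1)).symm
      have ψ2 : ψ e2 = e2 ^ (m : ℤ) := by
        rw [zpow_natCast]; exact (inv_mul_eq_one.1 (hphi _ hψ.map2)).symm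
      have ψo : ∀ o ∈ O, ψ o = o := fun o hmem => (inv_mul_eq_one.1 (hphi _ (hψ.mapO o hmem))).symm
      have ψP : P.map ψ.toMonoidHom = P := Subgroup.eq_of_le_of_card_ge
        (by rintro _ ⟨w, hw, rfl⟩; exact hψ.map_P w hw)
        (le_of_eq (Subgroup.card_map_of_injective ψ.injective).symm)
      have ψN : ∀ n ∈ N, ψ n ∈ N := fun n hn => mem_normalizer_of_conj fun w hw => by
        rw [← ψP] at hw
        obtain ⟨v, hv, rfl⟩ := hw
        change ψ n * ψ v * (ψ n)⁻¹ ∈ P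
        rw [← map_mul, ← map_inv, ← map_mul]
        exact hψ.map_P _ ((Subgroup.mem_normalizer_iff.1 hn v).1 hv)
      have ψW : ∀ w ∈ W, ψ w ∈ W := fun w hw => by
        obtain ⟨i, o, ho', rfl⟩ := hWdec w hw
        rw [map_mul, map_zpow, ψ1, ψo o ho', ← zpow_mul]
        exact W.mul_mem (W.zpow_mem h1W _) (hOW o ho')
      obtain ⟨a, u, hu, hψx⟩ := hNdec _ (ψN x hxN)
      have key1 : (p : ℤ) ∣ a * m - 2 := by
        have h1 := congrArg ψ hx2
        rw [map_commutatorElement, hψx, ψ1, ψ2, comm_mul_left,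
          comm_eq_one (hcomm _ hu _ (P.zpow_mem h.mem2 _)), mul_one, mul_inv_cancel, one_mul, hxe2] at h1
        exact hz1 _ (by rw [zpow_sub, h1, mul_inv_cancel])
      obtain ⟨b, hb⟩ := hGdec (ψ g)
      set nb := (g ^ b)⁻¹ * ψ g with hnb
      have hψg : ψ g = g ^ b * nb := by rw [hnb, mul_inv_cancel_left]
      have key2 : (p : ℤ) ∣ r * b - 2 * r := by
        have h1 := congrArg ψ hr
        rw [map_commutatorElement, ψo t htO, hψg, map_zpow, ψ1, comm_mul_right,
          comm_eq_one (hWN t htW nb hb).symm, mul_one, mul_inv_cancel, mul_one, ← zpow_one t,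
          comm_zpow hr ((hce (t)).zpow_left r) ((hce (g)).zpow_left r),
          ← zpow_mul, one_mul, ← zpow_mul] at h1
        exact hz1 _ (by rw [zpow_sub, h1, mul_inv_cancel])
      have key3 : (p : ℤ) ∣ a * j - j * (m * b) := by
        have h1 := congrArg (fun y => π (ψ y)) hy
        simp only [map_commutatorElement, map_mul, map_zpow, hψx, ψ2, hψg] at h1
        rw [(hπ _).2 (ψW wj hwj), mul_one, comm_mul_right, comm_zpow hyQ ((hXcomm _).zpow_left j)
          ((hXcomm _).zpow_left j), ← zpow_mul] at h1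
        obtain ⟨an, un, hun, hnbd⟩ := hNdec nb hb
        obtain ⟨kn, hkn⟩ := hπP un hun
        have hc : ⁅π e2 ^ (m : ℤ), π nb⁆ = 1 := by
          refine comm_eq_one ?_
          rw [hnbd, map_mul, map_zpow, hkn]
          exact ((hcXE.symm.zpow_zpow _ _).mul_right (Commute.zpow_zpow_self (π e2) _ _)).eq
        obtain ⟨ku, hku⟩ := hπP u hu
        rw [hc, mul_one, mul_inv_cancel, mul_one, hku, (hcXE.zpow_zpow a ku).mul_zpow, ← zpow_mul,
          ← zpow_mul] at h1
        refine dvd_of_zpow_mem (n := 5) (hpow x) h.x_nmem (k := a * j - j * (m * b)) ?_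
        have h2 : π (x ^ (a * j - j * (m * b))) = π (e2 ^ (-(ku * j))) := by
          rw [map_zpow, map_zpow, zpow_neg, zpow_sub, h1, mul_inv_rev, ← mul_assoc]
          rw [((hcXE.zpow_zpow (a * j) (ku * j)).inv_right).eq, mul_inv_cancel_right]
        have h3 := hWP _ (QuotientGroup.eq.1 h2)
        have h4 := P.mul_mem (P.zpow_mem h.mem2 (-(ku * j))) (P.inv_mem h3)
        simpa [mul_assoc] using h4
      have hz : ∀ {k : ℤ}, (p : ℤ) ∣ k → (k : ZMod p) = 0 :=
        fun hk => (ZMod.intCast_zmod_eq_zero_iff_dvd _ p).2 hk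
      have n0 : ∀ {k : ℤ}, ¬ (p : ℤ) ∣ k → (k : ZMod p) ≠ 0 :=
        fun hk e => hk ((ZMod.intCast_zmod_eq_zero_iff_dvd _ p).1 e)
      have k1 := hz key1; have k2 := hz key2; have k3 := hz key3
      push_cast at k1 k2 k3
      have m2 : (2 : ZMod p) * (m : ZMod p) = 1 := by
        have := congrArg (Nat.cast : ℕ → ZMod p) hm
        push_cast at this
        rw [this, ZMod.natCast_self, zero_add]
      have hb2 : (b : ZMod p) = 2 := by
        have : (r : ZMod p) * ((b : ZMod p) - 2) = 0 := by linear_combination k2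
        exact sub_eq_zero.1 ((mul_eq_zero.1 this).resolve_left (n0 hr0))
      have ha : (a : ZMod p) = (m : ZMod p) * b := by
        have : (j : ZMod p) * ((a : ZMod p) - m * b) = 0 := by linear_combination k3
        exact sub_eq_zero.1 ((mul_eq_zero.1 this).resolve_left (n0 hjp))
      rw [hb2, mul_comm, m2] at ha
      rw [ha, one_mul] at k1
      have h3 : ((3 : ℕ) : ZMod p) = 0 := by
        push_cast; linear_combination m2 - 2 * k1
      exact hp3 ((Nat.prime_dvd_prime_iff_eq hpp Nat.prime_three).1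
        ((ZMod.natCast_eq_zero_iff _ _).1 h3))
    subst hp3
    right
    refine ⟨rfl, ?_⟩
    set y := ⁅e2, g⁆ with hydef
    have hyM : y ∈ M := he2M g
    have hye2 : ⁅y, e2⁆ = e1 ^ j := by
      rw [hy, comm_mul_left, comm_eq_one (hWN wj hwj e2 (hPN h.mem2)).symm, mul_one, mul_inv_cancel,
        one_mul, ← zpow_one e2, hxe2, mul_one]
    obtain ⟨q, hq⟩ : ∃ q : ℤ, ⁅y, g⁆ = e1 ^ q := by
      obtain ⟨i, o, ho', rfl⟩ := hWdec wj hwj
      obtain ⟨k, rfl⟩ := hOt o ho'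
      rw [hy, comm_mul_left, comm_mul_left (e1 ^ i),
        comm_eq_one ((hce (g)).zpow_left i).eq, mul_one, ← zpow_one g,
        comm_zpow hr ((hce (t)).zpow_left r) ((hce (g)).zpow_left r),
        comm_zpow hs ((hce (x)).zpow_left s) ((hce (g)).zpow_left s),
        ← zpow_mul, ← zpow_mul]
      rw [← zpow_neg e1 i, ← zpow_add, ← zpow_add, ← ((hce (x ^ j)).zpow_left _).eq,
        mul_inv_cancel_right, ← zpow_add]
      exact ⟨_, rfl⟩
    obtain ⟨a, ha⟩ : ∃ a : ℤ, (3 : ℤ) ∣ q + j * a := by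
      obtain ⟨c, d, hcd⟩ := (hpI.coprime_iff_not_dvd).2 hjp
      exact ⟨-(d * q), c * q, by push_cast at hcd; linear_combination (-q) * hcd⟩
    set k := g * e2 ^ a with hk
    have hyk : ⁅e2, k⁆ = y := by
      rw [hk, comm_mul_right, comm_eq_one (Commute.self_zpow e2 a).eq, mul_one, mul_inv_cancel,
        mul_one]
    have hKc : ∀ z ∈ Subgroup.closure ({y, e1} : Set G), z * k = k * z := by
      intro z hz
      have hle : Subgroup.closure ({y, e1} : Set G) ≤ Subgroup.centralizer {k} := by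
        rw [Subgroup.closure_le]
        rintro w (rfl | rfl)
        · refine Subgroup.mem_centralizer_singleton_iff.2 (commutatorElement_eq_one_iff_mul_comm.1 ?_)
          obtain ⟨c, hc⟩ := ha
          rw [hk, comm_mul_right, hq, ← zpow_one y, comm_zpow hye2
            ((hce (y)).zpow_left j) (c12.zpow_left j), ← zpow_mul, one_mul,
            ← ((hce (g)).zpow_left (j * a)).eq, mul_inv_cancel_right, ← zpow_add, hc,
            zpow_mul, show (3 : ℤ) = ((3 : ℕ) : ℤ) from rfl, zpow_natCast, hord _ h.mem1, one_zpow]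
        · exact Subgroup.mem_centralizer_singleton_iff.2 (hc1 k)
      exact Subgroup.mem_centralizer_singleton_iff.1 (hle hz)
    have hyK : y ∈ Subgroup.closure ({y, e1} : Set G) := Subgroup.subset_closure (by simp)
    have h1K : e1 ∈ Subgroup.closure ({y, e1} : Set G) := Subgroup.subset_closure (by simp)
    haveI hKn : (Subgroup.closure ({y, e1} : Set G)).Normal := by
      refine ⟨fun z hz v => ?_⟩
      have hyv : ⁅y, v⁆ ∈ Subgroup.zpowers e1 := by
        obtain ⟨b, hb⟩ := hGdec v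
        rw [show v = g ^ b * ((g ^ b)⁻¹ * v) by group, comm_mul_right, ← zpow_one y,
          comm_zpow hq ((hce (y)).zpow_left q) ((hce (g)).zpow_left q),
          ← zpow_mul]
        refine Subgroup.mul_mem _ ⟨_, rfl⟩ (hC.conj_mem _ ?_ _)
        exact hNN _ (N.zpow_mem ((hMmem y).1 hyM).1 1) _ hb
      have hle : (Subgroup.closure ({y, e1} : Set G)).map (MulAut.conj v).toMonoidHom ≤
          Subgroup.closure ({y, e1} : Set G) := by
        rw [MonoidHom.map_closure, Subgroup.closure_le]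
        rintro _ ⟨w, hw, rfl⟩
        rcases hw with hw | hw <;> rw [hw]
        · change v * y * v⁻¹ ∈ _
          rw [show v * y * v⁻¹ = ⁅y, v⁆⁻¹ * y by rw [commutatorElement_def]; group]
          exact mul_mem (inv_mem (Subgroup.zpowers_le.2 h1K hyv)) hyK
        · change v * e1 * v⁻¹ ∈ _
          rw [← hc1 v, mul_inv_cancel_right]; exact h1K
      exact hle ⟨z, hz, rfl⟩
    have hg3 : g ^ 3 ∈ Subgroup.zpowers e1 := by
      have hgN3 : g ^ 3 ∈ N := by
        have := Subgroup.pow_index_mem N g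
        rwa [hNidx] at this
      obtain ⟨a', u', hu', hn⟩ := hNdec _ hgN3
      obtain ⟨i, b', o, ho', rfl⟩ := hPdec u' hu'
      have hQn : π g ^ 3 = π x ^ a' * π e2 ^ b' := by
        rw [← map_pow, hn]; simp only [map_mul, map_zpow, hπe1, (hπ o).2 (hOW o ho'), one_zpow,
          one_mul, mul_one]
      have hgc : Commute (π g) (π e2 ^ b') := by
        have h1 : π e2 ^ b' = (π x ^ a')⁻¹ * π g ^ 3 := by rw [hQn, inv_mul_cancel_left]
        rw [h1]
        exact (((hXcomm (π g)).zpow_left a').inv_left.symm).mul_right ((Commute.refl _).pow_right 3)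
      have hbd : ((3 : ℕ) : ℤ) ∣ b' := by
        have h1 := comm_zpow hyQ ((hXcomm _).zpow_left j) ((hXcomm _).zpow_left j) b' 1
        rw [zpow_one, comm_eq_one hgc.eq.symm, ← zpow_mul, mul_one] at h1
        exact (hpI.dvd_or_dvd (hxk _ h1.symm)).resolve_left hjp
      obtain ⟨c, rfl⟩ := hbd
      obtain ⟨kt, rfl⟩ := hOt o ho'
      rw [zpow_mul, zpow_natCast, hord _ h.mem2, one_zpow, mul_one] at hn
      set f := x ^ a' * t ^ kt with hf
      have hn' : g ^ 3 = e1 ^ i * f := by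
        rw [hn, hf, ← mul_assoc, ← mul_assoc, ((hce (x)).zpow_zpow i a').eq]
      have hτf : τ f = f := by rw [hf, map_mul, map_zpow, map_zpow, h.sx, h.sO t htO]
      have hf1 : f = 1 := by
        refine hfixsq f hτf ?_
        have h1 := congrArg τ hn'
        rw [map_pow, hginv, map_mul, hτ1, inv_pow, hn', mul_inv_rev, zpow_neg,
          ((hce ((τ f))).zpow_left i).inv_left.eq] at h1
        exact (mul_right_cancel h1).symm
      exact ⟨i, by rw [hn', hf1, mul_one]⟩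
    have hk3 : k ^ 3 ∈ Subgroup.closure ({y, e1} : Set G) := by
      rw [← QuotientGroup.eq_one_iff (N := Subgroup.closure ({y, e1} : Set G))]
      let ρ := QuotientGroup.mk' (Subgroup.closure ({y, e1} : Set G))
      change ρ (k ^ 3) = 1
      have hc : Commute (ρ g) (ρ e2) := by
        refine (commutatorElement_eq_one_iff_mul_comm.1 ?_).symm
        rw [← map_commutatorElement]
        exact (QuotientGroup.eq_one_iff _).2 hyK
      rw [hk, map_pow, map_mul, map_zpow, (hc.zpow_right a).mul_pow, ← map_pow,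
        show ρ (g ^ 3) = 1 from (QuotientGroup.eq_one_iff _).2 (Subgroup.zpowers_le.2 h1K hg3),
        one_mul, ← map_zpow, ← map_pow]
      refine (QuotientGroup.eq_one_iff _).2 ?_
      rw [hord _ (P.zpow_mem h.mem2 a)]; exact one_mem _
    have hne : ⁅t, k⁆ ≠ 1 := by
      rw [hk, comm_mul_right, comm_eq_one (hWN t htW _ (N.zpow_mem (hPN h.mem2) a)).symm, mul_one,
        mul_inv_cancel, mul_one, hr]
      exact fun e => hr0 (hz1 _ e)
    apply fix_goal hG (h := e2) (k := k) (z := t) (c := e1) hc1 (hord _ h.mem1)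
    · rw [hyk, eq_top_iff]
      intro v _
      have hm : ∀ w ∈ ({e2, k, y, t, e1} : Set G), w ∈ Subgroup.closure ({e2, k, y, t, e1} : Set G) :=
        fun w hw => Subgroup.subset_closure hw
      set K5 := Subgroup.closure ({e2, k, y, t, e1} : Set G)
      have hW5 : W ≤ K5 := fun w hw => by
        obtain ⟨i, o, ho', rfl⟩ := hWdec w hw
        obtain ⟨l, rfl⟩ := hOt o ho'
        exact mul_mem (zpow_mem (hm e1 (by simp)) _) (zpow_mem (hm t (by simp)) _)
      have hxj : x ^ j ∈ K5 := by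
        have := mul_mem (hm y (by simp)) (inv_mem (hW5 hwj))
        rwa [hy, mul_inv_cancel_right] at this
      have hx5 : x ∈ K5 := by
        by_contra hx5
        exact hjp (dvd_of_zpow_mem (n := 5) (hpow x) hx5 hxj)
      have hN5 : ∀ n ∈ N, n ∈ K5 := fun n hn => by
        obtain ⟨a', u', hu', rfl⟩ := hNdec n hn
        obtain ⟨i, b', o, ho', rfl⟩ := hPdec u' hu'
        exact mul_mem (zpow_mem hx5 _) (mul_mem (mul_mem (zpow_mem (hm e1 (by simp)) _)
          (zpow_mem (hm e2 (by simp)) _)) (hW5 (hOW o ho')))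
      have hg5 : g ∈ K5 := by
        have := mul_mem (hm k (by simp)) (inv_mem (zpow_mem (hm e2 (by simp)) a))
        rwa [hk, mul_inv_cancel_right] at this
      obtain ⟨b, hb⟩ := hGdec v
      have := mul_mem (zpow_mem hg5 b) (hN5 _ hb)
      rwa [mul_inv_cancel_left] at this
    · rw [hyk]; exact comm_eq_one (hKc y hyK)
    · rw [hyk, hye2]; exact ⟨j, rfl⟩
    · rw [hyk, hye2]; exact fun e => hjp (hz1 _ e)
    · exact comm_eq_one (hWN t htW e2 (hPN h.mem2)).symm
    · exact htC k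
    · exact hne
    · rw [hord _ h.mem2]; exact one_mem _
    · rw [hyk]; exact hk3
    · rw [hord _ htP]; exact one_mem _
    · rw [hyk]; exact fun hmem => hne (comm_eq_one (hKc t hmem))

end Cfsg.Agent.PFifth
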