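import Cfsg.Agent.PFifth.Sign
import Cfsg.Agent.PGroup.Basic

/-!
# A nonabelian self-centralising subgroup of order `p ^ 3` (S5264)
-/

set_option autoImplicit false

open scoped commutatorElement

namespace Cfsg.Agent.PFifth

namespace ExtraAux

variable {G : Type*} [Group G] {p : ℕ}

/-- Between a subgroup and an overgroup of index `p` there is nothing. -/
theorem eq_of_between [Finite G] [Fact p.Prime] {K L H : Subgroup G} (hKL : K ≤ L) (hLH : L ≤ H)
    (hcard : Nat.card H = p * Nat.card K) {g : G} (hg : g ∈ L) (hgK : g ∉ K) : L = H := by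
  obtain ⟨t, ht⟩ := Subgroup.card_dvd_of_le hKL
  have h1 : Nat.card L ∣ Nat.card K * p := by
    rw [mul_comm, ← hcard]; exact Subgroup.card_dvd_of_le hLH
  rw [ht] at h1
  have h2 : t ∣ p := Nat.dvd_of_mul_dvd_mul_left Nat.card_pos h1
  rcases (Nat.dvd_prime (Fact.out : p.Prime)).1 h2 with rfl | rfl
  · refine absurd ?_ hgK
    have : K = L := Subgroup.eq_of_le_of_card_ge hKL (by rw [ht, mul_one])
    exact this ▸ hg
  · exact Subgroup.eq_of_le_of_card_ge hLH (by rw [hcard, ht, mul_comm])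

theorem pow_mem_of_sq_mem [Finite G] (ho : Odd (Nat.card G)) {P : Subgroup G} {a : G}
    (h : a * a ∈ P) : a ∈ P := by
  obtain ⟨k, hk⟩ := SignAux.exists_half ho a
  rw [← hk, ← (Commute.refl a).mul_pow]
  exact P.pow_mem h k

end ExtraAux

open ExtraAux SignAux

variable {G : Type*} [Group G] [Finite G] {p : ℕ} [Fact p.Prime] {P O : Subgroup G} {x e1 e2 : G}
  {τ : MulAut G}

set_option maxHeartbeats 800000 in
/-- The case of a nonabelian self-centralising subgroup of order `p ^ 3`. -/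
theorem extra_case (hp : p ≠ 2) (hcard : Nat.card G = p ^ 5) (h : Signed p P O x e1 e2 τ)
    (hP : Nat.card P = p ^ 3) (hna : ¬ IsMulCommutative P) : Goal p G := by
  classical
  have hpp : p.Prime := Fact.out
  have hG : IsPGroup p G := IsPGroup.of_card hcard
  have ho : Odd (Nat.card G) := frame_odd hG hp
  obtain ⟨hφP, hcm, hpw, hcen, hφN, hcp⟩ := facts hG h.toFrame
  have hττ : ∀ a, τ (τ a) = a := fun a => by rw [← MulAut.mul_apply, h.sq]; rfl
  set c := ⁅e1, e2⁆ with hc
  set N := Subgroup.normalizer (P : Set G) with hN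
  have hcard_O : Nat.card O = p := by
    have h0 := h.card_O
    rw [hP, pow_succ' p 2] at h0
    exact (Nat.eq_of_mul_eq_mul_right (pow_pos hpp.pos 2) h0).symm
  have hOc : ∀ o ∈ O, ∀ w ∈ P, Commute o w := fun o hoO w hw => h.O_central o hoO w hw
  have hcO : c ∈ O := h.phi_le (hcm _ h.mem1 _ h.mem2)
  -- every element of `P` is `e1 ^ i * e2 ^ j * o`, so `c` is not trivial
  have hc1 : c ≠ 1 := by
    intro h1
    apply hna
    have hcomm : Commute e1 e2 := commutatorElement_eq_one_iff_commute.1 h1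
    refine ⟨⟨fun a b => Subtype.ext ?_⟩⟩
    obtain ⟨i, j, o, hoO, ha⟩ := h.gen a a.2
    obtain ⟨i', j', o', hoO', hb⟩ := h.gen b b.2
    have q1 : ∀ i j : ℕ, Commute e1 (e1 ^ i * e2 ^ j) := fun i j =>
      ((Commute.refl e1).pow_right i).mul_right (hcomm.pow_right j)
    have q2 : ∀ i j : ℕ, Commute e2 (e1 ^ i * e2 ^ j) := fun i j =>
      (hcomm.symm.pow_right i).mul_right ((Commute.refl e2).pow_right j)
    have q3 : Commute e1 (b : G) := hb ▸ (q1 i' j').mul_right (hOc o' hoO' _ h.mem1).symm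
    have q4 : Commute e2 (b : G) := hb ▸ (q2 i' j').mul_right (hOc o' hoO' _ h.mem2).symm
    have q5 : Commute o (b : G) := hOc o hoO _ b.2
    show (a : G) * b = b * a
    rw [ha]
    exact (((q3.pow_left i).mul_left (q4.pow_left j)).mul_left q5).eq
  have hOeq : ∀ o ∈ O, ∃ k : ℕ, o = c ^ k := by
    have hφO : phi P = O := by
      refine Subgroup.eq_of_le_of_card_ge h.phi_le ?_
      rw [hcard_O]
      have hd : Nat.card (phi P) ∣ p := hcard_O ▸ Subgroup.card_dvd_of_le h.phi_le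
      rcases (Nat.dvd_prime hpp).1 hd with h1 | h1
      · refine absurd ?_ hc1
        have := hcm _ h.mem1 _ h.mem2
        rw [Subgroup.eq_bot_of_card_eq _ h1, Subgroup.mem_bot] at this
        exact this
      · rw [h1]
    intro o hoO
    exact h.phi_gen o (hφO.symm ▸ hoO)
  have hcpow : ∀ j : ℕ, c ^ j = 1 → p ∣ j := fun j hj => by
    rcases (Nat.dvd_prime hpp).1 (orderOf_dvd_of_pow_eq_one hcp) with h1 | h1
    · exact absurd (orderOf_eq_one_iff.1 h1) hc1
    · exact h1 ▸ orderOf_dvd_of_pow_eq_one hj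
  -- `x` centralises `e1` and `O`
  have hxe1 : Commute x e1 := by
    rw [← commutatorElement_eq_one_iff_commute]
    have h1 := h.com1
    refine eq_one_of_fixed_inverted ho (h.sO _ (h.phi_le h1)) ?_
    rw [map_commutatorElement, h.sx, h.s1]
    have e : ⁅x, e1⁻¹⁆ = e1⁻¹ * ⁅x, e1⁆⁻¹ * e1 := by simp only [commutatorElement_def]; group
    rw [e, mul_assoc, (hcen _ (inv_mem h1) _ h.mem1).eq, inv_mul_cancel_left]
  set c2 := e1⁻¹ * ⁅x, e2⁆ with hc2
  have hc2O : c2 ∈ O := h.phi_le h.com2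
  have hxc : Commute x c := by
    refine mul_inv_eq_iff_eq_mul.1 ?_
    have e : x * c * x⁻¹ = ⁅x * e1 * x⁻¹, x * e2 * x⁻¹⁆ := by
      rw [hc]; simp only [commutatorElement_def]; group
    rw [e, hxe1.eq, mul_inv_cancel_right,
      show x * e2 * x⁻¹ = (e1 * c2) * e2 by rw [hc2]; simp only [commutatorElement_def]; group]
    have q : Commute e1 (e1 * c2) := (Commute.refl e1).mul_right (hOc _ hc2O _ h.mem1).symm
    have q' : Commute (e1 * c2) c :=
      (hOc _ hcO _ (mul_mem h.mem1 (h.O_le hc2O))).symm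
    have e' : ⁅e1, e1 * c2 * e2⁆ = ⁅e1, e1 * c2⁆ * ((e1 * c2) * c * (e1 * c2)⁻¹) := by
      rw [hc]; simp only [commutatorElement_def]; group
    rw [e', commutatorElement_eq_one_iff_commute.2 q, one_mul, q'.eq, mul_inv_cancel_right]
  have hxO : ∀ o ∈ O, Commute x o := fun o hoO => by
    obtain ⟨k, rfl⟩ := hOeq o hoO
    exact hxc.pow_right k
  -- the elements of `N`
  have hPN : P ≤ N := Subgroup.le_normalizer
  have hNel : ∀ n ∈ N, ∃ a : ℕ, ∃ w ∈ P, n = x ^ a * w := by
    intro n hn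
    set L := Subgroup.zpowers x ⊔ P with hL
    have hLN : L = N := eq_of_between (p := p) le_sup_right
      (sup_le (Subgroup.zpowers_le.2 h.x_norm) hPN) h.card_norm
      (Subgroup.mem_sup_left (Subgroup.mem_zpowers x)) h.x_nmem
    rw [← hLN, hL, ← SetLike.mem_coe,
      Subgroup.coe_mul_of_left_le_normalizer_right _ _ (Subgroup.zpowers_le.2 h.x_norm)] at hn
    obtain ⟨z, hz, w, hw, rfl⟩ := hn
    obtain ⟨a, rfl⟩ := mem_powers_iff_mem_zpowers.2 hz
    exact ⟨a, w, hw, rfl⟩
  -- elements of `N` fixing `e2` modulo `Φ(P)` lie in `P`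
  let K : Subgroup G :=
    { carrier := {a | a ∈ N ∧ ⁅a, e2⁆ ∈ phi P}
      one_mem' := ⟨one_mem _, by simp⟩
      mul_mem' := fun {a b} ha hb => ⟨mul_mem ha.1 hb.1, by
        have e : ⁅a * b, e2⁆ = a * ⁅b, e2⁆ * a⁻¹ * ⁅a, e2⁆ := by
          simp only [commutatorElement_def]; group
        rw [e]
        exact mul_mem (hφN a ha.1 _ hb.2) ha.2⟩
      inv_mem' := fun {a} ha => ⟨inv_mem ha.1, by
        have e : ⁅a⁻¹, e2⁆ = a⁻¹ * ⁅a, e2⁆⁻¹ * (a⁻¹)⁻¹ := by
          simp only [commutatorElement_def]; group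
        rw [e]
        exact hφN _ (inv_mem ha.1) _ (inv_mem ha.2)⟩ }
  have hKP : ∀ n ∈ N, ⁅n, e2⁆ ∈ phi P → n ∈ P := by
    intro n hn hne
    by_contra hnP
    have hK : K = N := eq_of_between (p := p) (fun w hw => ⟨hPN hw, hcm w hw e2 h.mem2⟩)
      (fun a ha => ha.1) h.card_norm (show n ∈ K from ⟨hn, hne⟩) hnP
    have hxK : x ∈ K := hK ▸ h.x_norm
    have h1 := mul_mem (h.phi_le hxK.2) (inv_mem hc2O)
    rw [hc2, mul_inv_rev, inv_inv, mul_inv_cancel_left] at h1
    exact hpp.ne_one (Nat.dvd_one.1 (h.indep 1 0 (by simpa using h1)).1)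
  -- `N` is normal of index `p`
  have hNc : Nat.card N = p ^ 4 := by rw [hN, h.card_norm, hP, ← pow_succ']
  have hNn : N.Normal := by
    rw [← Subgroup.normalizer_eq_top_iff]
    have hlt : N < Subgroup.normalizer (N : Set G) := by
      have := hG.isNilpotent
      refine Group.normalizerCondition_of_isNilpotent (G := G) N
        (lt_top_iff_ne_top.2 fun ht => ?_)
      rw [ht, Subgroup.card_top, hcard] at hNc
      exact absurd (Nat.pow_right_injective hpp.two_le hNc) (by norm_num)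
    obtain ⟨g, hg, hgN⟩ := SetLike.exists_of_lt hlt
    exact eq_of_between (p := p) hlt.le le_top
      (by rw [Subgroup.card_top, hcard, hNc, ← pow_succ']) hg hgN
  -- `Z(N) = O` is central in `G`
  have hON : ∀ o ∈ O, ∀ n ∈ N, Commute o n := by
    intro o hoO n hn
    obtain ⟨a, w, hw, rfl⟩ := hNel n hn
    exact ((hxO o hoO).symm.pow_right a).mul_right (hOc o hoO w hw)
  have hOnorm : ∀ o ∈ O, ∀ g : G, g * o * g⁻¹ ∈ O := by
    intro o hoO g
    have hz : g * o * g⁻¹ ∈ N := hNn.conj_mem o (hPN (h.O_le hoO)) g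
    have hzc : ∀ n ∈ N, Commute (g * o * g⁻¹) n := by
      intro n hn
      have h1 : g⁻¹ * n * g ∈ N := by simpa using hNn.conj_mem n hn g⁻¹
      have h2 := congrArg (fun t => g * t * g⁻¹) (hON o hoO _ h1).eq
      show g * o * g⁻¹ * n = n * (g * o * g⁻¹)
      simpa [mul_assoc] using h2
    have hzP : g * o * g⁻¹ ∈ P :=
      h.sc (Subgroup.mem_centralizer_iff.2 fun w hw => ((hzc w (hPN hw)).eq).symm)
    obtain ⟨i, j, o', hoO', he⟩ := h.gen _ hzP
    rw [he]
    have hi : p ∣ i ∧ p ∣ j := by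
      have he' : e1 ^ i * e2 ^ j = g * o * g⁻¹ * o'⁻¹ := by rw [he, mul_inv_cancel_right]
      have h1 : Commute e1 (e1 ^ i * e2 ^ j) :=
        he' ▸ ((hzc e1 (hPN h.mem1)).symm.mul_right (hOc o' hoO' _ h.mem1).symm.inv_right)
      have h2 : Commute e2 (e1 ^ i * e2 ^ j) :=
        he' ▸ ((hzc e2 (hPN h.mem2)).symm.mul_right (hOc o' hoO' _ h.mem2).symm.inv_right)
      have h3 : Commute e1 (e2 ^ j) := by
        simpa using ((Commute.refl e1).pow_right i).inv_right.mul_right h1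
      have h4 : Commute e2 (e1 ^ i) := by
        simpa using h2.mul_right ((Commute.refl e2).pow_right j).inv_right
      refine ⟨hcpow i ?_, hcpow j ?_⟩
      · rw [hc, ← comm_pow_left (hOc _ hcO _ h.mem1).symm]
        exact commutatorElement_eq_one_iff_commute.2 h4.symm
      · rw [hc, ← comm_pow_right (hOc _ hcO _ h.mem2).symm]
        exact commutatorElement_eq_one_iff_commute.2 h3
    obtain ⟨⟨i', rfl⟩, ⟨j', rfl⟩⟩ := hi
    refine mul_mem (mul_mem (h.phi_le ?_) (h.phi_le ?_)) hoO'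
    · rw [pow_mul]; exact pow_mem (hpw _ h.mem1) _
    · rw [pow_mul]; exact pow_mem (hpw _ h.mem2) _
  haveI hOn : O.Normal := ⟨hOnorm⟩
  have hOcen : ∀ o ∈ O, ∀ g : G, Commute g o := by
    intro o hoO g
    have hle : O ≤ Subgroup.center G := by
      obtain ⟨z, hz, hzc⟩ : ∃ z ∈ O, z ∈ Subgroup.center G ∧ z ≠ 1 := by
        by_contra hcon
        have hbot : O ⊓ Subgroup.center G = ⊥ := by
          refine eq_bot_iff.2 fun z hz => Subgroup.mem_bot.2 ?_
          by_contra h1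
          exact hcon ⟨z, hz.1, hz.2, h1⟩
        have hOb := PGroup.eq_bot_of_inf_center_eq_bot hG hbot
        rw [hOb, Subgroup.card_bot] at hcard_O
        exact hpp.ne_one hcard_O.symm
      have hzp : Subgroup.zpowers z = O := by
        refine Subgroup.eq_of_le_of_card_ge (Subgroup.zpowers_le.2 hz) ?_
        have hd : Nat.card (Subgroup.zpowers z) ∣ p :=
          hcard_O ▸ Subgroup.card_dvd_of_le (Subgroup.zpowers_le.2 hz)
        rcases (Nat.dvd_prime hpp).1 hd with h1 | h1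
        · exact absurd (Subgroup.zpowers_eq_bot.1 (Subgroup.eq_bot_of_card_eq _ h1)) hzc.2
        · rw [h1, hcard_O]
      rw [← hzp]
      exact Subgroup.zpowers_le.2 hzc.1
    exact Subgroup.mem_center_iff.1 (hle hoO) g
  -- conjugates of `e1` agree with it modulo `O`
  have hge : ∀ g : G, ⁅g, e1⁆ ∈ O := by
    have hone : ∀ g : G, ∃ i : ℕ, ∃ o ∈ O, g * e1 * g⁻¹ = e1 ^ i * o := by
      intro g
      set n := g * e1 * g⁻¹ with hn
      have hnN : n ∈ N := hNn.conj_mem e1 (hPN h.mem1) g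
      have hM : ∀ m ∈ N, ⁅e1, m⁆ ∈ O := by
        intro m hm
        obtain ⟨a, w, hw, rfl⟩ := hNel m hm
        have e : ⁅e1, x ^ a * w⁆ = ⁅e1, x ^ a⁆ * (x ^ a * ⁅e1, w⁆ * (x ^ a)⁻¹) := by
          simp only [commutatorElement_def]; group
        rw [e, commutatorElement_eq_one_iff_commute.2 (hxe1.symm.pow_right a), one_mul]
        exact hOnorm _ (h.phi_le (hcm _ h.mem1 _ hw)) _
      have hn2 : ∀ m ∈ N, ⁅n, m⁆ ∈ O := by
        intro m hm
        have h1 : g⁻¹ * m * g ∈ N := by simpa using hNn.conj_mem m hm g⁻¹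
        have h2 := hOnorm _ (hM _ h1) g
        have e : ⁅n, m⁆ = g * ⁅e1, g⁻¹ * m * g⁆ * g⁻¹ := by
          rw [hn]; simp only [commutatorElement_def]; group
        rwa [e]
      have hnP : n ∈ P := by
        refine hKP n hnN ?_
        obtain ⟨k, hk⟩ := hOeq _ (hn2 e2 (hPN h.mem2))
        rw [hk, hc]
        exact pow_mem (hcm _ h.mem1 _ h.mem2) k
      obtain ⟨i, j, o, hoO, he⟩ := h.gen n hnP
      have h1 : ⁅x, n⁆ ∈ O := by
        rw [← commutatorElement_inv n x]
        exact inv_mem (hn2 x h.x_norm)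
      have h2 : e1 ^ j ∈ O := by
        have hxj : ∀ j : ℕ, ∃ o ∈ O, x * e2 ^ j * x⁻¹ = e1 ^ j * e2 ^ j * o := by
          intro j
          induction j with
          | zero => exact ⟨1, one_mem _, by simp⟩
          | succ j ih =>
            obtain ⟨o1, ho1, h1⟩ := ih
            have q1 : e2 ^ j * e1 = e1 * e2 ^ j * (c ^ j)⁻¹ := by
              have q := comm_pow_right (hOc _ hcO _ h.mem2).symm j
              rw [← hc] at q
              rw [← q]
              simp only [commutatorElement_def]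
              have q' : Commute (e1 * e2 ^ j * e1⁻¹ * (e2 ^ j)⁻¹) (e1 * e2 ^ j) := by
                have : e1 * e2 ^ j * e1⁻¹ * (e2 ^ j)⁻¹ = c ^ j := q
                rw [this]
                exact hOc _ (pow_mem hcO j) _ (mul_mem h.mem1 (pow_mem h.mem2 j))
              rw [← q'.inv_left.eq]
              group
            refine ⟨(c ^ j)⁻¹ * (c2 * o1), mul_mem (inv_mem (pow_mem hcO j)) (mul_mem hc2O ho1), ?_⟩
            have hx2 : x * e2 * x⁻¹ = e1 * c2 * e2 := by
              rw [hc2]; simp only [commutatorElement_def]; group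
            have r1 : Commute o1 (e1 * c2 * e2) :=
              hOc _ ho1 _ (mul_mem (mul_mem h.mem1 (h.O_le hc2O)) h.mem2)
            have r2 : Commute c2 e2 := hOc _ hc2O _ h.mem2
            have r3 : Commute (c ^ j)⁻¹ e2 := hOc _ (inv_mem (pow_mem hcO j)) _ h.mem2
            calc x * e2 ^ (j + 1) * x⁻¹ = (x * e2 ^ j * x⁻¹) * (x * e2 * x⁻¹) := by
                  rw [pow_succ]; group
              _ = e1 ^ j * e2 ^ j * (o1 * (e1 * c2 * e2)) := by rw [h1, hx2]; group
              _ = e1 ^ j * (e2 ^ j * e1) * (c2 * e2) * o1 := by rw [r1.eq]; group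
              _ = e1 ^ j * (e1 * e2 ^ j * (c ^ j)⁻¹) * (e2 * c2) * o1 := by rw [q1, r2.eq]
              _ = e1 ^ j * e1 * e2 ^ j * ((c ^ j)⁻¹ * e2) * c2 * o1 := by group
              _ = e1 ^ j * e1 * e2 ^ j * (e2 * (c ^ j)⁻¹) * c2 * o1 := by rw [r3.eq]
              _ = _ := by rw [pow_succ, pow_succ]; group
        obtain ⟨o1, ho1, h3⟩ := hxj j
        have q : Commute x (e1 ^ i) := hxe1.pow_right i
        have e : ⁅x, n⁆ = e1 ^ i * (e1 ^ j * e2 ^ j * o1 * (e2 ^ j)⁻¹) * (e1 ^ i)⁻¹ := by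
          rw [← h3, he, commutatorElement_def]
          calc x * (e1 ^ i * e2 ^ j * o) * x⁻¹ * (e1 ^ i * e2 ^ j * o)⁻¹
              = (x * e1 ^ i) * e2 ^ j * (o * x⁻¹) * o⁻¹ * (e2 ^ j)⁻¹ * (e1 ^ i)⁻¹ := by group
            _ = (e1 ^ i * x) * e2 ^ j * (x⁻¹ * o) * o⁻¹ * (e2 ^ j)⁻¹ * (e1 ^ i)⁻¹ := by
                rw [q.eq, (hxO o hoO).inv_left.eq]
            _ = _ := by group
        have h4 : e1 ^ j * e2 ^ j * o1 * (e2 ^ j)⁻¹ ∈ O := by
          have := hOnorm _ h1 (e1 ^ i)⁻¹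
          rw [e] at this
          simpa [mul_assoc] using this
        have r : e1 ^ j * e2 ^ j * o1 * (e2 ^ j)⁻¹ = e1 ^ j * o1 := by
          rw [mul_assoc (e1 ^ j), ← (hOc _ ho1 _ (pow_mem h.mem2 j)).eq]; group
        rw [r] at h4
        simpa using mul_mem h4 (inv_mem ho1)
      obtain ⟨j', rfl⟩ := (h.indep j 0 (by simpa using h2)).1
      exact ⟨i, e2 ^ (p * j') * o, mul_mem (h.phi_le (by rw [pow_mul]; exact pow_mem (hpw _ h.mem2) _))
        hoO, by rw [he]; group⟩
    intro g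
    obtain ⟨i, o, hoO, he⟩ := hone g
    have hpo : ∀ m : ℕ, ∃ o' ∈ O, g ^ m * e1 * (g ^ m)⁻¹ = e1 ^ i ^ m * o' := by
      intro m
      induction m with
      | zero => exact ⟨1, one_mem _, by simp⟩
      | succ m ih =>
        obtain ⟨o', ho', he'⟩ := ih
        refine ⟨o ^ i ^ m * o', mul_mem (pow_mem hoO _) ho', ?_⟩
        calc g ^ (m + 1) * e1 * (g ^ (m + 1))⁻¹
            = g * (g ^ m * e1 * (g ^ m)⁻¹) * g⁻¹ := by rw [pow_succ']; group
          _ = (g * e1 * g⁻¹) ^ i ^ m * (g * o' * g⁻¹) := by rw [he', conj_pow]; group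
          _ = _ := by
            rw [he, (hOc _ hoO _ (pow_mem h.mem1 i)).symm.mul_pow, ← pow_mul, (hOcen o' ho' g).eq,
              mul_inv_cancel_right, pow_succ', mul_assoc]
    obtain ⟨k, hk⟩ := hG g
    obtain ⟨o', ho', he'⟩ := hpo (p ^ k)
    rw [hk] at he'
    simp only [inv_one, mul_one, one_mul] at he'
    have hi1 : ((i : ZMod p)) = 1 := by
      have h1 : e1 ^ i ^ p ^ k * o' * e1⁻¹ ∈ O := by rw [← he', mul_inv_cancel]; exact one_mem _
      rw [mul_assoc, (hOc o' ho' _ (inv_mem h.mem1)).eq, ← mul_assoc] at h1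
      have h2 := mul_mem h1 (inv_mem ho')
      rw [mul_inv_cancel_right] at h2
      have h3 : ((i ^ p ^ k : ℕ) : ZMod p) = 1 := by
        rcases Nat.eq_zero_or_pos (i ^ p ^ k) with h0 | h0
        · exfalso
          rw [h0, pow_zero, one_mul] at h2
          exact hpp.ne_one (Nat.dvd_one.1 (h.indep 1 0 (by simpa using inv_mem h2)).1)
        · obtain ⟨t, ht⟩ := Nat.exists_eq_succ_of_ne_zero h0.ne'
          rw [ht, pow_succ, mul_inv_cancel_right] at h2
          rw [ht, Nat.cast_succ, (ZMod.natCast_eq_zero_iff t p).2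
            (h.indep t 0 (by simpa using h2)).1, zero_add]
      rwa [Nat.cast_pow, ZMod.pow_card_pow] at h3
    rw [commutatorElement_def, he]
    obtain ⟨t, ht⟩ : ∃ t, i = t + 1 := by
      refine Nat.exists_eq_succ_of_ne_zero fun h0 => ?_
      rw [h0, Nat.cast_zero] at hi1
      exact zero_ne_one hi1
    subst ht
    rw [Nat.cast_add, Nat.cast_one, add_eq_right, ZMod.natCast_eq_zero_iff] at hi1
    obtain ⟨t', rfl⟩ := hi1
    rw [pow_succ, mul_assoc, (hOc o hoO _ (inv_mem h.mem1)).eq, ← mul_assoc, mul_inv_cancel_right]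
    exact mul_mem (h.phi_le (by rw [pow_mul]; exact pow_mem (hpw _ h.mem1) _)) hoO
  -- `A = C(e1)` has index `p`
  let f : G →* O :=
    { toFun := fun g => ⟨⁅g, e1⁆, hge g⟩
      map_one' := Subtype.ext (by simp)
      map_mul' := fun a b => Subtype.ext (by
        show ⁅a * b, e1⁆ = ⁅a, e1⁆ * ⁅b, e1⁆
        have e : ⁅a * b, e1⁆ = a * ⁅b, e1⁆ * a⁻¹ * ⁅a, e1⁆ := by
          simp only [commutatorElement_def]; group
        rw [e, (hOcen _ (hge b) a).eq, mul_inv_cancel_right, (hOcen _ (hge a) ⁅b, e1⁆).eq]) }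
  set A := f.ker with hA
  have hAmem : ∀ a, a ∈ A ↔ Commute a e1 := fun a => by
    rw [hA, MonoidHom.mem_ker, Subtype.ext_iff]
    exact commutatorElement_eq_one_iff_commute
  have he2A : e2 ∉ A := fun he => hc1 (by
    rw [hc, commutatorElement_eq_one_iff_commute]
    exact ((hAmem e2).1 he).symm)
  have hAidx : A.index = p := by
    rw [hA, Subgroup.index_ker]
    have hd : Nat.card f.range ∣ p := hcard_O ▸ Subgroup.card_subgroup_dvd_card _
    rcases (Nat.dvd_prime hpp).1 hd with h1 | h1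
    · exact absurd ((MonoidHom.mem_ker (f := f)).2 (Subgroup.mem_bot.1
        ((Subgroup.eq_bot_of_card_eq _ h1) ▸ (⟨e2, rfl⟩ : f e2 ∈ f.range)))) he2A
    · exact h1
  have hAc : Nat.card A = p ^ 4 := by
    have h1 := A.card_mul_index
    rw [hAidx, hcard, pow_succ p 4] at h1
    exact Nat.eq_of_mul_eq_mul_right hpp.pos h1
  set B := A ⊓ N with hB
  have hAn : A.Normal := MonoidHom.normal_ker f
  haveI hBn : B.Normal := by rw [hB]; infer_instance
  have hBc : Nat.card B = p ^ 3 := by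
    obtain ⟨i, hi, hi'⟩ := (Nat.dvd_prime_pow hpp).1
      (hNc ▸ Subgroup.card_dvd_of_le (inf_le_right : B ≤ N))
    rw [hi']
    have hne : i ≠ 4 := fun h4 => he2A (by
      have : B = N := Subgroup.eq_of_le_of_card_ge inf_le_right (by rw [hi', h4, hNc])
      exact (this.symm ▸ hPN h.mem2 : e2 ∈ B).1)
    have h3 : 3 ≤ i := by
      have h1 : B.index ≤ A.index * N.index := Subgroup.index_inf_le
      have h2 : N.index = p := by
        have h1' := N.card_mul_index
        rw [hNc, hcard, pow_succ p 4] at h1'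
        exact Nat.eq_of_mul_eq_mul_left (pow_pos hpp.pos 4) h1'
      rw [hAidx, h2] at h1
      have h4 := B.card_mul_index
      rw [hi', hcard] at h4
      by_contra hlt
      have h5 : p ^ i * B.index ≤ p ^ 2 * (p * p) :=
        Nat.mul_le_mul (Nat.pow_le_pow_right hpp.pos (by omega)) h1
      rw [h4, show p ^ 2 * (p * p) = p ^ 4 by ring] at h5
      exact absurd ((Nat.pow_le_pow_iff_right hpp.one_lt).1 h5) (by norm_num)
    rw [show i = 3 by omega]
  have hxB : x ∈ B := ⟨(hAmem x).2 hxe1, h.x_norm⟩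
  -- elements of `B` are `x ^ a * e1 ^ i * o`
  have hBel : ∀ b ∈ B, ∃ a i : ℕ, ∃ o ∈ O, b = x ^ a * e1 ^ i * o := by
    intro b hb
    obtain ⟨a, w, hw, rfl⟩ := hNel b hb.2
    obtain ⟨i, j, o, hoO, rfl⟩ := h.gen w hw
    have h1 : Commute (e2 ^ j) e1 := by
      have q := (hAmem _).1 hb.1
      have q1 : Commute (x ^ a) e1 := hxe1.pow_left a
      have q2 : Commute (e1 ^ i) e1 := (Commute.refl e1).pow_left i
      have q3 : Commute o e1 := hOc o hoO _ h.mem1
      have := (((q1.mul_left q2).inv_left).mul_left q).mul_left q3.inv_left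
      simpa [mul_assoc] using this
    have hj : p ∣ j := hcpow j (by
      rw [hc, ← comm_pow_right (hOc _ hcO _ h.mem2).symm]
      exact commutatorElement_eq_one_iff_commute.2 h1.symm)
    obtain ⟨j', rfl⟩ := hj
    exact ⟨a, i, e2 ^ (p * j') * o,
      mul_mem (h.phi_le (by rw [pow_mul]; exact pow_mem (hpw _ h.mem2) _)) hoO, by group⟩
  have hBab : ∀ b ∈ B, ∀ b' ∈ B, Commute b b' := by
    intro b hb b' hb'
    obtain ⟨a, i, o, hoO, rfl⟩ := hBel b hb
    obtain ⟨a', i', o', hoO', rfl⟩ := hBel b' hb'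
    have q1 : Commute x (x ^ a' * e1 ^ i' * o') :=
      (((Commute.refl x).pow_right a').mul_right (hxe1.pow_right i')).mul_right (hxO o' hoO')
    have q2 : Commute e1 (x ^ a' * e1 ^ i' * o') :=
      ((hxe1.symm.pow_right a').mul_right ((Commute.refl e1).pow_right i')).mul_right
        (hOc o' hoO' _ h.mem1).symm
    exact ((q1.pow_left a).mul_left (q2.pow_left i)).mul_left (hOcen o hoO _).symm
  have hτN : ∀ n ∈ N, τ n ∈ N := fun n hn => by
    obtain ⟨a, w, hw, rfl⟩ := hNel n hn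
    rw [map_mul, map_pow, h.sx]
    exact mul_mem (pow_mem h.x_norm a) (hPN (h.sP w hw))
  have hτA : ∀ a ∈ A, τ a ∈ A := fun a ha => (hAmem _).2 (by
    have h1 := congrArg τ ((hAmem a).1 ha).eq
    rw [map_mul, map_mul, h.s1] at h1
    simpa using (show Commute (τ a) e1⁻¹ from h1).inv_right)
  have hτB : ∀ b ∈ B, τ b ∈ B := fun b hb => ⟨hτA b hb.1, hτN b hb.2⟩
  -- an inverted element of `A` outside `B`
  obtain ⟨g0, hg0A, hg0B⟩ : ∃ g ∈ A, g ∉ B := by
    refine SetLike.exists_of_lt (lt_of_le_of_ne inf_le_left fun e => ?_)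
    rw [e, hAc] at hBc
    exact absurd (Nat.pow_right_injective hpp.two_le hBc) (by norm_num)
  have hnofix : ∀ g ∈ A, g ∉ B → τ g ≠ g := by
    intro g hgA hgB hfix
    set n := g * e2 * g⁻¹ with hn
    have hnN : n ∈ N := hNn.conj_mem e2 (hPN h.mem2) g
    have hτn : τ n = n⁻¹ := by rw [hn, map_mul, map_mul, map_inv, hfix, h.s2]; group
    obtain ⟨a, w, hw, hnw⟩ := hNel n hnN
    have hxa : x ^ a ∈ P := by
      refine pow_mem_of_sq_mem ho ?_
      have h1 : x ^ a * τ w = w⁻¹ * (x ^ a)⁻¹ := by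
        rw [← mul_inv_rev, ← hnw, ← hτn, hnw, map_mul, map_pow, h.sx]
      have h2 : x ^ a * x ^ a = (x ^ a * (τ w)⁻¹ * (x ^ a)⁻¹) * (x ^ a * τ w * x ^ a) := by group
      rw [h2, h1, inv_mul_cancel_right]
      exact mul_mem ((Subgroup.mem_normalizer_iff.1 (pow_mem h.x_norm a) _).1
        (inv_mem (h.sP w hw))) (inv_mem hw)
    have hnP : n ∈ P := hnw ▸ mul_mem hxa hw
    refine hgB ⟨hgA, Subgroup.mem_normalizer_fintype (S := (P : Set G)) fun v hv => ?_⟩
    obtain ⟨i, j, o, hoO, rfl⟩ := h.gen v hv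
    have e : g * (e1 ^ i * e2 ^ j * o) * g⁻¹ =
        (g * e1 * g⁻¹) ^ i * (g * e2 * g⁻¹) ^ j * (g * o * g⁻¹) := by
      rw [conj_pow, conj_pow]; group
    show g * (e1 ^ i * e2 ^ j * o) * g⁻¹ ∈ P
    rw [e, ((hAmem g).1 hgA).eq, mul_inv_cancel_right, (hOcen o hoO g).eq, mul_inv_cancel_right,
      ← hn]
    exact mul_mem (mul_mem (pow_mem h.mem1 i) (pow_mem hnP j)) (h.O_le hoO)
  obtain ⟨g, hgA, hgB, hgτ⟩ : ∃ g ∈ A, g ∉ B ∧ τ g = g⁻¹ := by
    by_cases hcase : g0⁻¹ * τ g0 ∈ B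
    · obtain ⟨g', hg', hfix⟩ := exists_fixed_mem ho h.sq hτB hcase
      refine absurd hfix (hnofix g' ?_ fun hg'' => hg0B ?_)
      · have := mul_mem hg0A hg'.1
        rwa [mul_inv_cancel_left] at this
      · have := mul_mem hg'' (inv_mem hg')
        rwa [mul_inv_rev, inv_inv, mul_inv_cancel_left] at this
    · exact ⟨_, mul_mem (inv_mem hg0A) (hτA _ hg0A), hcase,
        by rw [map_mul, map_inv, hττ, mul_inv_rev, inv_inv]⟩
  -- `w = ⁅x, g⁆` is trivial
  set w := ⁅x, g⁆ with hw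
  have hwB : w ∈ B := by
    have h1 : g * x⁻¹ * g⁻¹ ∈ B := hBn.conj_mem _ (inv_mem hxB) g
    have := mul_mem hxB h1
    rw [hw, commutatorElement_def]
    simpa [mul_assoc] using this
  have hwe2 : Commute e2 w := by
    obtain ⟨hb, hm⟩ : ⁅e2, g⁆ ∈ B ∧ (e1 * c2)⁻¹ ∈ B := by
      refine ⟨⟨?_, ?_⟩, B.inv_mem ⟨(hAmem _).2 ((Commute.refl e1).mul_left (hOc _ hc2O _ h.mem1)),
        hPN (mul_mem h.mem1 (h.O_le hc2O))⟩⟩
      · rw [commutatorElement_def]
        exact A.mul_mem (hAn.conj_mem g hgA e2) (A.inv_mem hgA)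
      · have := N.mul_mem (hPN h.mem2) (hNn.conj_mem e2⁻¹ (inv_mem (hPN h.mem2)) g)
        rw [commutatorElement_def]
        simpa [mul_assoc] using this
    set b := ⁅e2, g⁆ with hbdef
    set m := (e1 * c2)⁻¹ with hmdef
    have hxe : e2 * x * e2⁻¹ = m * x := by
      rw [hmdef, hc2]; simp only [commutatorElement_def]; group
    have hgm : Commute g m :=
      (((hAmem g).1 hgA).mul_right (hOcen _ hc2O g)).inv_right
    have hbm : Commute b m := hBab b hb m hm
    have hbx : Commute b x := hBab b hb x hxB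
    have hbw : Commute b w := hBab b hb w hwB
    show e2 * w = w * e2
    refine mul_inv_eq_iff_eq_mul.1 ?_
    calc e2 * w * e2⁻¹ = ⁅e2 * x * e2⁻¹, e2 * g * e2⁻¹⁆ := by
          rw [hw]; simp only [commutatorElement_def]; group
      _ = ⁅m * x, b * g⁆ := by
          rw [hxe, hbdef, show ⁅e2, g⁆ * g = e2 * g * e2⁻¹ by
            simp only [commutatorElement_def]; group]
      _ = m * ⁅x, b * g⁆ * m⁻¹ * ⁅m, b * g⁆ := by simp only [commutatorElement_def]; group
      _ = m * ⁅x, b * g⁆ * m⁻¹ := by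
          rw [commutatorElement_eq_one_iff_commute.2 (hbm.symm.mul_right hgm.symm), mul_one]
      _ = m * (⁅x, b⁆ * (b * w * b⁻¹)) * m⁻¹ := by
          rw [hw]; simp only [commutatorElement_def]; group
      _ = w := by
          rw [commutatorElement_eq_one_iff_commute.2 hbx.symm, one_mul, hbw.eq,
            mul_inv_cancel_right, (hBab m hm w hwB).eq, mul_inv_cancel_right]
  have hwP : w ∈ P := hKP w hwB.2 (by
    rw [commutatorElement_eq_one_iff_commute.2 hwe2.symm]; exact one_mem _)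
  have hwO : w ∈ O := by
    obtain ⟨i, j, o, hoO, he⟩ := h.gen w hwP
    have h0 : e1 ^ i * e2 ^ j = w * o⁻¹ := by rw [he, mul_inv_cancel_right]
    have h1 : Commute e1 (e1 ^ i * e2 ^ j) := h0 ▸
      (((hAmem w).1 hwB.1).symm.mul_right (hOc o hoO _ h.mem1).symm.inv_right)
    have h2 : Commute e2 (e1 ^ i * e2 ^ j) := h0 ▸
      (hwe2.mul_right (hOc o hoO _ h.mem2).symm.inv_right)
    have h3 : Commute e1 (e2 ^ j) := by
      simpa using ((Commute.refl e1).pow_right i).inv_right.mul_right h1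
    have h4 : Commute e2 (e1 ^ i) := by
      simpa using h2.mul_right ((Commute.refl e2).pow_right j).inv_right
    obtain ⟨i', rfl⟩ : p ∣ i := hcpow i (by
      rw [hc, ← comm_pow_left (hOc _ hcO _ h.mem1).symm]
      exact commutatorElement_eq_one_iff_commute.2 h4.symm)
    obtain ⟨j', rfl⟩ : p ∣ j := hcpow j (by
      rw [hc, ← comm_pow_right (hOc _ hcO _ h.mem2).symm]
      exact commutatorElement_eq_one_iff_commute.2 h3)
    rw [he]
    refine mul_mem (mul_mem (h.phi_le ?_) (h.phi_le ?_)) hoO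
    · rw [pow_mul]; exact pow_mem (hpw _ h.mem1) _
    · rw [pow_mul]; exact pow_mem (hpw _ h.mem2) _
  have hw1 : w = 1 := by
    refine eq_one_of_fixed_inverted ho (h.sO w hwO) ?_
    rw [hw, map_commutatorElement, h.sx, hgτ]
    have e : ⁅x, g⁻¹⁆ = g⁻¹ * w⁻¹ * g := by rw [hw]; simp only [commutatorElement_def]; group
    rw [e, mul_assoc, ← (hOcen _ (inv_mem hwO) g).eq, inv_mul_cancel_left]
  -- `A` is abelian
  have hAB : Nat.card A = p * Nat.card B := by rw [hAc, hBc, ← pow_succ']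
  have hxA : ∀ a ∈ A, Commute a x := by
    have hL : A ⊓ Subgroup.centralizer ({x} : Set G) = A :=
      eq_of_between (p := p) (le_inf inf_le_left fun b hb =>
        Subgroup.mem_centralizer_singleton_iff.2 (hBab b hb x hxB).eq) inf_le_left hAB
        (show g ∈ _ from ⟨hgA, Subgroup.mem_centralizer_singleton_iff.2
          (commutatorElement_eq_one_iff_commute.1 hw1).eq.symm⟩) hgB
    intro a ha
    rw [← hL] at ha
    exact Subgroup.mem_centralizer_singleton_iff.1 ha.2
  have hBA : ∀ a ∈ A, ∀ b ∈ B, Commute a b := by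
    intro a ha b hb
    obtain ⟨a', i, o, hoO, rfl⟩ := hBel b hb
    exact (((hxA a ha).pow_right a').mul_right (((hAmem a).1 ha).pow_right i)).mul_right
      (hOcen o hoO a)
  refine Or.inl ⟨A, ⟨⟨fun a b => Subtype.ext ?_⟩⟩, hAidx⟩
  show (a : G) * b = b * a
  by_cases haB : (a : G) ∈ B
  · exact ((hBA b b.2 a haB).symm).eq
  · have hL : A ⊓ Subgroup.centralizer ({(a : G)} : Set G) = A :=
      eq_of_between (p := p) (le_inf inf_le_left fun v hv =>
        Subgroup.mem_centralizer_singleton_iff.2 (hBA a a.2 v hv).eq.symm) inf_le_left hAB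
        (show (a : G) ∈ _ from ⟨a.2, Subgroup.mem_centralizer_singleton_iff.2 rfl⟩) haB
    have hb : (b : G) ∈ A ⊓ Subgroup.centralizer ({(a : G)} : Set G) := hL.symm ▸ b.2
    exact (Subgroup.mem_centralizer_singleton_iff.1 hb.2).symm

end Cfsg.Agent.PFifth
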