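import Cfsg.Agent.PFifth.TransvDefs
import Cfsg.Agent.PFifth.Torus
import Cfsg.Agent.FusionSys.Focal

/-!
An element of `S` fixed modulo `Φ(S)` by every automorphism contradicts a full hyperfocal
subgroup when every essential subgroup carries a transvection (S5264).
-/

set_option autoImplicit false
set_option linter.style.haveILetI false

open Cfsg Cfsg.FusionSystem Cfsg.Agent.FusionSys Cfsg.Agent.FusRankThree
open scoped commutatorElement

namespace Cfsg.Agent.PFifth

universe u

variable {Ω : Type u} [Group Ω] {S : Subgroup Ω} {p : ℕ}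

/-- The subgroup of `S` generated by `Φ(S)` and the displacements of automorphisms of `S`. -/
def dispTop (F : FusionSystem S) : Subgroup ↥S :=
  frattini ↥S ⊔ Subgroup.closure {w | ∃ ψ ∈ F.autGroup S, ∃ x : ↥S, w = x⁻¹ * ψ x}

theorem frattini_le_dispTop (F : FusionSystem S) : frattini ↥S ≤ dispTop F := le_sup_left

theorem disp_mem_dispTop {F : FusionSystem S} {ψ : MulAut ↥S} (hψ : ψ ∈ F.autGroup S) (x : ↥S) :
    x⁻¹ * ψ x ∈ dispTop F :=
  Subgroup.mem_sup_right (Subgroup.subset_closure ⟨ψ, hψ, x, rfl⟩)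

variable [Finite S] [Fact p.Prime]

/-- The averaging map separates a fixed element from all displacements. -/
theorem not_mem_dispTop (hS : IsPGroup p S) {F : FusionSystem S} (hF : F.IsSaturated p)
    {z : ↥S} (hz : z ∉ frattini ↥S) (hfix : ∀ ψ ∈ F.autGroup S, z⁻¹ * ψ z ∈ frattini ↥S) :
    z ∉ dispTop F := by
  classical
  letI : CommGroup (FQ S) := { (inferInstance : Group (FQ S)) with mul_comm := FQ_comm hS }
  haveI : Finite (MulAut ↥S) := Finite.of_injective (fun e : MulAut ↥S => (e : ↥S → ↥S))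
    DFunLike.coe_injective
  haveI : Finite (MulAut (FQ S)) := Finite.of_injective (fun e : MulAut (FQ S) => (e : FQ S → FQ S))
    DFunLike.coe_injective
  haveI : Fintype (rho F S).range := Fintype.ofFinite _
  -- the image of `Aut_F(S)` has order prime to `p`
  obtain ⟨-, R₀, hR₀⟩ := (saturated_fullyNormalized hS hF (fullyNormalized_top F)).2
  have hsurj := (rho F S).rangeRestrict_surjective
  have hbot : ((R₀.mapSurjective hsurj : Sylow p (rho F S).range) :
      Subgroup (rho F S).range) = ⊥ := by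
    rw [Sylow.coe_mapSurjective, Subgroup.map_eq_bot_iff]
    intro α hα
    rw [hR₀, Subgroup.mem_subgroupOf, mem_autInducedBy] at hα
    obtain ⟨g, hg, hα⟩ := hα
    rw [MonoidHom.ker_rangeRestrict, MonoidHom.mem_ker]
    refine MulEquiv.ext fun v => ?_
    obtain ⟨w, rfl⟩ := QuotientGroup.mk'_surjective (frattini ↥S) v
    show rho F S α (w : FQ S) = (w : FQ S)
    rw [rho_mk]
    refine (QuotientGroup.eq.2 ?_).symm
    have h1 := PGroup.commutatorElement_mem_frattini hS w⁻¹ (⟨g, hg⟩ : ↥S)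
    have h2 : (α : MulAut ↥S) w = ⟨g, hg⟩ * w * (⟨g, hg⟩ : ↥S)⁻¹ := Subtype.ext (hα w)
    rw [h2]
    simpa [commutatorElement_def, mul_assoc] using h1
  have hndvd : ¬ p ∣ Nat.card (rho F S).range := fun hd =>
    Sylow.ne_bot_of_dvd_card (R₀.mapSurjective hsurj) hd hbot
  -- averaging
  let avg : FQ S →* FQ S :=
    { toFun := fun v => ∏ h : (rho F S).range, (h : MulAut (FQ S)) v
      map_one' := by simp
      map_mul' := fun a b => by simp [Finset.prod_mul_distrib] }
  have havg : ∀ v, avg v = ∏ h : (rho F S).range, (h : MulAut (FQ S)) v := fun v => rfl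
  have hkill : dispTop F ≤ (avg.comp (QuotientGroup.mk' (frattini ↥S))).ker := by
    refine sup_le (fun x hx => ?_) ((Subgroup.closure_le _).2 ?_)
    · rw [MonoidHom.mem_ker, MonoidHom.comp_apply, QuotientGroup.mk'_apply,
        (QuotientGroup.eq_one_iff x).2 hx, map_one]
    · rintro _ ⟨ψ, hψ, x, rfl⟩
      rw [SetLike.mem_coe, MonoidHom.mem_ker, MonoidHom.comp_apply, map_mul, map_inv, map_mul,
        map_inv, inv_mul_eq_one]
      let h₀ : (rho F S).range := (rho F S).rangeRestrict ⟨ψ, hψ⟩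
      show avg (x : FQ S) = avg (rho F S ⟨ψ, hψ⟩ (x : FQ S))
      rw [havg, havg]
      exact (Fintype.prod_equiv (Equiv.mulRight h₀) _ _ fun h => rfl).symm
  intro hzT
  have h1 := hkill hzT
  rw [MonoidHom.mem_ker, MonoidHom.comp_apply, QuotientGroup.mk'_apply, havg] at h1
  have hzfix : ∀ h : (rho F S).range, (h : MulAut (FQ S)) (z : FQ S) = (z : FQ S) := by
    rintro ⟨_, ψ, rfl⟩
    show rho F S ψ (z : FQ S) = _
    rw [rho_mk]
    exact (QuotientGroup.eq.2 (hfix _ ψ.2)).symm
  rw [Finset.prod_congr rfl fun h _ => hzfix h, Finset.prod_const, Finset.card_univ,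
    ← Nat.card_eq_fintype_card, ← orderOf_dvd_iff_pow_eq_one] at h1
  have hp := (Fact.out : p.Prime)
  have h2 : orderOf (z : FQ S) ∣ p := orderOf_dvd_of_pow_eq_one (FQ_pow hS _)
  rcases (Nat.dvd_prime hp).1 h2 with h3 | h3
  · exact hz ((QuotientGroup.eq_one_iff z).1 (orderOf_eq_one_iff.1 h3))
  · exact hndvd (h3 ▸ h1)

theorem focal_contradiction (hS : IsPGroup p S) (hp : p ≠ 2) {F : FusionSystem S}
    (hF : F.IsSaturated p) (hT : ∀ P, F.IsEssential p P → Transv F p P)
    (hhyp : F.hyperfocalSubgroup p = S) {z : ↥S} (hz : z ∉ frattini ↥S)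
    (hfix : ∀ ψ ∈ F.autGroup S, z⁻¹ * ψ z ∈ frattini ↥S) : False := by
  set T := (dispTop F).map S.subtype with hTdef
  have hΦT : ∀ x : ↥S, x ∈ frattini ↥S → (x : Ω) ∈ T := fun x hx =>
    ⟨x, frattini_le_dispTop F hx, rfl⟩
  have hST : ⁅S, S⁆ ≤ T := by
    rw [← Subgroup.map_subtype_commutator]
    exact Subgroup.map_mono ((PGroup.commutator_le_frattini hS).trans (frattini_le_dispTop F))
  suffices hle : F ≤ cosetSystem F T hST by
    refine not_mem_dispTop hS hF hz hfix ?_
    have h1 : F.focalSubgroup ≤ T := by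
      rw [focalSubgroup, Subgroup.closure_le]
      rintro _ ⟨P, φ, x, hφ, rfl⟩
      exact (hle P hφ).2 x
    have h2 : (z : Ω) ∈ T := h1 (hyperfocal_le_focal (p := p) F (hhyp.symm ▸ z.2))
    obtain ⟨y, hy, hyz⟩ := h2
    exact (Subtype.ext hyz : y = z) ▸ hy
  refine FusionAlperin.hom_subset_of_essential_step hS hF _ fun P hP ih => ?_
  rcases hP with rfl | hess
  · intro α hα
    refine (mem_autGroup_iff_hom _ le_rfl).2 ⟨autGroup_mem_hom F le_rfl hα, fun x => ?_⟩
    exact ⟨x⁻¹ * α x, disp_mem_dispTop hα x, by simp⟩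
  have tT := hT P hess
  have hPS := tT.le
  haveI : Finite P := finite_of_le ‹_› hPS
  have hPp : IsPGroup p P := hS.to_le hPS
  have hpp := (Fact.out : p.Prime)
  -- the automorphisms moving inside the cosets of `T`
  let M : Subgroup (F.autGroup P) :=
    { carrier := {α | ∀ x : P, (x : Ω)⁻¹ * ((α : MulAut P) x : Ω) ∈ T}
      one_mem' := fun x => by simp [T.one_mem]
      mul_mem' := fun {a b} ha hb x => by
        have := T.mul_mem (hb x) (ha ((b : MulAut P) x))
        simpa [mul_assoc, MulAut.mul_apply] using this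
      inv_mem' := fun {a} ha x => by
        have := T.inv_mem (ha (((a⁻¹ : F.autGroup P) : MulAut P) x))
        simpa [MulAut.mul_apply] using this }
  suffices hM : M = ⊤ by
    intro α hα
    refine (mem_autGroup_iff_hom _ hPS).2 ⟨autGroup_mem_hom F hPS hα, fun x => ?_⟩
    exact (hM ▸ Subgroup.mem_top (⟨α, hα⟩ : F.autGroup P) : (⟨α, hα⟩ : F.autGroup P) ∈ M) x
  obtain ⟨-, R₀, hR₀⟩ := (saturated_fullyNormalized hS hF hess.2.1).2
  -- automorphisms normalising `Aut_S(P)` extend to `N_S(P)`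
  have hnorm : Subgroup.normalizer ((R₀ : Subgroup (F.autGroup P)) : Set (F.autGroup P)) ≤ M := by
    intro a ha x
    have hle' : normalizerIn S P ≤ FusionAlperin.carried S P (a : MulAut P) := by
      intro g hg
      refine ⟨⟨g, hg.2⟩, ?_, rfl⟩
      have hc : conjAut F hPS ⟨g, hg⟩ ∈ (R₀ : Subgroup (F.autGroup P)) := by
        rw [hR₀]
        exact Subgroup.mem_subgroupOf.2 (mem_autInducedBy.2 ⟨g, hg.1, fun y => rfl⟩)
      have hconj := (Subgroup.mem_normalizer_iff.1 ha _).1 hc
      rw [hR₀] at hconj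
      exact Subgroup.mem_subgroupOf.1 hconj
    have hPN : P ≤ normalizerIn S P := le_inf hPS Subgroup.le_normalizer
    obtain ⟨ψ, hψ, hψe⟩ := FusionAlperin.exists_ext_aut'
      (saturated_receptive_of_fullyNormalized hS hF hess.2.1) a.2 hPN le_rfl hle'
    have hlt : Nat.card P < Nat.card (normalizerIn S P) := by
      rw [tT.card_norm]
      exact lt_mul_of_one_lt_left Nat.card_pos hpp.one_lt
    have h1 := (ih _ inf_le_left hlt hψ).2 (Subgroup.inclusion hPN x)
    exact (congrArg (fun w => (x : Ω)⁻¹ * w ∈ T) (hψe x)).mp h1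
  -- `Φ(P) ≤ T`
  have hΦ : frattini ↥P ≤ T.subgroupOf P := by
    intro x hx
    by_contra hxN
    have hc : commutator ↥P ≤ T.subgroupOf P :=
      Subgroup.map_le_iff_le_comap.1 ((Subgroup.map_subtype_commutator P).trans_le
        ((Subgroup.commutator_mono hPS hPS).trans hST))
    have hpow : ∀ y : ↥P, y ^ p ∈ T.subgroupOf P := fun y =>
      hΦT _ (PGroup.pow_mem_frattini hS (⟨y, hPS y.2⟩ : ↥S))
    obtain ⟨C, hC, -, hxC⟩ := PGroup.exists_isCoatom_not_mem hpp hc hpow hxN
    exact hxC (frattini_le_coatom hC hx)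
  -- the transvection
  obtain ⟨g, hg, I, hI, hdisp, hIfix⟩ := tT.tv
  letI : CommGroup (FQ P) := { (inferInstance : Group (FQ P)) with mul_comm := FQ_comm hPp }
  haveI : Finite (MulAut ↥P) := Finite.of_injective (fun e : MulAut ↥P => (e : ↥P → ↥P))
    DFunLike.coe_injective
  haveI : Finite (MulAut (FQ P)) := Finite.of_injective (fun e : MulAut (FQ P) => (e : FQ P → FQ P))
    DFunLike.coe_injective
  obtain ⟨R, Y, -, hY, hN, hRiff⟩ := exists_lin_data hS hF hess
  set ρ := (rho F P).rangeRestrict with hρ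
  let c : normalizerIn S P →* (rho F P).range := ρ.comp (conjAut F hPS)
  let u : (rho F P).range := c g
  have hV : ∀ v : FQ P, v ^ p = 1 := FQ_pow hPp
  have htv : MCE.Tv (u : MulAut (FQ P)) I := ⟨hdisp, hIfix⟩
  have hu : u ≠ 1 := fun h => hg ((rho_conjAut_eq_one hS hess g).1 (congrArg Subtype.val h))
  have hup : u ^ p = 1 := Subtype.ext (htv.pow_prime hV)
  have huR : u ∈ (R : Subgroup (rho F P).range) :=
    (hRiff _).2 (mem_autInducedBy.2 ⟨g, g.2.1, fun y => rfl⟩)
  have hgen : ∀ h : normalizerIn S P, c h ∈ Subgroup.zpowers u := by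
    haveI : (P.subgroupOf (normalizerIn S P)).Normal := Subgroup.normal_subgroupOf_of_le_normalizer
      inf_le_right
    let π := QuotientGroup.mk' (P.subgroupOf (normalizerIn S P))
    have hPN : P ≤ normalizerIn S P := le_inf hPS Subgroup.le_normalizer
    have hk : P.subgroupOf (normalizerIn S P) ≤ c.ker := fun w hw =>
      Subtype.ext ((rho_conjAut_eq_one hS hess w).2 hw)
    have hcard : Nat.card (normalizerIn S P ⧸ P.subgroupOf (normalizerIn S P)) = p := by
      have h1 := Subgroup.card_eq_card_quotient_mul_card_subgroup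
        (P.subgroupOf (normalizerIn S P))
      rw [Nat.card_congr (Subgroup.subgroupOfEquivOfLe hPN).toEquiv, tT.card_norm] at h1
      exact (Nat.eq_of_mul_eq_mul_right Nat.card_pos h1).symm
    haveI : Finite (normalizerIn S P) := finite_of_le ‹_› inf_le_left
    intro h
    have hπg : π g ≠ 1 := fun e => hg ((QuotientGroup.eq_one_iff g).1 e)
    obtain ⟨k, hk'⟩ := Subgroup.mem_zpowers_iff.1
      (mem_zpowers_of_prime_card hcard hπg (g' := π h))
    have h1 : (g ^ k)⁻¹ * h ∈ c.ker := hk (QuotientGroup.eq.1 (by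
      simpa [π] using hk'))
    rw [MonoidHom.mem_ker, map_mul, map_inv, inv_mul_eq_one, map_zpow] at h1
    exact ⟨k, h1⟩
  have hRu : (R : Subgroup (rho F P).range) = Subgroup.zpowers u := by
    refine le_antisymm (fun r hr => ?_) (Subgroup.zpowers_le.2 huR)
    obtain ⟨a, rfl⟩ := MonoidHom.rangeRestrict_surjective (rho F P) r
    obtain ⟨k, hk, hka⟩ := mem_autInducedBy.1 ((hRiff a).1 hr)
    have hkN : k ∈ normalizerIn S P :=
      ⟨hk, mem_normalizer_of_conj_eq (a : MulAut P) hka⟩
    have : a = conjAut F hPS ⟨k, hkN⟩ := Subtype.ext (MulEquiv.ext fun y => Subtype.ext (hka y))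
    rw [this]
    exact hgen _
  have hR : Nat.card R = p := by
    show Nat.card (R : Subgroup (rho F P).range) = p
    rw [hRu, Nat.card_zpowers]
    exact orderOf_eq_prime hup hu
  have hnn : ¬ (R : Subgroup (rho F P).range).Normal := by
    intro hn
    refine hY (top_le_iff.1 ?_)
    refine le_trans (le_of_eq (Subgroup.normalizer_eq_top_iff.2 hn).symm) (hN _ le_rfl ?_)
    intro h
    exact hu (Subgroup.mem_bot.1 (h ▸ huR))
  -- displacements of the normaliser of `R` lie in `T`
  have hD : Subgroup.closure {w : FQ P | ∃ α : (rho F P).range,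
      α ∈ Subgroup.normalizer ((R : Subgroup (rho F P).range) : Set (rho F P).range) ∧
        ∃ v, w = v⁻¹ * (α : MulAut (FQ P)) v} ≤
      (T.subgroupOf P).map (QuotientGroup.mk' (frattini ↥P)) := by
    rw [Subgroup.closure_le]
    rintro _ ⟨α, hα, v, rfl⟩
    obtain ⟨a, rfl⟩ := MonoidHom.rangeRestrict_surjective (rho F P) α
    obtain ⟨x, rfl⟩ := QuotientGroup.mk'_surjective (frattini ↥P) v
    have haM : a ∈ M := by
      refine hnorm (Subgroup.mem_normalizer_iff.2 fun b => ?_)
      have h1 := Subgroup.mem_normalizer_iff.1 hα (ρ b)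
      rw [← map_inv, ← map_mul, ← map_mul, hRiff, hRiff] at h1
      rw [hR₀]
      simpa only [Subgroup.mem_subgroupOf] using h1
    exact ⟨x⁻¹ * (a : MulAut P) x, haM x, rfl⟩
  -- every conjugate of `Aut_S(P)` moves inside the cosets of `T`
  have hkey : ∀ β : F.autGroup P, ∀ r ∈ (R₀ : Subgroup (F.autGroup P)), β * r * β⁻¹ ∈ M := by
    intro β r hr y
    rw [hR₀, Subgroup.mem_subgroupOf, mem_autInducedBy] at hr
    obtain ⟨k, hk, hkr⟩ := hr
    have hkN : k ∈ normalizerIn S P := ⟨hk, mem_normalizer_of_conj_eq (r : MulAut P) hkr⟩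
    set x := ((β⁻¹ : F.autGroup P) : MulAut P) y with hx
    have hyx : y = (β : MulAut P) x := by simp [hx]
    have hr' : r = conjAut F hPS ⟨k, hkN⟩ := Subtype.ext (MulEquiv.ext fun w => Subtype.ext (hkr w))
    have hwI : ((x⁻¹ * (r : MulAut P) x : P) : FQ P) ∈ I := by
      obtain ⟨n, hn⟩ : c ⟨k, hkN⟩ ∈ Submonoid.powers u := by
        rw [mem_powers_iff_mem_zpowers]
        exact hgen _
      have h1 : rho F P r = (u : MulAut (FQ P)) ^ n := by
        rw [hr']
        exact (congrArg Subtype.val hn).symm.trans (by simp)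
      rw [QuotientGroup.mk_mul, QuotientGroup.mk_inv, ← rho_mk F P r x, h1, htv.pow_apply,
        inv_mul_cancel_left]
      exact I.pow_mem (htv.disp _) n
    have h2 := hD (map_le_displacement hp hV hR hnn htv hI hu huR (ρ β)
      (Subgroup.mem_map_of_mem _ hwI))
    obtain ⟨t, ht, hte⟩ := h2
    have h3 : t⁻¹ * (β : MulAut P) (x⁻¹ * (r : MulAut P) x) ∈ T.subgroupOf P :=
      hΦ (QuotientGroup.eq.1 hte)
    have h4 := mul_mem ht h3
    rw [mul_inv_cancel_left, map_mul, map_inv, ← hyx] at h4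
    exact h4
  -- Frattini argument
  let K := Subgroup.normalClosure ((R₀ : Subgroup (F.autGroup P)) : Set (F.autGroup P))
  have hKM : K ≤ M := by
    refine (Subgroup.closure_le _).2 fun w hw => ?_
    obtain ⟨r, hr, hrw⟩ := Group.mem_conjugatesOfSet_iff.1 hw
    obtain ⟨β, hβ⟩ := isConj_iff.1 hrw
    exact hβ ▸ hkey β r hr
  have hR₀K : (R₀ : Subgroup (F.autGroup P)) ≤ K := Subgroup.le_normalClosure
  rw [eq_top_iff, ← Sylow.normalizer_sup_eq_top' R₀ hR₀K]
  exact sup_le hnorm hKM

end Cfsg.Agent.PFifth
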