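import Cfsg.Agent.PFifth.Defs
import Cfsg.Agent.PGroup.Frattini

/-!
# A self-centralising subgroup of order `p ^ 2` (S5264)

The upper central series `Z < W < D < A = C(W) < G` is forced, and a torus rules out a nonabelian
`A` unless `p ∈ {3, 7}`.
-/

set_option autoImplicit false

open scoped commutatorElement

namespace Cfsg.Agent.PFifth

namespace PearlAux

variable {p : ℕ}

/-- Commutators scale in both variables. -/
theorem comm_scale {Q : Type*} [Group Q] {a b u w : Q} (i j : ℕ)
    (hza : Commute ⁅a, b⁆ a) (hzb : Commute ⁅a, b⁆ b) (hub : Commute u b) (huw : Commute u w)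
    (hwa : Commute w a) : ⁅a ^ i * u, b ^ j * w⁆ = ⁅a, b⁆ ^ (i * j) := by
  have h1 : ∀ j : ℕ, a * b ^ j * a⁻¹ = ⁅a, b⁆ ^ j * b ^ j := by
    intro j
    rw [← hzb.mul_pow, ← conj_pow]
    simp [commutatorElement_def]
  have h2 : ∀ i j : ℕ, a ^ i * b ^ j * (a ^ i)⁻¹ = ⁅a, b⁆ ^ (i * j) * b ^ j := by
    intro i
    induction i with
    | zero => simp
    | succ i ih =>
      intro j
      have hc : a * ⁅a, b⁆ ^ (i * j) * a⁻¹ = ⁅a, b⁆ ^ (i * j) := by
        rw [← (hza.pow_left (i * j)).eq]; group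
      calc a ^ (i + 1) * b ^ j * (a ^ (i + 1))⁻¹
          = a * (a ^ i * b ^ j * (a ^ i)⁻¹) * a⁻¹ := by rw [pow_succ']; group
        _ = (a * ⁅a, b⁆ ^ (i * j) * a⁻¹) * (a * b ^ j * a⁻¹) := by rw [ih]; group
        _ = ⁅a, b⁆ ^ ((i + 1) * j) * b ^ j := by
          rw [hc, h1, ← mul_assoc, ← pow_add, add_mul, one_mul]
  have hB : Commute u (b ^ j * w) := (hub.pow_right j).mul_right huw
  calc ⁅a ^ i * u, b ^ j * w⁆
      = a ^ i * (u * (b ^ j * w)) * u⁻¹ * (a ^ i)⁻¹ * (w⁻¹ * (b ^ j)⁻¹) := by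
        simp only [commutatorElement_def, mul_inv_rev, mul_assoc]
    _ = a ^ i * b ^ j * (w * (a ^ i)⁻¹) * (w⁻¹ * (b ^ j)⁻¹) := by
        rw [hB.eq]; group
    _ = a ^ i * b ^ j * (a ^ i)⁻¹ * (b ^ j)⁻¹ := by
        rw [((hwa.pow_right i).inv_right).eq]; group
    _ = ⁅a, b⁆ ^ (i * j) := by rw [h2, mul_inv_cancel_right]

variable {G : Type*} [Group G] [Finite G] [Fact p.Prime]

/-- Coset representatives of a normal subgroup of relative index `p`. -/
theorem coset_pow {K H : Subgroup G} [K.Normal] (hKH : K ≤ H)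
    (hcard : Nat.card H = p * Nat.card K) {h : G} (hh : h ∈ H) (hn : h ∉ K) {u : G} (hu : u ∈ H) :
    ∃ i : ℕ, ∃ k ∈ K, u = h ^ i * k := by
  set L : Subgroup G := Subgroup.zpowers h ⊔ K with hL
  have hLH : L ≤ H := sup_le (Subgroup.zpowers_le.2 hh) hKH
  have hKL : K ≤ L := le_sup_right
  have hd : K.relIndex L ∣ p := by
    refine ⟨L.relIndex H, ?_⟩
    have h1 := K.relIndex_mul_relIndex L H hKL hLH
    have h2 : K.relIndex H = p := by
      have h3 := K.card_mul_index
      have h4 : Nat.card K * K.relIndex H = Nat.card H := by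
        rw [Subgroup.relIndex, ← Subgroup.card_mul_index (K.subgroupOf H),
          Nat.card_congr (Subgroup.subgroupOfEquivOfLe hKH).toEquiv]
      rw [hcard, mul_comm p] at h4
      exact Nat.eq_of_mul_eq_mul_left Nat.card_pos h4
    rw [← h2, h1]
  rcases (Nat.dvd_prime (Fact.out : p.Prime)).1 hd with h1 | h1
  · exact absurd (Subgroup.relIndex_eq_one.1 h1 (Subgroup.mem_sup_left (Subgroup.mem_zpowers h))) hn
  · have hLeq : L = H := by
      refine Subgroup.eq_of_le_of_card_ge hLH ?_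
      rw [hcard, ← Nat.card_congr (Subgroup.subgroupOfEquivOfLe hKL).toEquiv, ← h1,
        Subgroup.relIndex, mul_comm, Subgroup.card_mul_index]
    obtain ⟨z, hz, k, hk, rfl⟩ :=
      Subgroup.mem_sup_of_normal_right.1 (show u ∈ L from hLeq ▸ hu)
    obtain ⟨i, rfl⟩ := mem_powers_iff_mem_zpowers.2 hz
    exact ⟨i, k, hk, rfl⟩

/-- The order of a subgroup of a group of order `p ^ n`. -/
theorem exists_card {n : ℕ} (hG : Nat.card G = p ^ n) (H : Subgroup G) :
    ∃ i ≤ n, Nat.card H = p ^ i :=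
  (Nat.dvd_prime_pow (Fact.out : p.Prime)).1 (hG ▸ H.card_subgroup_dvd_card)

/-- A proper inclusion multiplies the order by at least `p`. -/
theorem mul_card_le {n : ℕ} (hG : Nat.card G = p ^ n) {H K : Subgroup G} (h : H < K) :
    p * Nat.card H ≤ Nat.card K := by
  have hp : p.Prime := Fact.out
  obtain ⟨i, -, hi⟩ := exists_card hG H
  obtain ⟨j, -, hj⟩ := exists_card hG K
  have hlt : i < j := by
    by_contra hle
    have := pow_le_pow_right₀ hp.one_le (not_lt.1 hle)
    rw [← hi, ← hj] at this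
    exact h.ne (Subgroup.eq_of_le_of_card_ge h.le this)
  rw [hi, hj, ← pow_succ']
  exact pow_le_pow_right₀ hp.one_le hlt

/-- A proper term of the upper central series is properly contained in the next one. -/
theorem ucs_lt {n : ℕ} (hG : IsPGroup p G) (hne : Subgroup.upperCentralSeries G n ≠ ⊤) :
    Subgroup.upperCentralSeries G n < Subgroup.upperCentralSeries G (n + 1) := by
  set N := Subgroup.upperCentralSeries G n with hN
  have hle : N ≤ Subgroup.upperCentralSeries G (n + 1) := by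
    intro z hz
    rw [Subgroup.mem_upperCentralSeries_succ_iff]
    intro y
    rw [commutatorElement_def, mul_assoc, mul_assoc, ← mul_assoc y]
    exact mul_mem hz (Subgroup.Normal.conj_mem inferInstance _ (inv_mem hz) y)
  have : Nontrivial (G ⧸ N) := by
    obtain ⟨g, hg⟩ := SetLike.exists_not_mem_of_ne_top N hne
    exact ⟨⟨(g : G ⧸ N), 1, fun e => hg ((QuotientGroup.eq_one_iff g).1 e)⟩⟩
  have := (hG.to_quotient N).center_nontrivial
  obtain ⟨⟨q, hq⟩, hq'⟩ := exists_ne (1 : Subgroup.center (G ⧸ N))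
  have hq1 : q ≠ 1 := fun e => hq' (Subtype.ext e)
  obtain ⟨z, rfl⟩ := QuotientGroup.mk'_surjective N q
  refine SetLike.lt_iff_le_and_exists.2 ⟨hle, z, ?_, fun h => hq1 ?_⟩
  · rw [Subgroup.mem_upperCentralSeries_succ_iff]
    intro y
    rw [← QuotientGroup.eq_one_iff, ← QuotientGroup.mk'_apply, map_commutatorElement,
      commutatorElement_eq_one_iff_mul_comm]
    exact (Subgroup.mem_center_iff.1 hq _).symm
  · exact (QuotientGroup.eq_one_iff z).2 h

/-- Nonzero residues modulo `3` square to `1`. -/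
theorem sq_three : ∀ r : ZMod 3, r ≠ 0 → r ^ 2 = 1 := by decide

end PearlAux

open PearlAux

variable {G : Type*} [Group G] [Finite G] {p : ℕ} [Fact p.Prime] {P O : Subgroup G} {x e1 e2 : G}
  {τ : MulAut G}

set_option maxHeartbeats 1000000 in
/-- The case of a self-centralising subgroup of order `p ^ 2`. -/
theorem pearl_case (hp : p ≠ 2) (hp7 : p ≠ 7) (hcard : Nat.card G = p ^ 5)
    (h : Signed p P O x e1 e2 τ) (hP : Nat.card P = p ^ 2) : Goal p G := by
  classical
  have hpp : p.Prime := Fact.out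
  have hG : IsPGroup p G := IsPGroup.of_card hcard
  have h1p : 1 < p := hpp.one_lt
  -- `P` is elementary abelian and `O` is trivial
  have hO : O = ⊥ := by
    refine Subgroup.eq_bot_of_card_eq O ?_
    have h0 := h.card_O
    rw [hP] at h0
    exact (Nat.eq_of_mul_eq_mul_right (pow_pos hpp.pos 2) ((one_mul _).trans h0)).symm
  have hphi : phi P = ⊥ := eq_bot_iff.2 (h.phi_le.trans (le_of_eq hO))
  have hfrP : frattini ↥P = ⊥ :=
    (Subgroup.map_eq_bot_iff_of_injective _ P.subtype_injective).1 hphi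
  have hpowP : ∀ w ∈ P, w ^ p = 1 := fun w hw => by
    have h0 := Agent.PGroup.pow_mem_frattini (hG.to_subgroup P) ⟨w, hw⟩
    rw [hfrP, Subgroup.mem_bot, Subtype.ext_iff] at h0
    simpa using h0
  have hne1 : e1 ≠ 1 := fun e => hpp.not_dvd_one
    (h.indep 1 0 (by rw [e]; simp)).1
  -- the centre
  have hxe : ⁅x, e2⁆ = e1 := by
    have h0 := h.com2
    rw [hphi, Subgroup.mem_bot] at h0
    exact (inv_mul_eq_one.1 h0).symm
  have hZP : Subgroup.center G ≤ P := (Subgroup.center_le_centralizer _).trans h.sc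
  have hZe : Subgroup.center G ≤ Subgroup.zpowers e1 := by
    intro c hc
    obtain ⟨i, j, o, ho, rfl⟩ := h.gen c (hZP hc)
    rw [hO, Subgroup.mem_bot] at ho
    rw [ho, mul_one] at hc ⊢
    have hx1 : Commute x e1 := by
      have h0 := h.com1
      rw [hphi, Subgroup.mem_bot] at h0
      exact commutatorElement_eq_one_iff_mul_comm.1 h0
    have hxj : x * e2 ^ j * x⁻¹ = e2 ^ j := by
      have h0 : x * (e1 ^ i * e2 ^ j) * x⁻¹ = e1 ^ i * e2 ^ j := by
        rw [Subgroup.mem_center_iff.1 hc x, mul_inv_cancel_right]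
      rw [show x * (e1 ^ i * e2 ^ j) * x⁻¹ = x * e1 ^ i * x⁻¹ * (x * e2 ^ j * x⁻¹) by group,
        (hx1.pow_right i).eq, mul_inv_cancel_right] at h0
      exact mul_left_cancel h0
    have he12 : Commute e1 e2 := by
      have h0 := Agent.PGroup.commutatorElement_mem_frattini (hG.to_subgroup P)
        (⟨e1, h.mem1⟩ : P) ⟨e2, h.mem2⟩
      rw [hfrP, Subgroup.mem_bot, commutatorElement_eq_one_iff_mul_comm] at h0
      exact congrArg Subtype.val h0
    rw [← conj_pow, show x * e2 * x⁻¹ = e1 * e2 by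
      rw [← hxe, commutatorElement_def]; group, he12.mul_pow, mul_eq_right] at hxj
    have hj := (h.indep j 0 (by rw [pow_zero, mul_one, hxj]; exact one_mem _)).1
    obtain ⟨t, rfl⟩ := hj
    rw [pow_mul e2, hpowP e2 h.mem2, one_pow, mul_one]
    exact Subgroup.pow_mem _ (Subgroup.mem_zpowers _) i
  have hcard1 : Nat.card (Subgroup.zpowers e1) = p := by
    rw [Nat.card_zpowers, orderOf_eq_prime (hpowP e1 h.mem1) hne1]
  have : Nontrivial G := ⟨⟨e1, 1, hne1⟩⟩
  have hZeq : Subgroup.center G = Subgroup.zpowers e1 := by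
    refine Subgroup.eq_of_le_of_card_ge hZe ?_
    rw [hcard1]
    obtain ⟨k, hk⟩ := exists_card hcard (Subgroup.center G)
    rcases k with _ | k
    · exact absurd (Subgroup.eq_bot_of_card_eq _ (by simpa using hk.2))
        ((Subgroup.nontrivial_iff_ne_bot _).1 hG.center_nontrivial)
    · rw [hk.2]; exact Nat.le_self_pow k.succ_ne_zero p
  have hcardZ : Nat.card (Subgroup.center G) = p := hZeq ▸ hcard1
  have he1c : ∀ g, Commute g e1 := fun g =>
    Subgroup.mem_center_iff.1 (hZeq ▸ Subgroup.mem_zpowers e1) g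
  have he2Z : e2 ∉ Subgroup.center G := fun hc => hne1 <| by
    rw [← hxe, commutatorElement_eq_one_iff_mul_comm]
    exact Subgroup.mem_center_iff.1 hc x
  set NP := Subgroup.normalizer (P : Set G) with hNP
  have hPN : P ≤ NP := Subgroup.le_normalizer
  have hNcard : Nat.card NP = p ^ 3 := by rw [h.card_norm, hP, ← pow_succ']
  have hNne : NP ≠ ⊤ := fun e => by
    rw [e, Subgroup.card_top, hcard] at hNcard
    exact absurd (Nat.pow_right_injective hpp.two_le hNcard) (by norm_num)
  -- elements commuting with `e2` modulo the centre normalise `P`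
  have hnormP : ∀ g : G, ⁅e2, g⁆ ∈ Subgroup.center G → g ∈ NP := by
    intro g hg
    rw [hNP]
    refine Subgroup.mem_normalizer_iff_map_conj_eq.2 (Subgroup.eq_of_le_of_card_ge ?_
      (Subgroup.card_map_of_injective (MulAut.conj g).injective).ge)
    rintro _ ⟨w, hw, rfl⟩
    show g * w * g⁻¹ ∈ P
    obtain ⟨i, j, o, ho, rfl⟩ := h.gen w hw
    rw [hO, Subgroup.mem_bot] at ho
    rw [ho, mul_one,
      show g * (e1 ^ i * e2 ^ j) * g⁻¹ = g * e1 ^ i * g⁻¹ * (g * e2 * g⁻¹) ^ j by
        rw [conj_pow]; group,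
      ((he1c g).pow_right i).eq, mul_inv_cancel_right,
      show g * e2 * g⁻¹ = ⁅e2, g⁆⁻¹ * e2 by rw [commutatorElement_def]; group]
    exact mul_mem (pow_mem h.mem1 i) (pow_mem (mul_mem (inv_mem (hZP hg)) h.mem2) j)
  -- the second centre
  set W := Subgroup.upperCentralSeries G 2 with hW
  have hmemW : ∀ {z : G}, z ∈ W ↔ ∀ y, ⁅z, y⁆ ∈ Subgroup.center G := fun {z} => by
    rw [hW, Subgroup.mem_upperCentralSeries_succ_iff, Subgroup.upperCentralSeries_one]
  have hZW : Subgroup.center G < W := by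
    have h0 := ucs_lt (n := 1) hG (by
      rw [Subgroup.upperCentralSeries_one]
      exact fun e => he2Z (e ▸ Subgroup.mem_top _))
    rwa [Subgroup.upperCentralSeries_one] at h0
  have he2W : e2 ∉ W := fun hc =>
    hNne (eq_top_iff.2 fun g _ => hnormP g (hmemW.1 hc g))
  have hWN : W ≤ NP := fun z hz => hnormP z (by
    have h0 := inv_mem (hmemW.1 hz e2)
    rwa [commutatorElement_inv] at h0)
  have hWP : W ⊓ P ≤ Subgroup.center G := by
    rintro w ⟨hw, hwP⟩
    obtain ⟨i, j, o, ho, rfl⟩ := h.gen w hwP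
    rw [hO, Subgroup.mem_bot] at ho
    rw [ho, mul_one] at hw ⊢
    have h2 : e2 ^ j ∈ W :=
      (Subgroup.mul_mem_cancel_left _ (hZW.le (hZeq ▸ pow_mem (Subgroup.mem_zpowers e1) i))).1 hw
    by_cases hj : p ∣ j
    · obtain ⟨t, rfl⟩ := hj
      rw [pow_mul e2, hpowP e2 h.mem2, one_pow, mul_one, hZeq]
      exact pow_mem (Subgroup.mem_zpowers _) i
    · exfalso
      refine he2W ?_
      obtain ⟨m, -, hm⟩ := Nat.exists_mul_mod_eq_one_of_coprime
        ((Nat.Prime.coprime_iff_not_dvd hpp).2 hj).symm h1p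
      have h3 := pow_mem h2 m
      rwa [← pow_mul, pow_eq_pow_mod _ (hpowP e2 h.mem2), hm, pow_one] at h3
  -- the centraliser of the second centre
  set A := Subgroup.centralizer (W : Set G) with hA
  have hAn : A.Normal := Subgroup.normal_centralizer
  have he2A : e2 ∉ A := by
    intro hc
    refine hZW.not_ge fun w hw => hWP ⟨hw, h.sc ?_⟩
    rw [Subgroup.mem_centralizer_iff]
    intro v hv
    obtain ⟨i, j, o, ho, rfl⟩ := h.gen v hv
    rw [hO, Subgroup.mem_bot] at ho
    rw [ho, mul_one]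
    exact (((he1c w).pow_right i).mul_right
      ((show Commute w e2 from Subgroup.mem_centralizer_iff.1 hc w hw).pow_right j)).eq.symm
  have hNlt : NP ⊓ A < NP := lt_of_le_of_ne inf_le_left fun e =>
    he2A ((le_inf_iff.1 e.ge).2 (hPN h.mem2))
  obtain ⟨y0, hy0, hy0Z⟩ := SetLike.exists_of_lt hZW
  have hWcard : Nat.card W = p ^ 2 := by
    have h2 := mul_card_le hcard hZW
    rw [hcardZ] at h2
    have h3 : W < NP := lt_of_le_of_ne hWN fun e => he2W (e ▸ hPN h.mem2)
    have h4 := mul_card_le hcard h3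
    rw [hNcard] at h4
    obtain ⟨i, -, hi⟩ := exists_card hcard W
    rw [hi] at h2 h4 ⊢
    rw [← pow_succ', Nat.pow_le_pow_iff_right h1p] at h4
    rw [← sq, Nat.pow_le_pow_iff_right h1p] at h2
    rw [show i = 2 by omega]
  have hWgen : ∀ w ∈ W, ∃ i : ℕ, ∃ c ∈ Subgroup.center G, w = y0 ^ i * c := fun w hw =>
    coset_pow hZW.le (by rw [hWcard, hcardZ, sq]) hy0 hy0Z hw
  have hWcomm : W ≤ A := by
    intro w hw
    refine Subgroup.mem_centralizer_iff.2 fun v hv => ?_
    obtain ⟨i, c, hc, rfl⟩ := hWgen w hw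
    obtain ⟨j, d, hd, rfl⟩ := hWgen v hv
    have hc' : ∀ g, Commute g c := fun g => Subgroup.mem_center_iff.1 hc g
    have hd' : ∀ g, Commute g d := fun g => Subgroup.mem_center_iff.1 hd g
    exact (Commute.mul_right ((Commute.mul_left ((Commute.refl y0).pow_pow j i)
      (hd' _).symm)) (hc' _)).eq
  have hNAW : NP ⊓ A = W := by
    refine (Subgroup.eq_of_le_of_card_ge (le_inf hWN hWcomm) ?_).symm
    have h2 := mul_card_le hcard hNlt
    rw [hNcard, show p ^ 3 = p * p ^ 2 from pow_succ' p 2] at h2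
    rw [hWcard]
    exact Nat.le_of_mul_le_mul_left h2 hpp.pos
  -- `A` has index `p`
  have hAcard : Nat.card A = p ^ 4 := by
    let f : G →* Subgroup.center G :=
      { toFun := fun g => ⟨⁅y0, g⁆, hmemW.1 hy0 g⟩
        map_one' := Subtype.ext (commutatorElement_one_right _)
        map_mul' := fun a b => Subtype.ext (by
          show ⁅y0, a * b⁆ = ⁅y0, a⁆ * ⁅y0, b⁆
          have hc := Subgroup.mem_center_iff.1 (hmemW.1 hy0 b) a
          calc ⁅y0, a * b⁆ = ⁅y0, a⁆ * (a * ⁅y0, b⁆ * a⁻¹) := by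
                simp only [commutatorElement_def]; group
            _ = ⁅y0, a⁆ * ⁅y0, b⁆ := by rw [hc, mul_inv_cancel_right]) }
    have hker : f.ker ≤ A := by
      intro g hg
      rw [MonoidHom.mem_ker, Subtype.ext_iff] at hg
      have hc : Commute y0 g := commutatorElement_eq_one_iff_mul_comm.1 hg
      refine Subgroup.mem_centralizer_iff.2 fun w hw => ?_
      obtain ⟨i, c, hc', rfl⟩ := hWgen w hw
      exact ((hc.pow_left i).mul_left
        (show Commute c g from (Subgroup.mem_center_iff.1 hc' g).symm)).eq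
    have h1 : f.ker.index ∣ p := by
      rw [Subgroup.index_ker, ← hcardZ]
      exact Subgroup.card_subgroup_dvd_card _
    have h2 : A.index ∣ p := (Subgroup.index_dvd_of_le hker).trans h1
    rcases (Nat.dvd_prime hpp).1 h2 with h3 | h3
    · exact absurd ((Subgroup.index_eq_one.1 h3) ▸ Subgroup.mem_top e2) he2A
    · have h4 := A.card_mul_index
      rw [h3, hcard, pow_succ] at h4
      exact Nat.eq_of_mul_eq_mul_right hpp.pos h4
  have hAindex : A.index = p := by
    have h4 := A.card_mul_index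
    rw [hAcard, hcard, pow_succ] at h4
    exact Nat.eq_of_mul_eq_mul_left (pow_pos hpp.pos 4) h4
  have hGA : ∀ u : G, ∃ i : ℕ, ∃ a ∈ A, u = e2 ^ i * a := fun u =>
    coset_pow (H := ⊤) le_top (by rw [Subgroup.card_top, hcard, hAcard, pow_succ' p 4])
      (Subgroup.mem_top e2) he2A (Subgroup.mem_top u)
  -- the third centre
  set q := QuotientGroup.mk' W with hq
  have hqker : ∀ {g : G}, q g = 1 ↔ g ∈ W := fun {g} => QuotientGroup.eq_one_iff g
  have hqA : ∀ a ∈ A, ∀ b ∈ A, Commute (q a) (q b) := by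
    intro a ha b hb
    have h2 : Nat.card (A.map q) = p ^ 2 := by
      have h3 := Subgroup.card_mul_index ((q.comp A.subtype).ker)
      rw [Subgroup.index_ker, MonoidHom.range_comp, Subgroup.range_subtype, ← MonoidHom.comap_ker,
        QuotientGroup.ker_mk'] at h3
      rw [show Nat.card (W.comap A.subtype) = p ^ 2 from
        (Nat.card_congr (Subgroup.subgroupOfEquivOfLe hWcomm).toEquiv).trans hWcard, hAcard,
        show p ^ 4 = p ^ 2 * p ^ 2 by ring] at h3
      exact Nat.eq_of_mul_eq_mul_left (pow_pos hpp.pos 2) h3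
    exact congrArg Subtype.val (IsPGroup.commutative_of_card_eq_prime_sq h2
      ⟨q a, a, ha, rfl⟩ ⟨q b, b, hb, rfl⟩)
  obtain ⟨g, hgA, hgW⟩ : ∃ g ∈ A, ⁅e2, g⁆ ∉ W := by
    by_contra hall
    push Not at hall
    let f : A →* (↥W ⧸ (Subgroup.center G).subgroupOf W) :=
      { toFun := fun a => QuotientGroup.mk (⟨⁅e2, (a : G)⁆, hall a a.2⟩ : W)
        map_one' := (QuotientGroup.eq_one_iff _).2 (by
          simp [Subgroup.mem_subgroupOf])
        map_mul' := fun a b => by
          rw [← QuotientGroup.mk_mul]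
          congr 1
          refine Subtype.ext ?_
          show ⁅e2, (a : G) * b⁆ = ⁅e2, (a : G)⁆ * ⁅e2, (b : G)⁆
          have hc : ⁅e2, (b : G)⁆ * (a : G) = (a : G) * ⁅e2, (b : G)⁆ :=
            Subgroup.mem_centralizer_iff.1 a.2 _ (hall b b.2)
          calc ⁅e2, (a : G) * b⁆ = ⁅e2, (a : G)⁆ * ((a : G) * ⁅e2, (b : G)⁆ * (a : G)⁻¹) := by
                simp only [commutatorElement_def]; group
            _ = ⁅e2, (a : G)⁆ * ⁅e2, (b : G)⁆ := by rw [← hc, mul_inv_cancel_right] }
    have hker : f.ker ≤ W.subgroupOf A := by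
      intro a ha
      rw [MonoidHom.mem_ker] at ha
      have h0 := (QuotientGroup.eq_one_iff _).1 ha
      rw [Subgroup.mem_subgroupOf] at h0 ⊢
      exact hNAW.le ⟨hnormP a h0, a.2⟩
    have h1 := f.ker.card_mul_index
    rw [Subgroup.index_ker, hAcard] at h1
    have h2 : Nat.card f.range ≤ p := by
      refine (Subgroup.card_le_card_group _).trans ?_
      have h3 := ((Subgroup.center G).subgroupOf W).card_mul_index
      rw [Subgroup.index_eq_card, Nat.card_congr (Subgroup.subgroupOfEquivOfLe hZW.le).toEquiv,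
        hcardZ, hWcard, sq] at h3
      exact (Nat.eq_of_mul_eq_mul_left hpp.pos h3).le
    have h4 : Nat.card f.ker ≤ p ^ 2 := (Subgroup.card_le_of_le hker).trans
      ((Nat.card_congr (Subgroup.subgroupOfEquivOfLe hWcomm).toEquiv).trans hWcard).le
    have := Nat.mul_le_mul h4 h2
    rw [h1, ← pow_succ, Nat.pow_le_pow_iff_right h1p] at this
    omega
  set D := Subgroup.upperCentralSeries G 3 with hD
  have hmemD : ∀ {z : G}, z ∈ D ↔ ∀ y, ⁅z, y⁆ ∈ W := fun {z} => by
    rw [hD, Subgroup.mem_upperCentralSeries_succ_iff, hW]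
  have hDcomm : ∀ {z : G}, z ∈ D → ∀ u, Commute (q z) (q u) := fun {z} hz u => by
    refine commutatorElement_eq_one_iff_mul_comm.1 ?_
    rw [← map_commutatorElement, hqker]
    exact hmemD.1 hz u
  have hWD : W < D := ucs_lt (n := 2) hG fun e => he2W (hW ▸ e ▸ Subgroup.mem_top _)
  have hgD : g ∉ D := fun hc => hgW (by
    rw [← hqker, map_commutatorElement, commutatorElement_eq_one_iff_mul_comm]
    exact (hDcomm hc e2).symm.eq)
  have hDA : D ≤ A := by
    intro d hd
    by_contra hdA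
    refine hgW ?_
    rw [← hqker, map_commutatorElement, commutatorElement_eq_one_iff_mul_comm]
    obtain ⟨i, a, ha, hde⟩ := coset_pow (K := A) (H := ⊤) le_top
      (by rw [Subgroup.card_top, hcard, hAcard, pow_succ' p 4]) (Subgroup.mem_top d) hdA
      (Subgroup.mem_top e2)
    rw [hde, map_mul, map_pow]
    exact ((((hDcomm hd g).pow_left i).mul_left (hqA a ha g hgA))).eq
  have hDlt : D < A := lt_of_le_of_ne hDA fun e => hgD (e ▸ hgA)
  have hDcard : Nat.card D = p ^ 3 := by
    have h2 := mul_card_le hcard hWD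
    have h4 := mul_card_le hcard hDlt
    rw [hWcard] at h2
    rw [hAcard] at h4
    obtain ⟨i, -, hi⟩ := exists_card hcard D
    rw [hi] at h2 h4 ⊢
    rw [← pow_succ', Nat.pow_le_pow_iff_right h1p] at h2
    rw [← pow_succ', Nat.pow_le_pow_iff_right h1p] at h4
    rw [show i = 3 by omega]
  have hDder : ∀ a b : G, ⁅a, b⁆ ∈ D := by
    intro a b
    rw [← QuotientGroup.eq_one_iff, ← QuotientGroup.mk'_apply, map_commutatorElement,
      commutatorElement_eq_one_iff_mul_comm]
    refine IsPGroup.commutative_of_card_eq_prime_sq (p := p) ?_ _ _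
    rw [← Subgroup.index_eq_card]
    have h4 := D.card_mul_index
    rw [hDcard, hcard, show p ^ 5 = p ^ 3 * p ^ 2 by ring] at h4
    exact Nat.eq_of_mul_eq_mul_left (pow_pos hpp.pos 3) h4
  set v := ⁅e2, g⁆ with hv
  have hvD : v ∈ D := hDder _ _
  set y := ⁅e2, v⁆ with hy
  have hyW : y ∈ W := by
    have h0 := inv_mem (hmemD.1 hvD e2)
    rwa [commutatorElement_inv] at h0
  have hyZ : y ∉ Subgroup.center G := fun hc =>
    hgW (hNAW.le ⟨hnormP v hc, hDA hvD⟩)
  set z := ⁅e2, y⁆ with hz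
  have hzZ : z ∈ Subgroup.center G := by
    have h0 := inv_mem (hmemW.1 hyW e2)
    rwa [commutatorElement_inv] at h0
  -- elements of `A` commuting with `e2`
  have hCe2 : ∀ u ∈ W, Commute e2 u → u ∈ Subgroup.center G := by
    intro u hu huc
    refine hWP ⟨hu, h.sc (Subgroup.mem_centralizer_iff.2 fun w hw => ?_)⟩
    obtain ⟨i, j, o, ho, rfl⟩ := h.gen w hw
    rw [hO, Subgroup.mem_bot] at ho
    rw [ho, mul_one]
    exact (((he1c u).symm.pow_left i).mul_left (huc.pow_left j)).eq
  have hz1 : z ≠ 1 := fun e =>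
    hyZ (hCe2 y hyW (commutatorElement_eq_one_iff_mul_comm.1 e))
  have hDgen : ∀ d ∈ D, ∃ i : ℕ, ∃ w ∈ W, d = v ^ i * w := fun d hd =>
    coset_pow hWD.le (by rw [hDcard, hWcard, pow_succ' p 2]) hvD hgW hd
  have hAgen : ∀ a ∈ A, ∃ i : ℕ, ∃ d ∈ D, a = g ^ i * d := fun a ha =>
    coset_pow hDlt.le (by rw [hAcard, hDcard, pow_succ' p 3]) hgA hgD ha
  have hAW : ∀ a ∈ A, ∀ w ∈ W, Commute a w := fun a ha w hw =>
    (Subgroup.mem_centralizer_iff.1 ha w hw).symm
  have hDab : ∀ a ∈ D, ∀ b ∈ D, Commute a b := by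
    intro a ha b hb
    obtain ⟨i, w, hw, rfl⟩ := hDgen a ha
    obtain ⟨j, w', hw', rfl⟩ := hDgen b hb
    exact ((((Commute.refl v).pow_pow i j).mul_right ((hAW v (hDA hvD) w' hw').pow_left i))).mul_left
      (((hAW v (hDA hvD) w hw).symm.pow_right j).mul_right (hAW w (hWcomm hw) w' hw'))
  -- `⁅v, g⁆` is central
  set c := ⁅v, g⁆ with hc
  have hcW : c ∈ W := hmemD.1 hvD g
  have hcZ : c ∈ Subgroup.center G := by
    refine hCe2 c hcW ?_
    have hvy : e2 * v * e2⁻¹ = y * v := by rw [hy, commutatorElement_def]; group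
    have hgv : e2 * g * e2⁻¹ = v * g := by rw [hv, commutatorElement_def]; group
    have h0 : e2 * c * e2⁻¹ = ⁅y * v, v * g⁆ := by
      rw [← hvy, ← hgv, hc, commutatorElement_def, commutatorElement_def]; group
    have hyv : Commute y (v * g) :=
      (hAW _ (mul_mem (hDA hvD) hgA) y hyW).symm
    have h1 : ⁅y * v, v * g⁆ = c := by
      calc ⁅y * v, v * g⁆ = y * ⁅v, v * g⁆ * y⁻¹ * ⁅y, v * g⁆ := by
            simp only [commutatorElement_def]; group
        _ = y * ⁅v, v * g⁆ * y⁻¹ := by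
            rw [commutatorElement_eq_one_iff_mul_comm.2 hyv.eq, mul_one]
        _ = y * (v * c * v⁻¹) * y⁻¹ := by rw [hc]; simp only [commutatorElement_def]; group
        _ = c := by
            rw [(hAW v (hDA hvD) c hcW).eq, mul_inv_cancel_right,
              (hAW y (hWcomm hyW) c hcW).eq, mul_inv_cancel_right]
    rw [h1] at h0
    exact mul_inv_eq_iff_eq_mul.1 h0
  by_cases hc1 : c = 1
  · refine Or.inl ⟨A, ⟨⟨fun a b => Subtype.ext ?_⟩⟩, hAindex⟩
    have hvg : Commute v g := commutatorElement_eq_one_iff_mul_comm.1 hc1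
    have hDg : ∀ d ∈ D, Commute d g := fun d hd => by
      obtain ⟨i, w, hw, rfl⟩ := hDgen d hd
      exact (hvg.pow_left i).mul_left (hAW g hgA w hw).symm
    obtain ⟨i, d, hd, ha⟩ := hAgen a a.2
    obtain ⟨j, d', hd', hb⟩ := hAgen b b.2
    show (a : G) * b = b * a
    rw [ha, hb]
    exact (((((Commute.refl g).pow_pow i j).mul_right ((hDg d' hd').symm.pow_left i))).mul_left
      (((hDg d hd).pow_right j).mul_right (hDab d hd d' hd'))).eq
  -- automorphisms act by scalars
  have hinv : ∀ (H : Subgroup G), H.Characteristic → ∀ (ψ : MulAut G), ∀ u, ψ u ∈ H ↔ u ∈ H := by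
    intro H hH ψ u
    conv_rhs => rw [← hH.fixed ψ]
    rfl
  have hscal : ∀ (ψ : MulAut G) (a : ℕ) (u : G), u ∈ A → ψ e2 = e2 ^ a * u →
      ∃ b : ℕ, (g ^ b)⁻¹ * ψ g ∈ D ∧ ψ z = z ^ (a * (a * (a * b))) ∧ ψ c = c ^ (a * b * b) := by
    intro ψ a u hu he
    have hψg : ψ g ∈ A := (hinv A (by infer_instance) ψ g).2 hgA
    obtain ⟨b, d, hd, hbd⟩ := hAgen _ hψg
    have hqv : q (ψ v) = q v ^ (a * b) := by
      rw [hv, map_commutatorElement ψ, he, hbd, map_commutatorElement, map_commutatorElement,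
        map_mul, map_pow, map_mul, map_pow]
      refine comm_scale a b ?_ ?_ (hqA u hu g hgA) (hDcomm hd u).symm (hDcomm hd e2)
      · rw [← map_commutatorElement]; exact hDcomm hvD e2
      · rw [← map_commutatorElement]; exact hDcomm hvD g
    obtain ⟨w1, hw1, hψv⟩ : ∃ w ∈ W, ψ v = v ^ (a * b) * w := by
      refine ⟨(v ^ (a * b))⁻¹ * ψ v, ?_, by group⟩
      rw [← hqker, map_mul, map_inv, map_pow, hqv, inv_mul_cancel]
    -- modulo the centre
    set r := QuotientGroup.mk' (Subgroup.center G) with hr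
    have hrW : ∀ w ∈ W, ∀ s : G, Commute (r w) (r s) := fun w hw s => by
      refine commutatorElement_eq_one_iff_mul_comm.1 ?_
      rw [← map_commutatorElement, QuotientGroup.mk'_apply, QuotientGroup.eq_one_iff]
      exact hmemW.1 hw s
    have hrA : ∀ s ∈ A, Commute (r s) (r v) := by
      intro s hs
      obtain ⟨i, d', hd', rfl⟩ := hAgen s hs
      rw [map_mul, map_pow]
      refine (Commute.pow_left ?_ i).mul_left ((hDab d' hd' v hvD).map r)
      refine (commutatorElement_eq_one_iff_mul_comm.1 ?_ : Commute (r v) (r g)).symm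
      rw [← map_commutatorElement, QuotientGroup.mk'_apply, QuotientGroup.eq_one_iff]
      exact hcZ
    have hry : r (ψ y) = r y ^ (a * (a * b)) := by
      rw [hy, map_commutatorElement ψ, he, hψv, map_commutatorElement, map_commutatorElement,
        map_mul, map_pow, map_mul, map_pow]
      refine comm_scale a (a * b) ?_ ?_ (hrA u hu) (hrW w1 hw1 u).symm (hrW w1 hw1 e2)
      · rw [← map_commutatorElement]; exact hrW y hyW e2
      · rw [← map_commutatorElement]; exact hrW y hyW v
    obtain ⟨c1, hc1', hψy⟩ : ∃ w ∈ Subgroup.center G, ψ y = y ^ (a * (a * b)) * w := by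
      refine ⟨(y ^ (a * (a * b)))⁻¹ * ψ y, ?_, by group⟩
      rw [← QuotientGroup.eq_one_iff, ← QuotientGroup.mk'_apply, map_mul, map_inv, map_pow, hry,
        inv_mul_cancel]
    have hcen : ∀ {w : G}, w ∈ Subgroup.center G → ∀ s, Commute w s := fun {w} hw s =>
      (Subgroup.mem_center_iff.1 hw s).symm
    refine ⟨b, by rw [hbd, inv_mul_cancel_left]; exact hd, ?_, ?_⟩
    · rw [hz, map_commutatorElement ψ, he, hψy]
      exact comm_scale a _ (hcen hzZ _) (hcen hzZ _) (hAW u hu y hyW) (hcen hc1' u).symm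
        (hcen hc1' e2)
    · rw [hc, map_commutatorElement ψ, hψv, hbd]
      exact comm_scale _ b (hcen hcZ _) (hcen hcZ _) (hAW g hgA w1 hw1).symm
        (hAW d (hDA hd) w1 hw1).symm (hDab d hd v hvD)
  -- `c` is a power of `z`
  have hord : ∀ {w : G}, w ∈ Subgroup.center G → w ≠ 1 → orderOf w = p := fun {w} hw hw1 => by
    refine orderOf_eq_prime ?_ hw1
    rw [← hcardZ]
    exact congrArg Subtype.val (pow_card_eq_one' (x := (⟨w, hw⟩ : Subgroup.center G)))
  have hcz : ∃ t : ℕ, c = z ^ t := by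
    have h0 : Subgroup.zpowers z = Subgroup.center G := by
      refine Subgroup.eq_of_le_of_card_ge (Subgroup.zpowers_le.2 hzZ) ?_
      rw [hcardZ, Nat.card_zpowers, hord hzZ hz1]
    obtain ⟨t, ht⟩ := mem_powers_iff_mem_zpowers.2 (h0.symm ▸ hcZ : c ∈ Subgroup.zpowers z)
    exact ⟨t, ht.symm⟩
  have hrel : ∀ (ψ : MulAut G) (a : ℕ) (u : G), u ∈ A → ψ e2 = e2 ^ a * u → (a : ZMod p) ≠ 0 →
      ∃ b : ℕ, (g ^ b)⁻¹ * ψ g ∈ D ∧ ψ z = z ^ (a * (a * (a * b))) ∧
        (b : ZMod p) = (a : ZMod p) ^ 2 := by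
    intro ψ a u hu he ha0
    obtain ⟨b, hb, hψz, hψc⟩ := hscal ψ a u hu he
    have hb0 : (b : ZMod p) ≠ 0 := by
      intro hb0
      obtain ⟨s, hs⟩ := (ZMod.natCast_eq_zero_iff b p).1 hb0
      refine hgD ((hinv D (by infer_instance) ψ g).1 ?_)
      have h4 : (D.subgroupOf A).index = p := by
        have h5 := Subgroup.card_mul_index (D.subgroupOf A)
        rw [Nat.card_congr (Subgroup.subgroupOfEquivOfLe hDA).toEquiv, hDcard, hAcard,
          pow_succ p 3] at h5
        exact Nat.eq_of_mul_eq_mul_left (pow_pos hpp.pos 3) h5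
      have h6 := Subgroup.pow_index_mem (D.subgroupOf A) ⟨g, hgA⟩
      rw [h4, Subgroup.mem_subgroupOf] at h6
      have h7 : g ^ b ∈ D := by
        rw [hs, pow_mul]
        exact pow_mem (by simpa using h6) s
      simpa using mul_mem h7 hb
    refine ⟨b, hb, hψz, ?_⟩
    obtain ⟨t, ht⟩ := hcz
    have h0 : z ^ (t * (a * b * b)) = z ^ (a * (a * (a * b)) * t) := by
      rw [pow_mul z t, ← ht, ← hψc, pow_mul z _ t, ← hψz, ← map_pow, ← ht]
    rw [pow_eq_pow_iff_modEq, hord hzZ hz1, ← ZMod.natCast_eq_natCast_iff] at h0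
    push_cast at h0
    have ht0 : (t : ZMod p) ≠ 0 := by
      intro ht0
      obtain ⟨s, rfl⟩ := (ZMod.natCast_eq_zero_iff t p).1 ht0
      refine hc1 ?_
      rw [ht, pow_mul]
      rw [show z ^ p = 1 from hord hzZ hz1 ▸ pow_orderOf_eq_one z, one_pow]
    have : ((t : ZMod p) * a * b) * ((b : ZMod p) - (a : ZMod p) ^ 2) = 0 := by
      linear_combination h0
    rcases mul_eq_zero.1 this with h1 | h1
    · exact absurd h1 (mul_ne_zero (mul_ne_zero ht0 ha0) hb0)
    · exact sub_eq_zero.1 h1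
  have hfix : ∀ ψ : MulAut G, ∃ a : ℕ, ∃ u ∈ A, ψ e2 = e2 ^ a * u ∧ (a : ZMod p) ≠ 0 := by
    intro ψ
    obtain ⟨a, u, hu, he⟩ := hGA (ψ e2)
    refine ⟨a, u, hu, he, fun ha => he2A ?_⟩
    obtain ⟨s, rfl⟩ := (ZMod.natCast_eq_zero_iff a p).1 ha
    rw [pow_mul e2, hpowP e2 h.mem2, one_pow, one_mul] at he
    exact (hinv A (by infer_instance) ψ e2).1 (he ▸ hu)
  have hp35 : p = 3 ∨ 5 ≤ p := by
    rcases eq_or_ne p 3 with h3 | h3
    · exact Or.inl h3
    · refine Or.inr (by
        by_contra hlt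
        have : p = 4 := by have := hpp.two_le; omega
        exact absurd (this ▸ hpp) (by norm_num))
  rcases hp35 with h3 | h5
  · subst h3
    refine Or.inr ⟨rfl, g, ?_, fun ψ => ?_⟩
    · intro hgf
      refine hgD ?_
      have hpowD : ∀ s : G, s ^ 3 ∈ D := by
        intro s
        obtain ⟨i, a, ha, rfl⟩ := hGA s
        obtain ⟨j, d, hd, rfl⟩ := hAgen a ha
        rw [← QuotientGroup.eq_one_iff, ← QuotientGroup.mk'_apply, map_pow, map_mul, map_mul,
          (QuotientGroup.eq_one_iff d).2 hd |> (fun e => show QuotientGroup.mk' D d = 1 from e),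
          mul_one, Commute.mul_pow, ← map_pow, ← map_pow, ← pow_mul, ← pow_mul]
        · rw [mul_comm i, mul_comm j, pow_mul, pow_mul, hpowP e2 h.mem2, one_pow, map_one, one_mul,
            QuotientGroup.mk'_apply, QuotientGroup.eq_one_iff]
          refine pow_mem ?_ j
          have h4 : D.relIndex A = 3 := by
            have h5 := Subgroup.card_mul_index (D.subgroupOf A)
            rw [Nat.card_congr (Subgroup.subgroupOfEquivOfLe hDA).toEquiv, hDcard, hAcard,
              show 3 ^ 4 = 3 ^ 3 * 3 by norm_num] at h5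
            exact Nat.eq_of_mul_eq_mul_left (by norm_num) h5
          have h6 := Subgroup.pow_index_mem (D.subgroupOf A) ⟨g, hgA⟩
          rw [← Subgroup.relIndex, h4, Subgroup.mem_subgroupOf] at h6
          simpa using h6
        · refine commutatorElement_eq_one_iff_mul_comm.1 ?_
          rw [← map_commutatorElement, QuotientGroup.mk'_apply,
            QuotientGroup.eq_one_iff]
          exact hDder _ _
      obtain ⟨M, hM, hDM, hgM⟩ := Agent.PGroup.exists_isCoatom_not_mem hpp (N := D)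
        ((Subgroup.commutator_le.2 fun a _ b _ => hDder a b)) hpowD hgD
      exact absurd (frattini_le_coatom hM hgf) hgM
    · obtain ⟨a, u, hu, he, ha0⟩ := hfix ψ
      obtain ⟨b, hb, -, hba⟩ := hrel ψ a u hu he ha0
      have ha1 : (a : ZMod 3) ^ 2 = 1 := by
        exact sq_three _ ha0
      rw [ha1] at hba
      -- `D` is contained in the Frattini subgroup
      have hDphi : D ≤ frattini G := by
        have hyf : y ∈ frattini G := Agent.PGroup.commutatorElement_mem_frattini hG _ _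
        have hzf : z ∈ frattini G := Agent.PGroup.commutatorElement_mem_frattini hG _ _
        have hvf : v ∈ frattini G := Agent.PGroup.commutatorElement_mem_frattini hG _ _
        intro d hd
        obtain ⟨i, w, hw, rfl⟩ := hDgen d hd
        obtain ⟨j, w', hw', rfl⟩ := coset_pow hZW.le (by rw [hWcard, hcardZ, sq]) hyW hyZ hw
        refine mul_mem (pow_mem hvf i) (mul_mem (pow_mem hyf j) ?_)
        have h0 : Subgroup.center G ≤ frattini G := by
          refine (le_of_eq ?_).trans (Subgroup.zpowers_le.2 hzf)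
          refine (Subgroup.eq_of_le_of_card_ge (Subgroup.zpowers_le.2 hzZ) ?_).symm
          rw [hcardZ, Nat.card_zpowers, hord hzZ hz1]
        exact h0 hw'
      refine hDphi ?_
      have hg3 : g⁻¹ * g ^ b ∈ D := by
        rw [show (1 : ZMod 3) = ((1 : ℕ) : ZMod 3) by simp, ZMod.natCast_eq_natCast_iff] at hba
        have hb1 : b % 3 = 1 := hba
        rw [show b = 1 + 3 * (b / 3) by omega, pow_add, pow_one, inv_mul_cancel_left, pow_mul]
        refine pow_mem ?_ _
        have h5 := Subgroup.card_mul_index (D.subgroupOf A)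
        rw [Nat.card_congr (Subgroup.subgroupOfEquivOfLe hDA).toEquiv, hDcard, hAcard,
          show 3 ^ 4 = 3 ^ 3 * 3 by norm_num] at h5
        have h4 : (D.subgroupOf A).index = 3 := Nat.eq_of_mul_eq_mul_left (by norm_num) h5
        have h6 := Subgroup.pow_index_mem (D.subgroupOf A) ⟨g, hgA⟩
        rw [h4, Subgroup.mem_subgroupOf] at h6
        simpa using h6
      have := mul_mem hg3 hb
      rwa [mul_assoc, mul_inv_cancel_left] at this
  · exfalso
    obtain ⟨k, hk⟩ := hpp.odd_of_ne_two hp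
    obtain ⟨ψ, hψ⟩ := h.tor (k + 1) 2 (by
      rw [show (k + 1) * 2 = 1 + p * 1 by omega, Nat.cast_add, Nat.cast_mul, ZMod.natCast_self]
      simp)
    have he2 : ψ e2 = e2 ^ 2 * 1 := by
      have h0 := hψ.map2
      rw [hphi, Subgroup.mem_bot] at h0
      rw [mul_one, ← inv_mul_eq_one.1 h0]
    have he1 : ψ e1 = e1 ^ (k + 1) := by
      have h0 := hψ.map1
      rw [hphi, Subgroup.mem_bot] at h0
      exact (inv_mul_eq_one.1 h0).symm
    have h20 : ((2 : ℕ) : ZMod p) ≠ 0 := by
      rw [Ne, ZMod.natCast_eq_zero_iff]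
      exact fun hd => absurd (Nat.le_of_dvd two_pos hd) (by omega)
    obtain ⟨b, -, hψz, hba⟩ := hrel ψ 2 1 (one_mem _) he2 h20
    obtain ⟨t, ht⟩ := mem_powers_iff_mem_zpowers.2 (hZeq ▸ hzZ : z ∈ Subgroup.zpowers e1)
    have hzl : ψ z = z ^ (k + 1) := by rw [← ht, map_pow, he1, ← pow_mul, ← pow_mul, mul_comm]
    rw [hzl, pow_eq_pow_iff_modEq, hord hzZ hz1, ← ZMod.natCast_eq_natCast_iff] at hψz
    push_cast at hψz hba
    rw [hba] at hψz
    have hk2 : (2 : ZMod p) * ((k : ZMod p) + 1) = 1 := by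
      have h0 : ((2 * k + 1 : ℕ) : ZMod p) = 0 := by rw [← hk]; exact ZMod.natCast_self p
      push_cast at h0
      linear_combination h0
    have h63 : ((63 : ℕ) : ZMod p) = 0 := by
      push_cast
      rw [hψz] at hk2
      linear_combination hk2
    rw [ZMod.natCast_eq_zero_iff, show (63 : ℕ) = 3 * (3 * 7) by norm_num] at h63
    rcases hpp.dvd_mul.1 h63 with h' | h'
    · exact absurd (Nat.le_of_dvd (by norm_num) h') (by omega)
    · rcases hpp.dvd_mul.1 h' with h'' | h''
      · exact absurd (Nat.le_of_dvd (by norm_num) h'') (by omega)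
      · exact hp7 ((Nat.prime_dvd_prime_iff_eq hpp (by norm_num)).1 h'')

end Cfsg.Agent.PFifth
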