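import Cfsg.Agent.PFifth.Defs
import Cfsg.Agent.PFifth.Fix
import Cfsg.Agent.PGroup.Frattini

/-!
Groups of order `p ^ 5` with a signed frame on a nonabelian subgroup of order `p ^ 4` (S5264).
-/

set_option autoImplicit false

open scoped commutatorElement

namespace Cfsg.Agent.PFifth

open Subgroup

section aux

variable {G : Type*} [Group G]

/-- Powers of two elements with central commutator. -/
theorem quartic_pow_comm {a b c : G} (hc : ∀ g, c * g = g * c) (hab : ⁅a, b⁆ = c) (i j : ℕ) :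
    ⁅a ^ i, b ^ j⁆ = c ^ (i * j) := by
  have h1 : a * b * a⁻¹ = c * b := by rw [← hab, commutatorElement_def]; group
  have h2 : a * b ^ j * a⁻¹ = c ^ j * b ^ j := by
    rw [← conj_pow, h1, Commute.mul_pow (hc b)]
  have h3 : ∀ i, a ^ i * b ^ j * (a ^ i)⁻¹ = c ^ (i * j) * b ^ j := by
    intro i
    induction i with
    | zero => simp
    | succ i ih =>
      have hcj : Commute (c ^ (i * j)) a := Commute.pow_left (hc a) _
      calc a ^ (i + 1) * b ^ j * (a ^ (i + 1))⁻¹
          = a * (a ^ i * b ^ j * (a ^ i)⁻¹) * a⁻¹ := by rw [pow_succ']; group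
        _ = a * c ^ (i * j) * (b ^ j * a⁻¹) := by rw [ih]; group
        _ = c ^ (i * j) * (a * b ^ j * a⁻¹) := by rw [← hcj.eq]; group
        _ = c ^ ((i + 1) * j) * b ^ j := by
          rw [h2, ← mul_assoc, ← pow_add, Nat.succ_mul]
  rw [commutatorElement_def, h3, mul_inv_cancel_right]

/-- Central factors do not change a commutator. -/
theorem quartic_comm_central {a b u v : G} (hu : ∀ g, u * g = g * u) (hv : ∀ g, v * g = g * v) :
    ⁅a * u, b * v⁆ = ⁅a, b⁆ := by
  simp only [commutatorElement_def, mul_inv_rev]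
  calc a * u * (b * v) * (u⁻¹ * a⁻¹) * (v⁻¹ * b⁻¹)
      = a * (u * (b * v)) * u⁻¹ * a⁻¹ * (v⁻¹ * b⁻¹) := by group
    _ = a * (b * v) * a⁻¹ * (v⁻¹ * b⁻¹) := by rw [hu]; group
    _ = a * b * (v * a⁻¹) * v⁻¹ * b⁻¹ := by group
    _ = a * b * a⁻¹ * b⁻¹ := by rw [hv]; group

end aux

variable {G : Type*} [Group G] [Finite G] {p : ℕ} [Fact p.Prime] {P O : Subgroup G} {x e1 e2 : G}
  {τ : MulAut G}

/-- The case `|P| = p ^ 4`, `P` nonabelian. -/
theorem quartic_case (hp : p ≠ 2) (hcard : Nat.card G = p ^ 5) (h : Signed p P O x e1 e2 τ)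
    (hP : Nat.card P = p ^ 4) (hna : ¬ IsMulCommutative P) : Goal p G := by
  classical
  have hpr : p.Prime := Fact.out
  have hG : IsPGroup p G := IsPGroup.of_card hcard
  have hPp : IsPGroup p P := hG.to_subgroup P
  -- basic facts
  have hNtop : normalizer (P : Set G) = ⊤ := eq_top_of_card_eq _ (by
    rw [h.card_norm, hP, hcard]; ring)
  have hPn : P.Normal := normalizer_eq_top_iff.1 hNtop
  have hmul1 : ∀ {a b : G}, a ∈ P → b ∈ P → ⁅a, b⁆ ∈ phi P := by
    intro a b ha hb
    exact ⟨⁅(⟨a, ha⟩ : P), ⟨b, hb⟩⁆, PGroup.commutatorElement_mem_frattini hPp _ _, rfl⟩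
  have hpow1 : ∀ {a : G}, a ∈ P → a ^ p ∈ phi P := fun {a} ha =>
    ⟨(⟨a, ha⟩ : P) ^ p, PGroup.pow_mem_frattini hPp _, rfl⟩
  have hphiP : phi P ≤ P := h.phi_le.trans h.O_le
  set c := ⁅e1, e2⁆ with hc_def
  have hcphi : c ∈ phi P := hmul1 h.mem1 h.mem2
  have hcP : ∀ w ∈ P, c * w = w * c := fun w hw => h.O_central c (h.phi_le hcphi) w hw
  have hc1 : c ≠ 1 := by
    intro e
    refine hna ⟨⟨fun a b => Subtype.ext ?_⟩⟩
    obtain ⟨i, j, o, ho, ha⟩ := h.gen a a.2
    obtain ⟨i', j', o', ho', hb⟩ := h.gen b b.2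
    have he : Commute e1 e2 := commutatorElement_eq_one_iff_commute.1 e
    have hoP : ∀ w ∈ P, Commute o w := fun w hw => h.O_central o ho w hw
    have hoP' : ∀ w ∈ P, Commute o' w := fun w hw => h.O_central o' ho' w hw
    have h12 : Commute (e1 ^ i * e2 ^ j) (e1 ^ i' * e2 ^ j') :=
      ((Commute.pow_pow_self e1 i i').mul_right (he.pow_pow i j')).mul_left
        ((he.symm.pow_pow j i').mul_right (Commute.pow_pow_self e2 j j'))
    show (a : G) * b = b * a
    rw [ha, hb]
    exact ((h12.mul_right ((hoP' _ (mul_mem (pow_mem h.mem1 _) (pow_mem h.mem2 _))).symm)).mul_left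
      ((hoP _ (mul_mem (mul_mem (pow_mem h.mem1 _) (pow_mem h.mem2 _)) (h.O_le ho'))))).eq
  -- `x` on the generators
  have hu : e1⁻¹ * ⁅x, e2⁆ ∈ phi P := h.com2
  set u := e1⁻¹ * ⁅x, e2⁆ with hu_def
  have hxe2 : x * e2 * x⁻¹ = e1 * u * e2 := by rw [hu_def, commutatorElement_def]; group
  have hxe1 : x * e1 * x⁻¹ = ⁅x, e1⁆ * e1 := by rw [commutatorElement_def]; group
  have hxc : x * c = c * x := by
    have key : x * c * x⁻¹ = c := by
      rw [hc_def, commutatorElement_def]
      calc x * (e1 * e2 * e1⁻¹ * e2⁻¹) * x⁻¹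
          = (x * e1 * x⁻¹) * (x * e2 * x⁻¹) * (x * e1 * x⁻¹)⁻¹ * (x * e2 * x⁻¹)⁻¹ := by group
        _ = e1 * e2 * e1⁻¹ * e2⁻¹ := by
          rw [hxe1, hxe2]
          have hu' : ∀ w ∈ P, u * w = w * u := fun w hw => h.O_central u (h.phi_le hu) w hw
          have hv' : ∀ w ∈ P, ⁅x, e1⁆ * w = w * ⁅x, e1⁆ :=
            fun w hw => h.O_central _ (h.phi_le h.com1) w hw
          set v := ⁅x, e1⁆
          have hvP : v ∈ P := hphiP h.com1
          have huP : u ∈ P := hphiP hu
          calc v * e1 * (e1 * u * e2) * (v * e1)⁻¹ * (e1 * u * e2)⁻¹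
              = (v * (e1 * e1 * u * e2)) * e1⁻¹ * v⁻¹ * (e2⁻¹ * u⁻¹ * e1⁻¹) := by group
            _ = (e1 * e1 * u * e2) * (v * e1⁻¹) * v⁻¹ * (e2⁻¹ * u⁻¹ * e1⁻¹) := by
              rw [hv' _ (mul_mem (mul_mem (mul_mem h.mem1 h.mem1) huP) h.mem2)]; group
            _ = e1 * e1 * (u * (e2 * e1⁻¹ * e2⁻¹)) * u⁻¹ * e1⁻¹ := by
              rw [hv' _ (inv_mem h.mem1)]; group
            _ = e1 * c * e1⁻¹ := by
              rw [hu' _ (mul_mem (mul_mem h.mem2 (inv_mem h.mem1)) (inv_mem h.mem2)), hc_def,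
                commutatorElement_def]
              group
            _ = c := by rw [← hcP e1 h.mem1, mul_inv_cancel_right]
    exact mul_inv_eq_iff_eq_mul.1 key
  have hgenG : ∀ M : Subgroup G, P ≤ M → x ∈ M → M = ⊤ := by
    intro M hPM hxM
    refine eq_top_of_card_eq _ ?_
    obtain ⟨k, hk5, hk⟩ := (Nat.dvd_prime_pow hpr).1 (hcard ▸ M.card_subgroup_dvd_card)
    have hlt : Nat.card P < Nat.card M := by
      refine lt_of_le_of_ne (card_le_of_le hPM) fun e => h.x_nmem ?_
      rw [eq_of_le_of_card_ge hPM e.ge]; exact hxM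
    rw [hP, hk, Nat.pow_lt_pow_iff_right hpr.one_lt] at hlt
    rw [hk, hcard, show k = 5 by omega]
  have hccen : ∀ g, c * g = g * c := fun g => by
    have : centralizer ({c} : Set G) = ⊤ := hgenG _
      (fun w hw => mem_centralizer_singleton_iff.2 (hcP w hw).symm)
      (mem_centralizer_singleton_iff.2 hxc)
    exact (mem_centralizer_singleton_iff.1 (this ▸ mem_top g)).symm
  have hphic : ∀ {o : G}, o ∈ phi P → ∀ g, o * g = g * o := fun {o} ho g => by
    obtain ⟨k, rfl⟩ := h.phi_gen o ho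
    exact Commute.pow_left (hccen g) k
  have hcp : c ^ p = 1 := by
    have h1 := quartic_pow_comm hccen hc_def.symm p 1
    rw [pow_one, mul_one, commutatorElement_eq_one_iff_mul_comm.2 (hphic (hpow1 h.mem1) e2)] at h1
    exact h1.symm
  have hco : orderOf c = p := orderOf_eq_prime hcp hc1
  have hphip : ∀ {o : G}, o ∈ phi P → o ^ p = 1 := fun {o} ho => by
    obtain ⟨k, rfl⟩ := h.phi_gen o ho
    rw [← pow_mul, mul_comm, pow_mul, hcp, one_pow]
  -- `x` centralises `e1`
  have hxe : x * e1 = e1 * x := by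
    rw [← commutatorElement_eq_one_iff_mul_comm]
    set v := ⁅x, e1⁆ with hv
    have h1 : τ v = v := h.sO v (h.phi_le h.com1)
    have h2 : τ v = v⁻¹ := by
      rw [hv, map_commutatorElement, h.sx, h.s1]
      calc ⁅x, e1⁻¹⁆ = e1⁻¹ * (v⁻¹ * e1) := by rw [hv, commutatorElement_def, commutatorElement_def]; group
        _ = v⁻¹ := by
          rw [hphic (inv_mem h.com1) e1, inv_mul_cancel_left]
    have h3 : v ^ 2 = 1 := by rw [pow_two, mul_eq_one_iff_eq_inv]; exact h1.symm.trans h2
    rw [← orderOf_eq_one_iff]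
    exact Nat.eq_one_of_dvd_coprimes
      ((Nat.coprime_primes hpr Nat.prime_two).2 hp).symm
      (orderOf_dvd_of_pow_eq_one h3) (orderOf_dvd_of_pow_eq_one (hphip h.com1))
  have he1O : e1 ∉ O := fun e => by
    have := (h.indep 1 0 (by simpa using e)).1
    exact hpr.not_dvd_one this
  have hOP : ∀ a ∈ O, ∀ b ∈ P, a * b = b * a := h.O_central
  have hO2 : Nat.card O = p ^ 2 := by
    have h1 := h.card_O
    rw [hP] at h1
    exact Nat.eq_of_mul_eq_mul_right (pow_pos hpr.pos 2) (by rw [← h1]; ring)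
  by_cases hxO : ∀ o ∈ O, x * o = o * x
  · -- an abelian maximal subgroup
    set A := closure ((O : Set G) ∪ {e1, x}) with hA
    have hAc : IsMulCommutative A := by
      refine isMulCommutative_closure ?_
      rintro a ha b hb
      rcases ha with ha | rfl | rfl <;> rcases hb with hb | rfl | rfl
      · exact hOP a ha b (h.O_le hb)
      · exact hOP a ha _ h.mem1
      · exact (hxO a ha).symm
      · exact (hOP b hb _ h.mem1).symm
      · rfl
      · exact hxe.symm
      · exact hxO b hb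
      · exact hxe
      · rfl
    refine Or.inl ⟨A, hAc, ?_⟩
    set B := closure ((O : Set G) ∪ {e1}) with hB
    have hBP : B ≤ P := (closure_le _).2 (Set.union_subset h.O_le
      (Set.singleton_subset_iff.2 h.mem1))
    have hBA : B ≤ A := closure_mono (Set.union_subset_union_right _ (by simp))
    have hxA : x ∈ A := subset_closure (by simp)
    have hOB : O ≤ B := fun o ho => subset_closure (Or.inl ho)
    obtain ⟨i, hi5, hi⟩ := (Nat.dvd_prime_pow hpr).1 (hcard ▸ A.card_subgroup_dvd_card)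
    obtain ⟨j, hj5, hj⟩ := (Nat.dvd_prime_pow hpr).1 (hcard ▸ B.card_subgroup_dvd_card)
    have hj2 : 2 < j := by
      have : Nat.card O < Nat.card B := by
        refine lt_of_le_of_ne (card_le_of_le hOB) fun e => he1O ?_
        rw [eq_of_le_of_card_ge hOB e.ge]
        exact subset_closure (by simp)
      rw [hO2, hj, Nat.pow_lt_pow_iff_right hpr.one_lt] at this
      exact this
    have hij : j < i := by
      have : Nat.card B < Nat.card A := by
        refine lt_of_le_of_ne (card_le_of_le hBA) fun e => h.x_nmem (hBP ?_)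
        rw [eq_of_le_of_card_ge hBA e.ge]
        exact hxA
      rw [hi, hj, Nat.pow_lt_pow_iff_right hpr.one_lt] at this
      exact this
    have hi4 : i = 4 := by
      by_contra hne
      have hAtop : A = ⊤ := eq_top_of_card_eq _ (by rw [hi, hcard, show i = 5 by omega])
      refine hna ⟨⟨fun a b => Subtype.ext ?_⟩⟩
      show (a : G) * b = b * a
      exact congrArg Subtype.val
        (hAc.is_comm.comm (⟨a, hAtop ▸ mem_top _⟩ : A) ⟨b, hAtop ▸ mem_top _⟩)
    have h1 := A.card_mul_index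
    rw [hi, hcard, hi4] at h1
    exact Nat.eq_of_mul_eq_mul_left (pow_pos hpr.pos 4) (h1.trans (by ring))
  push Not at hxO
  obtain ⟨z, hz, hzx⟩ := hxO
  set d := ⁅x, z⁆ with hd_def
  have hd1 : d ≠ 1 := fun e => hzx (commutatorElement_eq_one_iff_mul_comm.1 e)
  have hdphi : d ∈ phi P := h.comO z hz
  have hdo : orderOf d = p := orderOf_eq_prime (hphip hdphi) hd1
  have hzP : z ∈ P := h.O_le hz
  have hxu : x * u = u * x := (hphic hu x).symm
  have hxa : x * ⁅x, e2⁆ = ⁅x, e2⁆ * x := by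
    have e : ⁅x, e2⁆ = e1 * u := by rw [hu_def]; group
    calc x * ⁅x, e2⁆ = x * (e1 * u) := congrArg (x * ·) e
      _ = e1 * u * x := (Commute.mul_right hxe hxu).eq
      _ = ⁅x, e2⁆ * x := congrArg (· * x) e.symm
  have hepow : ∀ i : ℕ, e1 ^ i ∈ O → p ∣ i := fun i hi => (h.indep i 0 (by simpa using hi)).1
  by_cases hp3 : p = 3
  · -- the exceptional case
    subst hp3
    refine Or.inr ⟨rfl, ?_⟩
    set f := ⁅e2, x⁆ with hf_def
    have hf : f = u⁻¹ * e1⁻¹ := by
      rw [hf_def, ← commutatorElement_inv, show ⁅x, e2⁆ = e1 * u by rw [hu_def]; group,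
        mul_inv_rev]
    have hzp : ∀ {o : G}, o ∈ phi P → o ∈ zpowers c := fun {o} ho => by
      obtain ⟨k, rfl⟩ := h.phi_gen o ho
      exact pow_mem (mem_zpowers c) k
    have hcK : zpowers c ≤ closure {f, c} := zpowers_le.2 (subset_closure (by simp))
    have hKx : closure {f, c} ≤ centralizer ({x} : Set G) := by
      rw [closure_le]
      rintro a (rfl | rfl)
      · rw [SetLike.mem_coe, mem_centralizer_singleton_iff, hf_def, ← commutatorElement_inv]
        exact (Commute.inv_right (hxa : Commute x _)).symm.eq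
      · exact mem_centralizer_singleton_iff.2 (hccen x)
    have hzc : z ∉ zpowers c := fun hmem => hzx
      ((mem_centralizer_singleton_iff.1 (hKx (hcK hmem))).symm)
    have hOzc : O ≤ closure {z, c} := by
      have hcO : closure {z, c} ≤ O := (closure_le _).2 (by
        rintro a (rfl | rfl)
        exacts [hz, h.phi_le hcphi])
      refine (eq_of_le_of_card_ge hcO ?_).ge
      obtain ⟨i, hi, he⟩ := (Nat.dvd_prime_pow hpr).1 (hO2 ▸ card_dvd_of_le hcO)
      have : Nat.card (zpowers c) < Nat.card (closure {z, c}) := by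
        refine lt_of_le_of_ne (card_le_of_le (zpowers_le.2 (subset_closure (by simp)))) fun e => ?_
        apply hzc
        rw [eq_of_le_of_card_ge (zpowers_le.2 (subset_closure (by simp))) e.ge]
        exact subset_closure (by simp)
      rw [Nat.card_zpowers, hco, he] at this
      have hi2 : i = 2 := by
        rcases i with _ | _ | i
        · simp at this
        · simp at this
        · omega
      rw [he, hi2, hO2]
    have hgen : closure {e2, x, f, z, c} = ⊤ := by
      set M := closure {e2, x, f, z, c} with hM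
      have hcM : c ∈ M := subset_closure (by simp)
      have hOM : O ≤ M := hOzc.trans (closure_mono (by simp [Set.insert_subset_iff]))
      have huM : u ∈ M := hOM (h.phi_le hu)
      have he1 : e1 ∈ M := by
        have hfM : f ∈ M := subset_closure (by simp)
        have : e1 = (u * f)⁻¹ := by rw [hf]; group
        rw [this]
        exact inv_mem (mul_mem huM hfM)
      refine hgenG M (fun w hw => ?_) (subset_closure (by simp))
      obtain ⟨i, j, o, ho, rfl⟩ := h.gen w hw
      exact mul_mem (mul_mem (pow_mem he1 i) (pow_mem (subset_closure (by simp)) j)) (hOM ho)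
    have hfh : ⁅f, e2⁆ = c⁻¹ := by
      have hu' : ∀ g, u⁻¹ * g = g * u⁻¹ := hphic (inv_mem hu)
      rw [hf, hu' e1⁻¹]
      have h1 := quartic_comm_central (a := e1⁻¹) (b := e2) (v := (1 : G)) hu' (fun g => by simp)
      rw [mul_one] at h1
      rw [h1, commutatorElement_def]
      calc e1⁻¹ * e2 * e1⁻¹⁻¹ * e2⁻¹ = e1⁻¹ * c⁻¹ * e1 := by
            rw [hc_def, commutatorElement_def]; group
        _ = c⁻¹ := by
          have : c⁻¹ * e1 = e1 * c⁻¹ := (Commute.inv_left (hccen e1)).eq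
          rw [mul_assoc, this, inv_mul_cancel_left]
    refine fix_goal hG hccen hcp hgen ?_ ?_ ?_ ?_ ?_ ?_ ?_ ?_ ?_ ?_
    · rw [commutatorElement_eq_one_iff_mul_comm]
      exact mem_centralizer_singleton_iff.1 (hKx (subset_closure (Or.inl rfl)))
    · rw [hfh]; exact inv_mem (mem_zpowers c)
    · rw [hfh]; exact inv_ne_one.2 hc1
    · exact commutatorElement_eq_one_iff_mul_comm.2 (hOP z hz e2 h.mem2)
    · rw [← commutatorElement_inv]; exact inv_mem (hzp hdphi)
    · rw [← commutatorElement_inv]; exact inv_ne_one.2 hd1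
    · exact hcK (hzp (hpow1 h.mem2))
    · -- the cube of `x`
      have hx3P : x ^ 3 ∈ P := by
        have := P.pow_index_mem x
        have hidx : P.index = 3 := by
          have h1 := P.card_mul_index
          rw [hP, hcard] at h1
          exact Nat.eq_of_mul_eq_mul_left (pow_pos hpr.pos 4) (h1.trans (by ring))
        rwa [hidx] at this
      obtain ⟨i, j, o, ho, hw⟩ := h.gen _ hx3P
      have hfix : τ (x ^ 3) = x ^ 3 := by rw [map_pow, h.sx]
      rw [hw, map_mul, map_mul, map_pow, map_pow, h.s1, h.s2, h.sO o ho] at hfix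
      have hfix' : (e1⁻¹) ^ i * (e2⁻¹) ^ j = e1 ^ i * e2 ^ j := mul_right_cancel hfix
      have h2 : e1 ^ (2 * i) * e2 ^ (2 * j) ∈ O := by
        rw [inv_pow, inv_pow] at hfix'
        have e : e1 ^ (2 * i) * e2 ^ (2 * j) = 1 := by
          calc e1 ^ (2 * i) * e2 ^ (2 * j) = e1 ^ i * (e1 ^ i * e2 ^ j) * e2 ^ j := by
                rw [two_mul, two_mul, pow_add, pow_add]; group
            _ = e1 ^ i * ((e1 ^ i)⁻¹ * (e2 ^ j)⁻¹) * e2 ^ j := by rw [hfix']
            _ = 1 := by group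
        rw [e]; exact one_mem O
      obtain ⟨hi2, hj2⟩ := h.indep _ _ h2
      obtain ⟨i', rfl⟩ := ((Nat.Prime.dvd_mul hpr).1 hi2).resolve_left (by decide)
      obtain ⟨j', rfl⟩ := ((Nat.Prime.dvd_mul hpr).1 hj2).resolve_left (by decide)
      have hO3 : x ^ 3 ∈ O := by
        rw [hw]
        refine mul_mem (mul_mem ?_ ?_) ho <;> rw [pow_mul]
        · exact pow_mem (h.phi_le (hpow1 h.mem1)) _
        · exact pow_mem (h.phi_le (hpow1 h.mem2)) _
      -- elements of `O` commuting with `x`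
      suffices hsub : zpowers c = O ⊓ centralizer ({x} : Set G) by
        exact hcK (hsub.ge ⟨hO3, mem_centralizer_singleton_iff.2 ((Commute.refl x).pow_left 3).eq⟩)
      refine eq_of_le_of_card_ge (zpowers_le.2 ⟨h.phi_le hcphi,
        mem_centralizer_singleton_iff.2 (hccen x)⟩) ?_
      obtain ⟨k, hk, he⟩ := (Nat.dvd_prime_pow hpr).1
        (hO2 ▸ card_dvd_of_le (inf_le_left : O ⊓ centralizer ({x} : Set G) ≤ O))
      rw [Nat.card_zpowers, hco, he]
      rcases k with _ | _ | k
      · norm_num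
      · norm_num
      · exfalso
        obtain rfl : k = 0 := by omega
        have hOle : O ≤ centralizer ({x} : Set G) := inf_eq_left.1
          (eq_of_le_of_card_ge inf_le_left (by rw [he, hO2]))
        exact hzx (mem_centralizer_singleton_iff.1 (hOle hz)).symm
    · exact hcK (hzp (hpow1 hzP))
    · exact fun hmem => hzx (mem_centralizer_singleton_iff.1 (hKx hmem)).symm
  -- `p ≥ 5`: a torus gives a contradiction
  exfalso
  obtain ⟨m, hm⟩ : ∃ m, 2 * m = p + 1 := by
    obtain ⟨t, ht⟩ := hpr.odd_of_ne_two hp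
    exact ⟨t + 1, by omega⟩
  have hm1 : ((2 * m : ℕ) : ZMod p) = 1 := by rw [hm]; simp
  obtain ⟨ψ, hψ⟩ := h.tor 2 m hm1
  have hψ1 : ψ e1 = e1 ^ 2 * ((e1 ^ 2)⁻¹ * ψ e1) := (mul_inv_cancel_left _ _).symm
  have hψ2 : ψ e2 = e2 ^ m * ((e2 ^ m)⁻¹ * ψ e2) := (mul_inv_cancel_left _ _).symm
  have hψc : ψ c = c := by
    rw [hc_def, map_commutatorElement, hψ1, hψ2,
      quartic_comm_central (hphic hψ.map1) (hphic hψ.map2), quartic_pow_comm hccen hc_def.symm, hm,
      pow_succ, hcp, one_mul, hc_def]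
  have hψphi : ∀ {o : G}, o ∈ phi P → ψ o = o := fun {o} ho => by
    obtain ⟨k, rfl⟩ := h.phi_gen o ho
    rw [map_pow, hψc]
  -- `ψ x` modulo `P`
  obtain ⟨k, hk⟩ : ∃ k : ℕ, (x ^ k)⁻¹ * ψ x ∈ P := by
    have hq : Nat.card (G ⧸ P) = p := by
      have h1 := P.card_mul_index
      rw [hP, hcard] at h1
      exact Nat.eq_of_mul_eq_mul_left (pow_pos hpr.pos 4) (h1.trans (by ring))
    have h1 : (QuotientGroup.mk (ψ x) : G ⧸ P) ∈ Submonoid.powers (QuotientGroup.mk x : G ⧸ P) :=
      mem_powers_of_prime_card hq fun e => h.x_nmem ((QuotientGroup.eq_one_iff x).1 e)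
    obtain ⟨k, hk⟩ := h1
    exact ⟨k, QuotientGroup.eq.1 (by rw [QuotientGroup.mk_pow]; exact hk)⟩
  obtain ⟨w, hk, hψx⟩ : ∃ w ∈ P, ψ x = x ^ k * w := ⟨_, hk, (mul_inv_cancel_left _ _).symm⟩
  -- the commutator with `z`
  have hψd : d ^ (k * 1) = d := by
    conv_rhs => rw [← hψphi hdphi, hd_def, map_commutatorElement, hψx,
      show ψ z = z * (z⁻¹ * ψ z) by group]
    have h2 : ∀ g, z⁻¹ * ψ z * g = g * (z⁻¹ * ψ z) := hphic (hψ.mapO z hz)
    have h3 := quartic_comm_central (a := x ^ k * w) (b := z) (u := (1 : G)) (fun g => by simp) h2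
    rw [mul_one] at h3
    rw [h3, ← quartic_pow_comm (hphic hdphi) hd_def.symm k 1, pow_one, commutatorElement_def,
      commutatorElement_def]
    have hwz : w * z = z * w := (hOP z hz w hk).symm
    calc x ^ k * z * (x ^ k)⁻¹ * z⁻¹ = x ^ k * (z * w) * w⁻¹ * (x ^ k)⁻¹ * z⁻¹ := by group
      _ = x ^ k * w * z * (x ^ k * w)⁻¹ * z⁻¹ := by rw [← hwz]; group
  rw [mul_one] at hψd
  have hk1 : (k : ZMod p) = 1 := by
    have h1 : d ^ k = d ^ 1 := by rw [hψd, pow_one]
    rw [pow_eq_pow_iff_modEq, hdo] at h1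
    simpa using (ZMod.natCast_eq_natCast_iff k 1 p).2 h1
  -- the commutator with `e2`, modulo the Frattini subgroup of `P`
  have hphin : (phi P).Normal := ⟨fun o ho g => by
    rw [← hphic ho g, mul_inv_cancel_right]; exact ho⟩
  set π := QuotientGroup.mk' (phi P) with hπ
  have hπ1 : ∀ {o : G}, o ∈ phi P → π o = 1 := fun {o} ho => (QuotientGroup.eq_one_iff o).2 ho
  have hX : ⁅π x, π e2⁆ = π e1 := by
    rw [← map_commutatorElement, show ⁅x, e2⁆ = e1 * u by rw [hu_def]; group, map_mul, hπ1 hu,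
      mul_one]
  have hE2w : Commute (π w) (π e2 ^ m) := Commute.pow_right (by
    rw [← commutatorElement_eq_one_iff_commute, ← map_commutatorElement]
    exact hπ1 (hmul1 hk h.mem2)) m
  have hXk : ∀ i : ℕ, π x ^ i * π e2 * (π x ^ i)⁻¹ = π e1 ^ i * π e2 := by
    have hx1 : Commute (π x) (π e1) := Commute.map (show Commute x e1 from hxe) π
    intro i
    induction i with
    | zero => simp
    | succ i ih =>
      have h1 : π x * π e2 * (π x)⁻¹ = π e1 * π e2 := by
        rw [← hX, commutatorElement_def]; group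
      calc π x ^ (i + 1) * π e2 * (π x ^ (i + 1))⁻¹
          = π x * (π x ^ i * π e2 * (π x ^ i)⁻¹) * (π x)⁻¹ := by rw [pow_succ']; group
        _ = π x * π e1 ^ i * π e2 * (π x)⁻¹ := by rw [ih]; group
        _ = π e1 ^ i * (π x * π e2 * (π x)⁻¹) := by rw [(hx1.pow_right i).eq]; group
        _ = π e1 ^ (i + 1) * π e2 := by rw [h1, ← mul_assoc, ← pow_succ]
  have hE12 : Commute (π e1 ^ k) (π e2) := by
    refine Commute.pow_left ?_ k
    rw [← commutatorElement_eq_one_iff_commute, ← map_commutatorElement]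
    exact hπ1 hcphi
  have hmain : π e1 ^ (k * m) = π e1 ^ 2 := by
    have h1 : π (ψ ⁅x, e2⁆) = π e1 ^ 2 := by
      rw [show ⁅x, e2⁆ = e1 * u by rw [hu_def]; group, map_mul ψ, hψphi hu, map_mul π, hπ1 hu,
        mul_one, hψ1, map_mul π, hπ1 hψ.map1, mul_one, map_pow]
    rw [← h1, map_commutatorElement ψ, map_commutatorElement π, hψx, hψ2, map_mul π, map_mul π,
      hπ1 hψ.map2, mul_one, map_pow, map_pow, commutatorElement_def]
    calc π e1 ^ (k * m) = (π e1 ^ k * π e2) ^ m * (π e2 ^ m)⁻¹ := by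
          rw [hE12.mul_pow, ← pow_mul, mul_inv_cancel_right]
      _ = π x ^ k * (π e2 ^ m * π w) * (π w)⁻¹ * (π x ^ k)⁻¹ * (π e2 ^ m)⁻¹ := by
          rw [← hXk k, conj_pow]; group
      _ = π x ^ k * π w * π e2 ^ m * (π x ^ k * π w)⁻¹ * (π e2 ^ m)⁻¹ := by
          rw [← hE2w.eq]; group
  have hE1o : orderOf (π e1) = p := by
    refine orderOf_eq_prime ?_ fun e => he1O (h.phi_le ((QuotientGroup.eq_one_iff e1).1 e))
    rw [← map_pow]
    exact hπ1 (hpow1 h.mem1)
  rw [pow_eq_pow_iff_modEq, hE1o] at hmain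
  have hkm : ((k * m : ℕ) : ZMod p) = ((2 : ℕ) : ZMod p) :=
    (ZMod.natCast_eq_natCast_iff _ _ p).2 hmain
  push_cast at hm1 hkm
  have h3 : ((3 : ℕ) : ZMod p) = 0 := by
    rw [hk1, one_mul] at hkm
    push_cast
    linear_combination hm1 - 2 * hkm
  rw [ZMod.natCast_eq_zero_iff] at h3
  exact hp3 ((Nat.prime_dvd_prime_iff_eq hpr Nat.prime_three).1 h3)

end Cfsg.Agent.PFifth
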