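import Cfsg.Agent.PFifth.TransvDefs
import Cfsg.Agent.H73.SmallEssential.Quartic
import Cfsg.Agent.H73.SmallEssential.Series
import Cfsg.Agent.PearlExists.RankTwo

/-!
Essential subgroups of order `p ^ 4` in a group of order `p ^ 5` without abelian subgroups of
index `p`: structure and transvection property (S5264).
-/

set_option autoImplicit false
set_option linter.style.haveILetI false
set_option linter.unusedSectionVars false

open Cfsg Cfsg.FusionSystem Cfsg.Agent.FusionSys Cfsg.Agent.FusRankThree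

open scoped commutatorElement

namespace Cfsg.Agent.PFifth

namespace Quartic

open Cfsg.Agent.H73.SmallEssential

universe u

variable {p : ℕ} [Fact p.Prime]

/-- The centre has order `p ^ 2`, the Frattini subgroup is the commutator subgroup, of order `p`. -/
theorem group_facts {X : Type u} [Group X] [Finite X] (hp2 : p ≠ 2) (hno : NoSmallSeries p X)
    (hcard : Nat.card X = p ^ 4) (hna : ¬ IsMulCommutative X) :
    CenterSq p X ∧ frattini X = commutator X := by
  have hp : p.Prime := Fact.out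
  have hX : IsPGroup p X := IsPGroup.of_card hcard
  haveI : Nontrivial X :=
    Finite.one_lt_card_iff_nontrivial.1 (hcard ▸ Nat.one_lt_pow (by norm_num) hp.one_lt)
  haveI := hX.center_nontrivial
  set Z := Subgroup.center X with hZd
  obtain ⟨i, hi⟩ := IsPGroup.iff_card.1 (hX.to_subgroup Z)
  obtain ⟨k, hk⟩ := hX.index Z
  have hsum : i + k = 4 := by
    have h1 := Z.card_mul_index
    rw [hi, hk, hcard, ← pow_add] at h1
    exact Nat.pow_right_injective hp.two_le h1
  have hnc : ¬ IsCyclic (X ⧸ Z) := fun hc =>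
    hna (isMulCommutative_of_isCyclic_quotient_center_self X)
  have hi0 : i ≠ 0 := by
    rintro rfl
    have := Finite.one_lt_card (α := Z)
    rw [hi, pow_zero] at this
    omega
  have hi1 : i ≠ 1 := fun h1 => center_card hno hcard (by rw [hi, h1, pow_one])
  have hk2 : 2 ≤ k := by
    by_contra hlt
    refine hnc ?_
    rcases (by omega : k = 0 ∨ k = 1) with rfl | rfl
    · haveI := (Nat.card_eq_one_iff_unique.1 (by
        rw [← Subgroup.index_eq_card, hk, pow_zero] : Nat.card (X ⧸ Z) = 1)).1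
      exact isCyclic_of_subsingleton
    · exact isCyclic_of_prime_card (p := p) (by rw [← Subgroup.index_eq_card, hk, pow_one])
  obtain rfl : i = 2 := by omega
  have hQ : Nat.card (X ⧸ Z) = p ^ 2 := by rw [← Subgroup.index_eq_card, hk, show k = 2 by omega]
  have hcomm : commutator X ≤ Z := Subgroup.Normal.quotient_commutative_iff_commutator_le.1
    ⟨⟨(IsPGroup.isMulCommutative_of_card_eq_prime_sq hQ).is_comm.comm⟩⟩
  have hpow : ∀ x : X, x ^ p ∈ Z := by
    intro a
    refine (QuotientGroup.eq_one_iff _).1 ?_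
    show QuotientGroup.mk' Z (a ^ p) = 1
    rw [map_pow]
    obtain ⟨e, he⟩ := (Nat.dvd_prime_pow hp).1 (hQ ▸ orderOf_dvd_natCard (QuotientGroup.mk' Z a))
    refine orderOf_dvd_iff_pow_eq_one.1 ?_
    rw [he.2]
    rcases (by omega : e ≤ 1 ∨ e = 2) with h | rfl
    · exact (Nat.pow_dvd_pow p h).trans (pow_one p).dvd
    · exact absurd (isCyclic_of_orderOf_eq_card (QuotientGroup.mk' Z a) (he.2.trans hQ.symm)) hnc
  have hcl : ∀ u v : X, ⁅u, v⁆ ∈ Z := PGroup.commutatorElement_mem_center hcomm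
  obtain ⟨a, b, hab⟩ : ∃ a b : X, a * b ≠ b * a := by
    by_contra! h
    exact hna ⟨⟨h⟩⟩
  have hk0 : ⁅b, a⁆ ≠ 1 := fun e => hab (commutatorElement_eq_one_iff_mul_comm.1 e).symm
  have hcp : ⁅b, a⁆ ^ p = 1 := by
    rw [← PGroup.commutatorElement_pow_left (hcl b a) p, commutatorElement_eq_one_iff_mul_comm]
    exact (Subgroup.mem_center_iff.1 (hpow b) a).symm
  have hgenX : Z ⊔ Subgroup.zpowers a ⊔ Subgroup.zpowers b = ⊤ := by
    have ha : a ∉ Z := fun ha => hab (Subgroup.mem_center_iff.1 ha b).symm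
    have hb : b ∉ Z ⊔ Subgroup.zpowers a := fun hb => by
      have hle : Z ⊔ Subgroup.zpowers a ≤ Subgroup.centralizer ({a} : Set X) :=
        sup_le (Subgroup.center_le_centralizer _)
          (Subgroup.zpowers_le.2 (Subgroup.mem_centralizer_singleton_iff.2 rfl))
      exact hab (Subgroup.mem_centralizer_singleton_iff.1 (hle hb)).symm
    refine Subgroup.eq_top_of_le_card _ ?_
    calc Nat.card X = p * (p * Nat.card Z) := by rw [hcard, hi]; ring
      _ ≤ p * Nat.card (Z ⊔ Subgroup.zpowers a : Subgroup X) :=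
          Nat.mul_le_mul_left p (card_lt_mul hX (lt_sup_zpowers ha))
      _ ≤ _ := card_lt_mul hX (lt_sup_zpowers hb)
  have hK : commutator X = Subgroup.zpowers ⁅b, a⁆ := by
    refine le_antisymm ?_ (Subgroup.zpowers_le.2 (Subgroup.commutator_mem_commutator
      (Subgroup.mem_top b) (Subgroup.mem_top a)))
    haveI : (Subgroup.zpowers ⁅b, a⁆).Normal :=
      ⟨fun v hv u => by
        rw [Subgroup.mem_center_iff.1 ((Subgroup.zpowers_le.2 (hcl b a)) hv) u,
          mul_inv_cancel_right]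
        exact hv⟩
    refine Subgroup.Normal.quotient_commutative_iff_commutator_le.1 ⟨⟨?_⟩⟩
    set π := QuotientGroup.mk' (Subgroup.zpowers ⁅b, a⁆) with hπ
    have hgen : ∀ H : Subgroup (X ⧸ Subgroup.zpowers ⁅b, a⁆), Z.map π ≤ H → π a ∈ H → π b ∈ H →
        H = ⊤ := fun H h1 h2 h3 => by
      have h4 : (⊤ : Subgroup X) ≤ H.comap π := by
        rw [← hgenX]
        exact sup_le (sup_le (Subgroup.map_le_iff_le_comap.1 h1)
          (Subgroup.zpowers_le.2 h2)) (Subgroup.zpowers_le.2 h3)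
      refine eq_top_iff.2 fun q _ => ?_
      obtain ⟨y, rfl⟩ := QuotientGroup.mk'_surjective _ q
      exact h4 (Subgroup.mem_top y)
    have hZc : Z.map π ≤ Subgroup.center _ := by
      rintro _ ⟨z, hz, rfl⟩
      refine Subgroup.mem_center_iff.2 fun q => ?_
      obtain ⟨y, rfl⟩ := QuotientGroup.mk'_surjective _ q
      rw [← map_mul, Subgroup.mem_center_iff.1 hz y, map_mul]
    have hpab : π b * π a = π a * π b := by
      rw [← commutatorElement_eq_one_iff_mul_comm, ← map_commutatorElement]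
      exact (QuotientGroup.eq_one_iff _).2 (Subgroup.mem_zpowers _)
    have hca : π a ∈ Subgroup.center _ := by
      have h1 := hgen (Subgroup.centralizer {π a}) (hZc.trans (Subgroup.center_le_centralizer _))
        (Subgroup.mem_centralizer_singleton_iff.2 rfl)
        (Subgroup.mem_centralizer_singleton_iff.2 hpab)
      exact Subgroup.mem_center_iff.2 fun q =>
        Subgroup.mem_centralizer_singleton_iff.1 (h1.ge (Subgroup.mem_top q))
    have hcb : π b ∈ Subgroup.center _ := by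
      have h1 := hgen (Subgroup.centralizer {π b}) (hZc.trans (Subgroup.center_le_centralizer _))
        (Subgroup.mem_centralizer_singleton_iff.2 hpab.symm)
        (Subgroup.mem_centralizer_singleton_iff.2 rfl)
      exact Subgroup.mem_center_iff.2 fun q =>
        Subgroup.mem_centralizer_singleton_iff.1 (h1.ge (Subgroup.mem_top q))
    have htop := hgen _ hZc hca hcb
    exact fun u v => Subgroup.mem_center_iff.1 (htop.ge (Subgroup.mem_top v)) u
  have h : CenterSq p X :=
    ⟨hcard, hna, hi, hpow, hcomm, by rw [hK, Nat.card_zpowers, orderOf_eq_prime hcp hk0]⟩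
  refine ⟨h, le_antisymm ((PGroup.frattini_le_iff hX).2 ⟨le_rfl, ?_⟩)
    (PGroup.commutator_le_frattini hX)⟩
  -- all `p`-th powers are commutators
  let f : X →* X := MonoidHom.mk' (fun x => x ^ p) fun u v =>
    PGroup.mul_pow_of_classTwo hcomm (hp.odd_of_ne_two hp2) (hpow u)
  let D : Subgroup X := (commutator X).comap f
  by_contra hcon
  push Not at hcon
  obtain ⟨x, hx⟩ := hcon
  have hidx : D.index = p := by
    have h1 : D.index ∣ (commutator X).relIndex Z := by
      rw [show D.index = (commutator X).relIndex f.range from Subgroup.index_comap _ f]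
      have hle : f.range ⊔ commutator X ≤ Z :=
        sup_le (by rintro _ ⟨y, rfl⟩; exact hpow y) hcomm
      rw [← Subgroup.relIndex_sup_right, ← Subgroup.relIndex_mul_relIndex _ _ Z le_sup_right hle]
      exact dvd_mul_right _ _
    rw [relIndex_of_cards hcomm (h.cardK.trans (pow_one p).symm) hi] at h1
    exact (hp.eq_one_or_self_of_dvd _ (by simpa using h1)).resolve_left fun e =>
      hx ((Subgroup.index_eq_one.1 e).ge (Subgroup.mem_top x))
  have hZD : Z ≤ D := by
    intro z hz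
    show z ^ p ∈ commutator X
    by_contra hzp
    have hz0 : z ^ p ≠ 1 := fun e => hzp (e ▸ one_mem _)
    have hz2 : z ^ p ^ 2 = 1 := by
      have h1 := pow_card_eq_one' (G := Z) (x := ⟨z, hz⟩)
      rw [hi] at h1
      exact congrArg Subtype.val h1
    have hgen' : Subgroup.zpowers z = Z := by
      refine Subgroup.eq_of_le_of_card_ge (Subgroup.zpowers_le.2 hz) (le_of_eq ?_)
      rw [hi, Nat.card_zpowers, orderOf_eq_prime_pow (n := 1) (by simpa using hz0) hz2]
    obtain ⟨m, hm⟩ : ⁅b, a⁆ ∈ Subgroup.zpowers z := hgen'.ge (hcl b a)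
    refine hzp ?_
    have hm1 : z ^ (m * (p : ℤ)) = 1 := by
      rw [zpow_mul, zpow_natCast]
      rw [show z ^ m = ⁅b, a⁆ from hm]
      exact hcp
    have hord : orderOf z = p ^ 2 := orderOf_eq_prime_pow (n := 1) (by simpa using hz0) hz2
    have hd := orderOf_dvd_iff_zpow_eq_one.2 hm1
    rw [hord, Nat.cast_pow, pow_two] at hd
    obtain ⟨t, ht⟩ := Int.dvd_of_mul_dvd_mul_right (by exact_mod_cast hp.ne_zero) hd
    have hin : ⁅b, a⁆ ∈ Subgroup.zpowers (z ^ p) := ⟨t, by
      show (z ^ p) ^ t = ⁅b, a⁆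
      rw [← zpow_natCast z p, ← zpow_mul, ← ht]
      exact hm⟩
    have heq : Subgroup.zpowers ⁅b, a⁆ = Subgroup.zpowers (z ^ p) := by
      refine Subgroup.eq_of_le_of_card_ge (Subgroup.zpowers_le.2 hin) (le_of_eq ?_)
      rw [Nat.card_zpowers, Nat.card_zpowers, orderOf_eq_prime hcp hk0,
        orderOf_eq_prime (by rw [← pow_mul, ← pow_two]; exact hz2) hz0]
    rw [hK, heq]
    exact Subgroup.mem_zpowers _
  refine h.false_of_char hno D (char_of_mem fun φ v hv => ?_) hZD hidx
  show (φ v) ^ p ∈ commutator X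
  rw [← map_pow]
  exact char_mem inferInstance φ hv

/-- Automorphisms of a group act on the quotient by its centre. -/
noncomputable def centreQuot (X : Type u) [Group X] :
    MulAut X →* MulAut (X ⧸ Subgroup.center X) where
  toFun φ := QuotientGroup.congr (Subgroup.center X) (Subgroup.center X) φ
    (Subgroup.characteristic_iff_map_eq.1 inferInstance φ)
  map_one' := by
    refine MulEquiv.ext fun z => ?_
    obtain ⟨z, rfl⟩ := QuotientGroup.mk'_surjective (Subgroup.center X) z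
    rfl
  map_mul' a b := by
    refine MulEquiv.ext fun z => ?_
    obtain ⟨z, rfl⟩ := QuotientGroup.mk'_surjective (Subgroup.center X) z
    rfl

theorem centreQuot_mk {X : Type u} [Group X] (φ : MulAut X) (x : X) :
    centreQuot X φ (x : X ⧸ Subgroup.center X) = ((φ x : X) : X ⧸ Subgroup.center X) := rfl

theorem translate_pow {G : Type u} [Group G] (k : MulAut G) {v u : G}
    (hu : k u = u) (hv : k v = v * u) : ∀ n : ℕ, (k ^ n) v = v * u ^ n
  | 0 => by simp
  | n + 1 => by
    rw [pow_succ', MulAut.mul_apply, translate_pow k hu hv n, map_mul, map_pow, hu, hv,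
      mul_assoc, ← pow_succ']

theorem scalar_pow {G : Type u} [Group G] (k : MulAut G) {w : G} {m : ℕ} (hw : k w = w ^ m) :
    ∀ n : ℕ, (k ^ n) w = w ^ (m ^ n)
  | 0 => by simp
  | n + 1 => by
    rw [pow_succ', MulAut.mul_apply, scalar_pow k hw n, map_pow, hw, ← pow_mul, ← pow_succ']

variable {Ω : Type u} [Group Ω] {S : Subgroup Ω} [Finite S]

/-- A plane and a line: the element of `N_S(P)` outside `P` acts as a transvection. -/
theorem transv (hS : IsPGroup p S) {F : FusionSystem S} (hF : F.IsSaturated p) (hp2 : p ≠ 2)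
    (hcard : Nat.card S = p ^ 5) {P : Subgroup Ω} [Finite P] (hP : F.IsEssential p P)
    (hc : Nat.card P = p ^ 4) (h : CenterSq p P) (hfr : frattini ↥P = commutator ↥P) :
    Transv F p P := by
  classical
  have hp : p.Prime := Fact.out
  have hPS : P ≤ S := hP.1.1
  have hPp : IsPGroup p P := hS.to_le hPS
  have hidx : (P.subgroupOf S).index = p := by
    have h1 := (P.subgroupOf S).card_mul_index
    rw [Nat.card_congr (Subgroup.subgroupOfEquivOfLe hPS).toEquiv, hc, hcard, pow_succ p 4] at h1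
    exact Nat.eq_of_mul_eq_mul_left (Nat.pow_pos hp.pos) h1
  have hnorm : (P.subgroupOf S).Normal := by
    refine Subgroup.normal_of_index_eq_minFac_card ?_
    rw [hidx, hcard, hp.pow_minFac (by norm_num)]
  have hN : normalizerIn S P = S := by
    refine le_antisymm inf_le_left (le_inf le_rfl ?_)
    exact (Subgroup.normal_subgroupOf_iff_le_normalizer hPS).1 hnorm
  refine ⟨hPS, by rw [hN, hc, hcard]; ring, ?_⟩
  set Φ := frattini ↥P with hΦd
  have hΦZ : Φ ≤ Subgroup.center ↥P := hfr ▸ h.hcomm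
  set W : Subgroup (FQ P) := (Subgroup.center ↥P).map (QuotientGroup.mk' Φ) with hWd
  have hWc : Nat.card W = p := by
    rw [hWd, ← Subgroup.relIndex_ker, QuotientGroup.ker_mk',
      relIndex_of_cards hΦZ (by rw [hfr, h.cardK, pow_one]) h.cardZ, pow_one]
  obtain ⟨w₀, hw₀⟩ : ∃ w₀ : FQ P, Subgroup.zpowers w₀ = W := by
    obtain ⟨w, hw⟩ := Subgroup.ne_bot_iff_exists_ne_one.1 (fun hb : W = ⊥ => by
      rw [hb, Subgroup.card_bot] at hWc; exact hp.ne_one hWc.symm)
    refine ⟨w, Subgroup.eq_of_le_of_card_ge (Subgroup.zpowers_le.2 w.2) ?_⟩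
    rw [hWc, Nat.card_zpowers, orderOf_eq_prime (FQ_pow hPp _) fun e => hw (Subtype.ext e)]
  set ρ := rho F P with hρd
  have hWinv : ∀ α : F.autGroup P, ∀ w ∈ W, ρ α w ∈ W := by
    rintro α _ ⟨z, hz, rfl⟩
    exact ⟨(α : MulAut P) z, char_mem inferInstance _ hz, rfl⟩
  -- the elements trivial on `W`
  let T : Subgroup (F.autGroup P) :=
    { carrier := {α | ∀ w ∈ W, ρ α w = w}
      one_mem' := fun w _ => by rw [map_one]; rfl
      mul_mem' := fun {a b} ha hb w hw => by rw [map_mul, MulAut.mul_apply, hb w hw, ha w hw]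
      inv_mem' := fun {a} ha w hw => by
        rw [map_inv]
        conv_lhs => rw [← ha w hw]
        exact (ρ a).symm_apply_apply w }
  haveI hTn : T.Normal := ⟨fun n hn a w hw => by
    rw [map_mul, map_mul, MulAut.mul_apply, MulAut.mul_apply, hn _ (hWinv _ w hw), map_inv,
      MulAut.apply_inv_self]⟩
  have hscal : ∀ α : F.autGroup P, ∃ m : ℕ, ρ α w₀ = w₀ ^ m := by
    intro α
    have h1 : ρ α w₀ ∈ Subgroup.zpowers w₀ := by
      rw [hw₀]; exact hWinv α w₀ (hw₀ ▸ Subgroup.mem_zpowers w₀)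
    obtain ⟨m, hm⟩ := (mem_powers_iff_mem_zpowers (x := w₀)).2 h1
    exact ⟨m, hm.symm⟩
  have hwpow : ∀ m n : ℕ, (m : ZMod p) = (n : ZMod p) → w₀ ^ m = w₀ ^ n := fun m n hmn =>
    pow_eq_pow_iff_modEq.2 (Nat.ModEq.of_dvd (orderOf_dvd_of_pow_eq_one (FQ_pow hPp _))
      ((ZMod.natCast_eq_natCast_iff' m n p).1 hmn))
  have memT : ∀ α : F.autGroup P, ρ α w₀ = w₀ → α ∈ T := by
    intro α hα w hw
    rw [← hw₀] at hw
    obtain ⟨i, rfl⟩ := hw
    show ρ α (w₀ ^ i) = w₀ ^ i
    rw [map_zpow, hα]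
  have hTp : ∀ α : F.autGroup P, (∃ a : ℕ, α ^ p ^ a = 1) → α ∈ T := by
    rintro α ⟨a, ha⟩
    refine memT α ?_
    obtain ⟨m, hm⟩ := hscal α
    have h1 := scalar_pow (ρ α) hm (p ^ a)
    rw [← map_pow, ha, map_one] at h1
    rw [hm]
    refine Eq.trans ?_ h1.symm
    refine hwpow _ _ ?_
    rw [Nat.cast_pow, ZMod.pow_card_pow]
  have hTq : ∀ α : F.autGroup P, α ^ (p - 1) ∈ T := by
    intro α
    refine memT _ ?_
    obtain ⟨m, hm⟩ := hscal α
    rw [map_pow, scalar_pow (ρ α) hm (p - 1)]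
    by_cases h0 : (m : ZMod p) = 0
    · exfalso
      have h1 : ρ α w₀ = ρ α 1 := by
        rw [hm, map_one, hwpow m 0 (by simpa using h0), pow_zero]
      have h2 : W = ⊥ := by rw [← hw₀, (ρ α).injective h1, Subgroup.zpowers_one_eq_bot]
      rw [h2, Subgroup.card_bot] at hWc
      exact hp.ne_one hWc.symm
    · conv_rhs => rw [← pow_one w₀]
      refine hwpow _ _ ?_
      rw [Nat.cast_pow, ZMod.pow_card_sub_one_eq_one h0, Nat.cast_one]
  -- the plane
  set σ : F.autGroup P →* MulAut (↥P ⧸ Subgroup.center ↥P) :=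
    (centreQuot ↥P).comp (F.autGroup P).subtype with hσd
  have hrad := FusionAlperin.isRadical_of_essential hS hP
  have hcoreP : ∀ K : Subgroup (F.autGroup P), K.Normal → IsPGroup p K →
      ∀ α ∈ K, ρ α = 1 := fun K hK hKp α hα => by
    refine (rho_ker hS hP α).2 ?_
    rw [← hrad.2]
    exact Subgroup.mem_map_of_mem _ (Cores.le_pCore hK hKp hα)
  have hInn : IsPGroup p ρ.ker := by
    have h1 : ρ.ker.map (F.autGroup P).subtype ≤ Inn P := by
      rintro _ ⟨α, hα, rfl⟩
      exact (rho_ker hS hP α).1 hα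
    refine ((FusionAlperin.isPGroup_autInducedBy_self hS hPS).to_le h1).of_equiv ?_
    exact (Subgroup.equivMapOfInjective _ _ (F.autGroup P).subtype_injective).symm
  have hK0pow : ∀ α : F.autGroup P, σ α = 1 → α ∈ T → ρ (α ^ p) = 1 := by
    intro α hσ hT
    refine MulEquiv.ext fun v => ?_
    obtain ⟨v, rfl⟩ := QuotientGroup.mk'_surjective Φ v
    have hv : (α : MulAut P) v * v⁻¹ ∈ Subgroup.center ↥P := by
      have h1 : ((((α : MulAut P) v : P)) : ↥P ⧸ Subgroup.center ↥P) = (v : ↥P ⧸ Subgroup.center ↥P) := by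
        have := congrArg (fun e : MulAut (↥P ⧸ Subgroup.center ↥P) => e (v : _)) hσ
        simpa [hσd, centreQuot_mk] using this
      exact (QuotientGroup.eq_iff_div_mem.1 h1) |> fun h2 => by rwa [div_eq_mul_inv] at h2
    set u : FQ P := QuotientGroup.mk' Φ ((α : MulAut P) v * v⁻¹) with hu
    have huW : u ∈ W := ⟨_, hv, rfl⟩
    have hav : ρ α (QuotientGroup.mk' Φ v) = QuotientGroup.mk' Φ v * u := by
      rw [hu, FQ_comm hPp, map_mul, map_inv, inv_mul_cancel_right]
      rfl
    rw [map_pow, translate_pow (ρ α) (hT u huW) hav p, FQ_pow hPp, mul_one]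
    rfl
  have hK0 : ∀ α : F.autGroup P, σ α = 1 → α ∈ T → ρ α = 1 := by
    intro α hσ hT
    refine hcoreP (σ.ker ⊓ T) inferInstance ?_ α ⟨hσ, hT⟩
    rintro ⟨β, hβσ, hβT⟩
    obtain ⟨a, ha⟩ := hInn ⟨β ^ p, hK0pow β hβσ hβT⟩
    refine ⟨a + 1, Subtype.ext ?_⟩
    have h1 : (β ^ p) ^ p ^ a = 1 := congrArg Subtype.val ha
    rw [← pow_mul, ← pow_succ'] at h1
    simpa using h1
  -- the Sylow subgroup
  obtain ⟨-, hFA⟩ := saturated_fullyNormalized hS hF hP.2.1
  obtain ⟨R₀, hR₀⟩ := hFA.2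
  haveI : Finite (MulAut (↥P ⧸ Subgroup.center ↥P)) := inferInstance
  set R := R₀.mapSurjective (MonoidHom.rangeRestrict_surjective σ) with hRd
  have hR0T : (R₀ : Subgroup (F.autGroup P)) ≤ T := fun α hα => by
    obtain ⟨a, ha⟩ := R₀.2 ⟨α, hα⟩
    exact hTp α ⟨a, congrArg Subtype.val ha⟩
  obtain ⟨g₀, hg₀S, hg₀P⟩ := exists_norm_notMem hS hF hP
  set c₀ : F.autGroup P := conjAut F hPS ⟨g₀, hg₀S⟩ with hc₀
  have hc₀R : c₀ ∈ (R₀ : Subgroup (F.autGroup P)) := by
    rw [hR₀]
    exact mem_autInducedBy.2 ⟨g₀, hg₀S.1, fun _ => rfl⟩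
  have hc₀σ : σ c₀ ≠ 1 := fun e => hg₀P
    ((rho_conjAut_eq_one hS hP ⟨g₀, hg₀S⟩).1 (hK0 c₀ e (hR0T hc₀R)))
  have hRne : (R : Subgroup σ.range) ≠ ⊥ := fun e => by
    have h1 : σ.rangeRestrict c₀ ∈ (R : Subgroup σ.range) := by
      rw [hRd, Sylow.coe_mapSurjective]
      exact Subgroup.mem_map_of_mem _ hc₀R
    rw [e, Subgroup.mem_bot] at h1
    exact hc₀σ (congrArg Subtype.val h1)
  have hnn : ¬ (R : Subgroup σ.range).Normal := by
    intro hn
    let K : Subgroup (F.autGroup P) := (R : Subgroup σ.range).comap σ.rangeRestrict ⊓ T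
    haveI : K.Normal := by infer_instance
    have hKp : IsPGroup p K := by
      rintro ⟨β, hβR, hβT⟩
      obtain ⟨a, ha⟩ := R.2 ⟨_, hβR⟩
      have hσ : σ (β ^ p ^ a) = 1 := by
        rw [map_pow]
        have := congrArg (fun x : R => ((x : σ.range) : MulAut (↥P ⧸ Subgroup.center ↥P))) ha
        simpa using this
      have hρ := hK0 _ hσ (pow_mem hβT _)
      obtain ⟨b, hb⟩ := hInn ⟨_, hρ⟩
      refine ⟨a + b, Subtype.ext ?_⟩
      have h1 : (β ^ p ^ a) ^ p ^ b = 1 := congrArg Subtype.val hb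
      rw [← pow_mul, ← pow_add] at h1
      simpa using h1
    refine hg₀P ((rho_conjAut_eq_one hS hP ⟨g₀, hg₀S⟩).1 (hcoreP K inferInstance hKp c₀ ⟨?_, hR0T hc₀R⟩))
    show σ.rangeRestrict c₀ ∈ (R : Subgroup σ.range)
    rw [hRd, Sylow.coe_mapSurjective]
    exact Subgroup.mem_map_of_mem _ hc₀R
  have hQcard : Nat.card (↥P ⧸ Subgroup.center ↥P) = p ^ 2 := by
    have h1 := (Subgroup.center ↥P).card_mul_index
    rw [h.cardZ, hc, ← Nat.add_sub_cancel' (show 2 ≤ 4 by norm_num), pow_add] at h1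
    rw [← Subgroup.index_eq_card]
    exact Nat.eq_of_mul_eq_mul_left (Nat.pow_pos hp.pos) h1
  haveI hQab := IsPGroup.isMulCommutative_of_card_eq_prime_sq hQcard
  letI : CommGroup (↥P ⧸ Subgroup.center ↥P) :=
    { (inferInstance : Group (↥P ⧸ Subgroup.center ↥P)) with mul_comm := hQab.is_comm.comm }
  have hQexp : ∀ v : ↥P ⧸ Subgroup.center ↥P, v ^ p = 1 := fun v => by
    obtain ⟨v, rfl⟩ := QuotientGroup.mk'_surjective _ v
    rw [← map_pow]
    exact (QuotientGroup.eq_one_iff _).2 (h.hpow v)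
  obtain ⟨-, x, hxR, y, e1, e2, hgen, ⟨hx1, hx2⟩, ⟨hy1, hy2⟩, ht1, ht2⟩ :=
    PearlExists.plane_frame hQexp hQcard R hRne hnn
  rw [hRd, Sylow.coe_mapSurjective] at hxR
  obtain ⟨r, hrR, hrx⟩ := hxR
  have hrσ : σ r = (x : MulAut _) := congrArg Subtype.val hrx
  have hrI := hrR
  rw [hR₀] at hrI
  obtain ⟨s, hsS, hs⟩ := mem_autInducedBy.1 (Subgroup.mem_subgroupOf.1 hrI)
  have hsN : s ∈ normalizerIn S P := by rw [hN]; exact hsS
  have hrg : conjAut F hPS ⟨s, hsN⟩ = r :=
    Subtype.ext (MulEquiv.ext fun z => Subtype.ext (hs z).symm)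
  have hrT : r ∈ T := hR0T hrR
  -- a lift of `y` trivial on `W`
  obtain ⟨⟨_, β, rfl⟩, rfl⟩ : ∃ y' : σ.range, y' = y := ⟨y, rfl⟩
  set β' := β ^ ((p - 1) * (p - 1)) with hβ'd
  have hβ'T : β' ∈ T := by rw [hβ'd, pow_mul]; exact pow_mem (hTq β) _
  have hβ'σ : σ β' = σ β := by
    have hNmod : (p - 1) * (p - 1) = p * (p - 2) + 1 := by
      obtain ⟨k, rfl⟩ : ∃ k, p = k + 2 := ⟨p - 2, by have := hp.two_le; omega⟩
      simp only [Nat.add_sub_cancel, show k + 2 - 1 = k + 1 by omega]
      ring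
    refine MulEquiv.toMonoidHom_injective (MonoidHom.eq_of_eqOn_dense hgen ?_)
    intro v hv
    rw [hβ'd, map_pow, hNmod]
    rcases hv with rfl | hv
    · show (σ β ^ (p * (p - 2) + 1)) v = σ β v
      have hy2' : σ β e2 = e2 := hy2
      rw [translate_pow (σ β) hy2' hy1, pow_succ, pow_mul, hQexp, one_pow, one_mul]
      exact hy1.symm
    · rw [Set.mem_singleton_iff.1 hv]
      show (σ β ^ (p * (p - 2) + 1)) e2 = σ β e2
      have hy2' : σ β e2 = e2 := hy2
      rw [scalar_pow (σ β) (m := 1) (by rw [pow_one]; exact hy2'), one_pow, pow_one, hy2']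
  set τ := (r * β'⁻¹ * r) ^ 2 with hτd
  have hτT : τ ∈ T := pow_mem (mul_mem (mul_mem hrT (inv_mem hβ'T)) hrT) 2
  have hτσ : ∀ v, σ τ v = v⁻¹ := by
    have hσ : σ τ = (((x * (⟨σ β, β, rfl⟩ : σ.range)⁻¹ * x) ^ 2 : σ.range) : MulAut _) := by
      rw [hτd, map_pow, map_mul, map_mul, map_inv, hrσ, hβ'σ]
      rfl
    intro v
    have h1 : (σ τ).toMonoidHom = (invMonoidHom : (↥P ⧸ Subgroup.center ↥P) →* _) := by
      refine MonoidHom.eq_of_eqOn_dense hgen ?_
      intro v hv
      rcases hv with rfl | hv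
      · show σ τ v = v⁻¹
        rw [hσ]; exact ht1
      · rw [Set.mem_singleton_iff.1 hv]
        show σ τ e2 = e2⁻¹
        rw [hσ]; exact ht2
    exact DFunLike.congr_fun h1 v
  -- the action commutes with `τ`
  have hcomm : ρ τ * ρ r = ρ r * ρ τ := by
    have h1 : ρ (τ * r * τ⁻¹ * r⁻¹) = 1 := by
      refine hK0 _ ?_ (mul_mem (mul_mem (mul_mem hτT hrT) (inv_mem hτT)) (inv_mem hrT))
      have h2 : σ τ * σ r = σ r * σ τ := MulEquiv.ext fun v => by
        rw [MulAut.mul_apply, MulAut.mul_apply, hτσ, hτσ, map_inv]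
      rw [map_mul, map_mul, map_mul, map_inv, map_inv, h2, mul_inv_cancel_right, mul_inv_cancel]
    rw [map_mul, map_mul, map_mul, map_inv, map_inv] at h1
    exact mul_inv_eq_iff_eq_mul.1 (mul_inv_eq_one.1 h1)
  -- lifts
  obtain ⟨a1, ha1⟩ := QuotientGroup.mk'_surjective (Subgroup.center ↥P) e1
  obtain ⟨a2, ha2⟩ := QuotientGroup.mk'_surjective (Subgroup.center ↥P) e2
  have hproj : ∀ α : F.autGroup P, ∀ a b : P,
      σ α (a : ↥P ⧸ Subgroup.center ↥P) = (b : ↥P ⧸ Subgroup.center ↥P) →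
      (QuotientGroup.mk' Φ b)⁻¹ * ρ α (QuotientGroup.mk' Φ a) ∈ W := by
    intro α a b hab
    refine ⟨b⁻¹ * (α : MulAut P) a, ?_, by rw [map_mul, map_inv]; rfl⟩
    exact QuotientGroup.eq.1 (hab.symm.trans (centreQuot_mk _ a))
  set f1 : FQ P := QuotientGroup.mk' Φ a1 with hf1
  set f2 : FQ P := QuotientGroup.mk' Φ a2 with hf2
  have hw : f1⁻¹ * ρ r f1 ∈ W := hproj r a1 a1 (by
    rw [hrσ, show ((a1 : P) : ↥P ⧸ Subgroup.center ↥P) = e1 from ha1]; exact hx1)
  have hu : f1 * ρ τ f1 ∈ W := by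
    have := hproj τ a1 a1⁻¹ (by rw [hτσ]; rfl)
    rwa [map_inv, inv_inv] at this
  have hfix1 : ρ r f1 = f1 := by
    have e := DFunLike.congr_fun hcomm f1
    rw [MulAut.mul_apply, MulAut.mul_apply] at e
    set w := f1⁻¹ * ρ r f1 with hwd
    set u := f1 * ρ τ f1 with hud
    have er : ρ r f1 = f1 * w := by rw [hwd, mul_inv_cancel_left]
    have et : ρ τ f1 = f1⁻¹ * u := by rw [hud, inv_mul_cancel_left]
    clear_value w u
    clear hwd hud
    rw [er, et, map_mul, map_mul, map_inv, hτT w hw, hrT u hu, er, et, mul_inv_rev,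
      FQ_comm hPp w⁻¹, mul_assoc, mul_assoc, mul_right_inj, FQ_comm hPp u, mul_left_inj] at e
    have hw2 : w ^ 2 = 1 := by
      rw [pow_two]
      nth_rewrite 1 [e]
      exact inv_mul_cancel w
    have hw1 : w = 1 := by
      have := pow_gcd_eq_one.2 ⟨hw2, FQ_pow hPp w⟩
      rwa [((Nat.coprime_primes Nat.prime_two hp).2 (Ne.symm hp2)).gcd_eq_one, pow_one] at this
    rw [er, hw1, mul_one]
  set d := f2⁻¹ * ρ r f2 with hdd
  have hdW : f1⁻¹ * d ∈ W := by
    have := hproj r a2 (a2 * a1) (by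
      rw [hrσ, QuotientGroup.mk_mul, show ((a1 : P) : ↥P ⧸ Subgroup.center ↥P) = e1 from ha1,
        show ((a2 : P) : ↥P ⧸ Subgroup.center ↥P) = e2 from ha2]
      exact hx2)
    rwa [map_mul, mul_inv_rev, mul_assoc] at this
  have hd : d = f1 * (f1⁻¹ * d) := by rw [mul_inv_cancel_left]
  have hdfix : ρ r d = d := by
    rw [hd, map_mul, hfix1, hrT _ hdW]
  have he1 : e1 ≠ 1 := by
    intro e
    subst e
    have hcy : IsCyclic (↥P ⧸ Subgroup.center ↥P) := by
      refine ⟨⟨e2, fun v => ?_⟩⟩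
      have : Subgroup.closure ({1, e2} : Set (↥P ⧸ Subgroup.center ↥P)) ≤ Subgroup.zpowers e2 :=
        (Subgroup.closure_le _).2 (by
          rintro v (rfl | rfl)
          · exact one_mem _
          · exact Subgroup.mem_zpowers _)
      exact this (hgen.ge (Subgroup.mem_top v))
    exact h.hna (isMulCommutative_of_isCyclic_quotient_center_self ↥P)
  have hd1 : d ≠ 1 := by
    intro e
    rw [e, mul_one, inv_mem_iff] at hdW
    obtain ⟨z, hz, hz'⟩ := hdW
    refine he1 ?_
    rw [← ha1]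
    refine (QuotientGroup.eq_one_iff _).2 ?_
    have h1 : z⁻¹ * a1 ∈ Φ := QuotientGroup.eq.1 hz'
    simpa using mul_mem hz (hΦZ h1)
  refine ⟨⟨s, hsN⟩, ?_, Subgroup.zpowers d, ?_, ?_, ?_⟩
  · intro hsP
    have h1 := (rho_conjAut_eq_one hS hP ⟨s, hsN⟩).2 hsP
    rw [hrg] at h1
    refine hd1 ?_
    rw [hdd, h1]
    exact inv_mul_cancel f2
  · rw [Nat.card_zpowers, orderOf_eq_prime (FQ_pow hPp _) hd1]
  · rw [show conjAut F hPS ⟨s, hsN⟩ = r from hrg]
    have hmul : ∀ a b : FQ P, (a * b)⁻¹ * ρ r (a * b) = (a⁻¹ * ρ r a) * (b⁻¹ * ρ r b) :=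
      fun a b => by
        rw [map_mul, mul_inv_rev, mul_assoc, ← mul_assoc a⁻¹, ← mul_assoc,
          FQ_comm hPp b⁻¹ (a⁻¹ * ρ r a), mul_assoc]
    let M : Subgroup (FQ P) :=
      { carrier := {v | v⁻¹ * ρ r v ∈ Subgroup.zpowers d}
        one_mem' := by simp
        mul_mem' := fun {a b} ha hb => by
          show (a * b)⁻¹ * ρ r (a * b) ∈ Subgroup.zpowers d
          rw [hmul]; exact mul_mem ha hb
        inv_mem' := fun {a} ha => by
          show a⁻¹⁻¹ * ρ r a⁻¹ ∈ Subgroup.zpowers d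
          have h1 := hmul a⁻¹ a
          rw [inv_mul_cancel, map_one, inv_one, one_mul] at h1
          rw [eq_inv_of_mul_eq_one_left h1.symm]
          exact inv_mem ha }
    have htop : (⊤ : Subgroup ↥P) ≤ M.comap (QuotientGroup.mk' Φ) := by
      intro v _
      have hZM : Subgroup.center ↥P ≤ M.comap (QuotientGroup.mk' Φ) := fun z hz => by
        show (QuotientGroup.mk' Φ z)⁻¹ * ρ r (QuotientGroup.mk' Φ z) ∈ Subgroup.zpowers d
        rw [hrT _ ⟨z, hz, rfl⟩, inv_mul_cancel]
        exact one_mem _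
      have hle : Subgroup.closure {e1, e2} ≤
          (M.comap (QuotientGroup.mk' Φ)).map (QuotientGroup.mk' (Subgroup.center ↥P)) := by
        refine (Subgroup.closure_le _).2 ?_
        rintro w (rfl | rfl)
        · refine ⟨a1, ?_, ha1⟩
          show f1⁻¹ * ρ r f1 ∈ Subgroup.zpowers d
          rw [hfix1, inv_mul_cancel]; exact one_mem _
        · exact ⟨a2, Subgroup.mem_zpowers d, ha2⟩
      obtain ⟨m, hm, hmv⟩ := hle (hgen.ge (Subgroup.mem_top (QuotientGroup.mk' _ v)))
      have h2 : m⁻¹ * v ∈ Subgroup.center ↥P := QuotientGroup.eq.1 hmv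
      simpa using mul_mem hm (hZM h2)
    intro v
    obtain ⟨v, rfl⟩ := QuotientGroup.mk'_surjective Φ v
    exact htop (Subgroup.mem_top v)
  · rw [show conjAut F hPS ⟨s, hsN⟩ = r from hrg]
    rintro _ ⟨i, rfl⟩
    show ρ r (d ^ i) = d ^ i
    rw [map_zpow, hdfix]

end Quartic

universe u

/-- An essential subgroup of order `p ^ 4`. -/
theorem quartic_facts {Ω : Type u} [Group Ω] {S : Subgroup Ω} [Finite S] {p : ℕ} [Fact p.Prime]
    (hS : IsPGroup p S) {F : FusionSystem S} (hF : F.IsSaturated p) (hp : p ≠ 2)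
    (hcard : Nat.card S = p ^ 5) (hna : NoAbelian p S) {P : Subgroup Ω}
    (hP : F.IsEssential p P) (hc : Nat.card P = p ^ 4) :
    ¬ IsMulCommutative ↥P ∧ Nat.card (Subgroup.center ↥P) = p ^ 2 ∧
      Nat.card (frattini ↥P) = p ∧ frattini ↥P = commutator ↥P ∧ Transv F p P := by
  haveI : Finite P := finite_of_le ‹_› hP.1.1
  have hp' : p.Prime := Fact.out
  have hnab : ¬ IsMulCommutative ↥P := by
    intro hab
    refine hna (P.subgroupOf S) ⟨⟨fun a b => Subtype.ext (Subtype.ext ?_)⟩⟩ ?_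
    · have h0 := congrArg Subtype.val (hab.is_comm.comm
        (⟨((a : S) : Ω), a.2⟩ : P) (⟨((b : S) : Ω), b.2⟩ : P))
      simpa using h0
    · have h1 := (P.subgroupOf S).card_mul_index
      rw [Nat.card_congr (Subgroup.subgroupOfEquivOfLe hP.1.1).toEquiv, hc, hcard,
        pow_succ p 4] at h1
      exact Nat.eq_of_mul_eq_mul_left (Nat.pow_pos hp'.pos) h1
  have hno : H73.SmallEssential.NoSmallSeries p P := by
    intro K L D hK hL hD hKL hLD h1 h2 h3 h4
    refine H73.SmallEssential.false_of_series hS hF hP (fun i => if i = 0 then ⊥ else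
      if i = 1 then K else if i = 2 then L else if i = 3 then D else ⊤) 4 rfl rfl ?_ ?_ ?_
    · refine monotone_nat_of_le_succ fun i => ?_
      rcases i with _ | _ | _ | _ | i <;> simp [hKL, hLD]
    · intro i hi α hα v hv
      rcases i with _ | _ | _ | _ | i
      · simp at hv; simp [hv]
      · simpa using H73.SmallEssential.char_mem hK α (by simpa using hv)
      · simpa using H73.SmallEssential.char_mem hL α (by simpa using hv)
      · simpa using H73.SmallEssential.char_mem hD α (by simpa using hv)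
      · simp
    · intro i hi
      rcases i with _ | _ | _ | _ | i
      · simpa [Subgroup.relIndex_bot_left] using h1
      · simpa using h2
      · simpa using h3
      · simpa [Subgroup.relIndex_top_right] using h4
      · omega
  obtain ⟨h, hfr⟩ := Quartic.group_facts hp hno hc hnab
  exact ⟨hnab, h.cardZ, hfr ▸ h.cardK, hfr, Quartic.transv hS hF hp hcard hP hc h hfr⟩

end Cfsg.Agent.PFifth
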