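import Cfsg.Agent.PFifth.TransvDefs
import Cfsg.Agent.MCE.Normalizer
import Cfsg.Agent.PearlExists.RankTwo
import Cfsg.Agent.H73.SmallEssential.Cubic
import Cfsg.Agent.S5185
import Cfsg.Agent.S5186

/-!
Essential subgroups of order `p ^ 2` and `p ^ 3` of a group of order `p ^ 5` carry a transvection
(S5264).
-/

set_option autoImplicit false

open Cfsg Cfsg.FusionSystem Cfsg.Agent.FusionSys Cfsg.Agent.FusRankThree
open Cfsg.Agent.FusRankThree.LinAux (exists_fixed_mod mem_ker)
open scoped Pointwise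

namespace Cfsg.Agent.PFifth

universe u

/-- The Sylow subgroup of a group of automorphisms of an elementary group of order `p ^ 3` with a
strongly embedded subgroup has order less than `p ^ 2`. -/
theorem cube_sylow_lt {V : Type u} [CommGroup V] [Finite V] {p : ℕ} [Fact p.Prime]
    (hexp : ∀ v : V, v ^ p = 1) (hcard : Nat.card V = p ^ 3) {A : Subgroup (MulAut V)}
    {R : Sylow p A} {Y : Subgroup A} (hY : MCE.Emb R Y) :
    Nat.card (R : Subgroup A) < p ^ 2 := by
  classical
  by_contra hbig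
  rw [not_lt] at hbig
  have hp : p.Prime := Fact.out
  have hVp : IsPGroup p V := IsPGroup.of_card hcard
  have hbt : (⊥ : Subgroup V) ≠ ⊤ := fun e => by
    have h0 := congrArg (fun H : Subgroup V => Nat.card H) e
    simp only [Subgroup.card_bot, Subgroup.card_top, hcard] at h0
    exact (Nat.one_lt_pow (by norm_num) hp.one_lt).ne h0
  obtain ⟨c, hc, hcR⟩ := exists_fixed_mod hVp R.2 (A := ⊥)
    (fun u _ a ha => by simp [Subgroup.mem_bot.1 ha]) hbt
  have hc1 : c ≠ 1 := fun e => hc (by simp [e])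
  have hfc : ∀ u ∈ (R : Subgroup A), (u : MulAut V) c = c := fun u hu =>
    mem_ker.1 (Subgroup.mem_bot.1 (hcR u hu))
  have hfix : ∀ u ∈ (R : Subgroup A), ∀ a ∈ Subgroup.zpowers c, (u : MulAut V) a = a := by
    intro u hu a ha
    obtain ⟨k, rfl⟩ := Subgroup.mem_zpowers_iff.1 ha
    rw [map_zpow, hfc u hu]
  have hL : Nat.card (Subgroup.zpowers c) = p := by
    rw [Nat.card_zpowers, orderOf_eq_prime (hexp c) hc1]
  obtain ⟨a, ha, haR⟩ := exists_fixed_mod hVp R.2 (A := Subgroup.zpowers c)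
    (fun u hu b hb => by rw [hfix u hu b hb]; exact hb) (fun e => by
      rw [e, Subgroup.card_top, hcard] at hL
      exact (lt_self_pow₀ hp.one_lt (by norm_num : 1 < 3)).ne' hL)
  set H := Subgroup.zpowers c ⊔ Subgroup.zpowers a with hH
  have hHc : Nat.card H = p ^ 2 := by
    have hlt : Subgroup.zpowers c < H :=
      lt_of_le_of_ne le_sup_left fun e => ha (e.ge (le_sup_right (α := Subgroup V) (Subgroup.mem_zpowers a)))
    have h1 := LinAux.card_mul_le hVp hlt
    rw [hL] at h1
    have h2 : Nat.card H ≤ p * p := by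
      haveI : (Subgroup.zpowers a).Normal := inferInstance
      rw [hH]
      calc Nat.card ↥(Subgroup.zpowers c ⊔ Subgroup.zpowers a)
          = Nat.card ↑((Subgroup.zpowers c : Set V) * (Subgroup.zpowers a : Set V)) := by
            rw [← Subgroup.normal_mul]; rfl
        _ ≤ Nat.card (Subgroup.zpowers c) * Nat.card (Subgroup.zpowers a) := Set.natCard_mul_le
        _ ≤ p * p := by
          rw [hL]
          refine Nat.mul_le_mul_left p ?_
          rw [Nat.card_zpowers]
          exact Nat.le_of_dvd hp.pos (orderOf_dvd_of_pow_eq_one (hexp a))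
    rw [pow_two]
    exact le_antisymm h2 h1
  have hdisp : ∀ u ∈ (R : Subgroup A), a⁻¹ * (u : MulAut V) a ∈ Subgroup.zpowers c := fun u hu =>
    haR u hu
  have hHinv : ∀ u ∈ (R : Subgroup A), ∀ h ∈ H, (u : MulAut V) h ∈ H := by
    intro u hu
    suffices H ≤ H.comap (u : MulAut V).toMonoidHom from fun h hh => this hh
    refine sup_le ?_ ?_ <;> rw [Subgroup.zpowers_le, Subgroup.mem_comap]
    · show (u : MulAut V) c ∈ H
      rw [hfc u hu]
      exact le_sup_left (α := Subgroup V) (Subgroup.mem_zpowers c)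
    · show (u : MulAut V) a ∈ H
      rw [← mul_inv_cancel_left a ((u : MulAut V) a)]
      exact mul_mem (le_sup_right (α := Subgroup V) (Subgroup.mem_zpowers a))
        (le_sup_left (α := Subgroup V) (hdisp u hu))
  obtain ⟨b, hb, hbR⟩ := exists_fixed_mod hVp R.2 (A := H) hHinv (fun e => by
    rw [e, Subgroup.card_top, hcard] at hHc
    exact absurd (Nat.pow_right_injective hp.two_le hHc) (by norm_num))
  have hdH : ∀ u ∈ (R : Subgroup A), ∀ x, x⁻¹ * (u : MulAut V) x ∈ H := by
    intro u hu x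
    let δ : V →* V := MonoidHom.mk' (fun x => x⁻¹ * (u : MulAut V) x) fun x y => by
      simp [mul_comm, mul_left_comm, mul_assoc]
    have hle : H < H.comap δ := by
      refine lt_of_le_of_ne (fun h hh => mul_mem (inv_mem hh) (hHinv u hu h hh)) fun e => hb ?_
      exact e.ge (hbR u hu)
    have h1 := LinAux.card_mul_le hVp hle
    rw [hHc, ← pow_succ] at h1
    have htop : H.comap δ = ⊤ := Subgroup.eq_top_of_le_card _ (hcard.trans_le h1)
    exact htop.ge (Subgroup.mem_top x)
  -- an element fixing the hyperplane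
  let φ : ↥(R : Subgroup A) → Subgroup.zpowers c := fun u =>
    ⟨a⁻¹ * ((u : A) : MulAut V) a, hdisp u u.2⟩
  have hninj : ¬ Function.Injective φ := fun hi => by
    have := Nat.card_le_card_of_injective φ hi
    rw [hL] at this
    exact absurd (hbig.trans this) (not_le.2 (lt_self_pow₀ hp.one_lt (by norm_num)))
  obtain ⟨r, s, hrs, hne⟩ : ∃ r s, φ r = φ s ∧ r ≠ s := by
    simpa [Function.Injective] using hninj
  have hra : ((r : A) : MulAut V) a = ((s : A) : MulAut V) a :=
    mul_left_cancel (congrArg Subtype.val hrs)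
  set u : A := (s : A)⁻¹ * r with hu
  have huR : u ∈ (R : Subgroup A) := mul_mem (inv_mem s.2) r.2
  have hu1 : u ≠ 1 := fun e => hne (Subtype.ext (inv_mul_eq_one.1 e).symm)
  have hufix : ∀ h ∈ H, (u : MulAut V) h = h := by
    suffices H ≤ (u : MulAut V).toMonoidHom.eqLocus (MonoidHom.id V) from fun h hh => this hh
    refine sup_le ?_ ?_ <;> rw [Subgroup.zpowers_le]
    · exact hfc u huR
    · show (u : MulAut V) a = a
      rw [hu, Subgroup.coe_mul, MulAut.mul_apply, hra, ← MulAut.mul_apply, ← Subgroup.coe_mul,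
        inv_mul_cancel]
      rfl
  have hidx : H.index = p := by
    have h2 := H.card_mul_index
    rw [hHc, hcard] at h2
    exact Nat.eq_of_mul_eq_mul_left (pow_pos hp.pos 2) (h2.trans (pow_succ p 2))
  obtain ⟨I, hI, hIc, -⟩ := MCE.tv_of_hyperplane hidx hufix (hdH u huR)
    (fun e => hu1 (Subtype.ext e))
  exact absurd hbig (not_le.2 (MCE.card_lt hY hexp hI hIc hu1 huR hHc hdH))

variable {Ω : Type u} [Group Ω] {S : Subgroup Ω} [Finite S] {p : ℕ} [Fact p.Prime]

/-- The orders of the essential subgroups of a group of order `p ^ 5`. -/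
theorem card_cases (hS : IsPGroup p S) {F : FusionSystem S} (hF : F.IsSaturated p)
    (hcard : Nat.card S = p ^ 5) {P : Subgroup Ω} (hP : F.IsEssential p P) :
    Nat.card P = p ^ 2 ∨ Nat.card P = p ^ 3 ∨ Nat.card P = p ^ 4 := by
  classical
  have hp : p.Prime := Fact.out
  have hPS : P ≤ S := hP.1.1
  haveI : Finite P := finite_of_le ‹_› hPS
  have hlt : P < S := H73.SmallEssential.ne_self hS hF hP
  obtain ⟨k, hk⟩ := IsPGroup.iff_card.1 (hS.to_le hPS)
  have hk5 : k < 5 := by
    by_contra hcon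
    refine hlt.ne (Subgroup.eq_of_le_of_card_ge hPS ?_)
    rw [hk, hcard]
    exact Nat.pow_le_pow_right hp.pos (not_lt.1 hcon)
  have hk2 : 2 ≤ k := by
    by_contra hcon
    haveI : Nontrivial S := by
      rw [← Finite.one_lt_card_iff_nontrivial, hcard]
      exact Nat.one_lt_pow (by norm_num) hp.one_lt
    haveI := hS.center_nontrivial
    have hC := centralizerIn_self_centric hP.1
    have hZP : (Subgroup.center S).map S.subtype ≤ P := by
      refine le_trans ?_ hC
      rintro _ ⟨z, hz, rfl⟩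
      exact ⟨z.2, fun w hw => congrArg Subtype.val (Subgroup.mem_center_iff.1 hz ⟨w, hPS hw⟩)⟩
    have hZeq : (Subgroup.center S).map S.subtype = P := by
      refine Subgroup.eq_of_le_of_card_ge hZP ?_
      rw [Subgroup.card_map_of_injective S.subtype_injective, hk]
      refine le_trans (Nat.pow_le_pow_right hp.pos (by omega : k ≤ 1)) ?_
      rw [pow_one]
      obtain ⟨j, hj⟩ := IsPGroup.iff_card.1 (hS.to_subgroup (Subgroup.center S))
      have h1 : 1 < Nat.card (Subgroup.center S) := Finite.one_lt_card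
      rw [hj] at h1 ⊢
      rcases j with _ | j
      · simp at h1
      · rw [pow_succ]
        exact Nat.le_mul_of_pos_left p (pow_pos hp.pos j)
    refine hlt.not_ge (le_trans ?_ hC)
    intro w hw
    refine ⟨hw, fun v hv => ?_⟩
    obtain ⟨z, hz, rfl⟩ := hZeq.ge hv
    exact (congrArg Subtype.val (Subgroup.mem_center_iff.1 hz ⟨w, hw⟩)).symm
  rcases (by omega : k = 2 ∨ k = 3 ∨ k = 4) with rfl | rfl | rfl
  · exact Or.inl hk
  · exact Or.inr (Or.inl hk)
  · exact Or.inr (Or.inr hk)

/-- The image of `N_S(P)` in the automizer of the Frattini quotient. -/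
theorem norm_card (hS : IsPGroup p S) {F : FusionSystem S} {P : Subgroup Ω}
    (hP : F.IsEssential p P) {R : Sylow p (rho F P).range}
    (hmem : ∀ α : F.autGroup P, (rho F P).rangeRestrict α ∈ (R : Subgroup (rho F P).range) ↔
      (α : MulAut P) ∈ autInducedBy S P) :
    ((rho F P).rangeRestrict.comp (conjAut F hP.1.1)).range = (R : Subgroup (rho F P).range) ∧
      Nat.card (normalizerIn S P) = Nat.card (R : Subgroup (rho F P).range) * Nat.card P := by
  classical
  have hPS : P ≤ S := hP.1.1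
  haveI : Finite P := finite_of_le ‹_› hPS
  set π : normalizerIn S P →* (rho F P).range := (rho F P).rangeRestrict.comp (conjAut F hPS)
    with hπ
  have hπR : π.range = (R : Subgroup (rho F P).range) := by
    ext r
    constructor
    · rintro ⟨g, rfl⟩
      exact (hmem _).2 (mem_autInducedBy.2 ⟨g, g.2.1, fun _ => rfl⟩)
    · intro hr
      obtain ⟨α, rfl⟩ := MonoidHom.rangeRestrict_surjective (rho F P) r
      obtain ⟨g, hg, hge⟩ := mem_autInducedBy.1 ((hmem α).1 hr)
      refine ⟨⟨g, hg, mem_normalizer_of_conj_eq (α : MulAut P) hge⟩, ?_⟩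
      rw [hπ, MonoidHom.comp_apply]
      congr 1
      exact Subtype.ext (MulEquiv.ext fun z => Subtype.ext (hge z).symm)
  refine ⟨hπR, ?_⟩
  have hker : π.ker = P.subgroupOf (normalizerIn S P) := by
    ext g
    rw [MonoidHom.mem_ker, Subgroup.mem_subgroupOf, hπ, MonoidHom.comp_apply,
      ← rho_conjAut_eq_one hS hP g, Subtype.ext_iff]
    rfl
  rw [← π.ker.card_mul_index, Subgroup.index_ker, hπR, hker,
    Nat.card_congr (Subgroup.subgroupOfEquivOfLe (le_normalizerIn hPS)).toEquiv, mul_comm]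

/-- A two generated essential subgroup carries a transvection. -/
theorem transv_of_rank_two (hS : IsPGroup p S) {F : FusionSystem S} (hF : F.IsSaturated p)
    {P : Subgroup Ω} (hP : F.IsEssential p P) (hrk : Nat.card (FQ P) = p ^ 2) : Transv F p P := by
  classical
  have hp : p.Prime := Fact.out
  have hPS : P ≤ S := hP.1.1
  haveI : Finite P := finite_of_le ‹_› hPS
  have hPp : IsPGroup p P := hS.to_le hPS
  obtain ⟨R, Y, hRne, hY, hN, hmem⟩ := exists_lin_data hS hF hP
  have hnn : ¬ (R : Subgroup (rho F P).range).Normal := fun hn => by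
    have := hN R le_rfl hRne
    rw [Subgroup.normalizer_eq_top_iff.mpr hn] at this
    exact hY (top_le_iff.1 this)
  obtain ⟨hrange, hcN⟩ := norm_card hS hP hmem
  let : CommGroup (FQ P) := { (inferInstance : Group (FQ P)) with mul_comm := FQ_comm hPp }
  obtain ⟨hR, x, hxR, y, e1, e2, hgen, ⟨hx1, hx2⟩, -⟩ :=
    PearlExists.plane_frame (V := FQ P) (FQ_pow hPp) hrk R hRne hnn
  refine ⟨hPS, by rw [hcN, hR], ?_⟩
  obtain ⟨g, hg⟩ := hrange.ge hxR
  have hgval : rho F P (conjAut F hPS g) = (x : MulAut (FQ P)) := congrArg Subtype.val hg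
  have hsingle : ∀ e : FQ P, Subgroup.closure {e} ≠ ⊤ := by
    intro e h
    have h1 : Nat.card (Subgroup.closure {e}) = p ^ 2 := by rw [h, Subgroup.card_top, hrk]
    rw [← Subgroup.zpowers_eq_closure, Nat.card_zpowers] at h1
    have h2 : orderOf e ≤ p :=
      Nat.le_of_dvd hp.pos (orderOf_dvd_of_pow_eq_one (FQ_pow hPp e))
    rw [h1] at h2
    exact absurd h2 (not_le.2 (lt_self_pow₀ hp.one_lt (by norm_num)))
  have he1 : e1 ≠ 1 := fun e => hsingle e2 (by rwa [e, Subgroup.closure_insert_one] at hgen)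
  refine ⟨g, fun hgP => he1 ?_, Subgroup.zpowers e1, ?_, ?_, ?_⟩
  · rw [← rho_conjAut_eq_one hS hP g, hgval] at hgP
    rw [hgP, MulAut.one_apply] at hx2
    exact mul_eq_left.1 hx2.symm
  · rw [Nat.card_zpowers, orderOf_eq_prime (FQ_pow hPp e1) he1]
  · intro v
    rw [hgval]
    let δ : FQ P →* FQ P := MonoidHom.mk' (fun v => v⁻¹ * (x : MulAut (FQ P)) v) fun a b => by
      simp [mul_comm, mul_left_comm, mul_assoc]
    have hle : Subgroup.closure {e1, e2} ≤ (Subgroup.zpowers e1).comap δ := by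
      rw [Subgroup.closure_le]
      rintro w (rfl | rfl)
      · show w⁻¹ * (x : MulAut (FQ P)) w ∈ Subgroup.zpowers w
        rw [hx1, inv_mul_cancel]
        exact one_mem _
      · show w⁻¹ * (x : MulAut (FQ P)) w ∈ Subgroup.zpowers e1
        rw [hx2, inv_mul_cancel_left]
        exact Subgroup.mem_zpowers e1
    exact hle (hgen.ge (Subgroup.mem_top v))
  · intro i hi
    rw [hgval]
    obtain ⟨k, rfl⟩ := Subgroup.mem_zpowers_iff.1 hi
    rw [map_zpow, hx1]

/-- An elementary abelian essential subgroup of order `p ^ 3` carries a transvection. -/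
theorem transv_of_cube (hS : IsPGroup p S) {F : FusionSystem S} (hF : F.IsSaturated p)
    (hcard : Nat.card S = p ^ 5) {P : Subgroup Ω} (hP : F.IsEssential p P)
    (hel : Cfsg.IsElementaryAbelian p P) (hc : Nat.card P = p ^ 3) : Transv F p P := by
  classical
  have hp : p.Prime := Fact.out
  have hPS : P ≤ S := hP.1.1
  haveI : Finite P := finite_of_le ‹_› hPS
  have hPp : IsPGroup p P := hS.to_le hPS
  have hfr : frattini ↥P = ⊥ := (PGroup.frattini_eq_bot_iff hPp).2
    ⟨hel.1, fun z => Subtype.ext (by simpa using hel.2 z z.2)⟩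
  have hrk : Nat.card (FQ P) = p ^ 3 := by
    rw [← Subgroup.index_eq_card, hfr, Subgroup.index_bot, hc]
  obtain ⟨R, Y, hRne, hY, hN, hmem⟩ := exists_lin_data hS hF hP
  obtain ⟨hrange, hcN⟩ := norm_card hS hP hmem
  let : CommGroup (FQ P) := { (inferInstance : Group (FQ P)) with mul_comm := FQ_comm hPp }
  have hRlt := cube_sylow_lt (V := FQ P) (FQ_pow hPp) hrk (R := R) ⟨hY, hN⟩
  have hR : Nat.card (R : Subgroup (rho F P).range) = p := by
    obtain ⟨k, hk⟩ := IsPGroup.iff_card.1 R.2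
    rw [hk, Nat.pow_lt_pow_iff_right hp.one_lt] at hRlt
    rcases (by omega : k = 0 ∨ k = 1) with rfl | rfl
    · rw [pow_zero] at hk
      exact absurd (Subgroup.eq_bot_of_card_le _ hk.le) hRne
    · rw [hk, pow_one]
  rw [hR] at hcN
  refine ⟨hPS, hcN, ?_⟩
  have hNS : normalizerIn S P ≤ S := normalizerIn_le P
  haveI : Finite (normalizerIn S P) := finite_of_le ‹_› hNS
  have hN4 : Nat.card (normalizerIn S P) = p ^ 4 := by rw [hcN, hc, ← pow_succ']
  have hne : normalizerIn S P ≠ S := fun h => by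
    rw [h, hcard] at hN4
    exact absurd (Nat.pow_right_injective hp.two_le hN4) (by norm_num)
  obtain ⟨s, hs, hsN⟩ := SetLike.exists_of_lt (FusionAux.lt_normalizerIn hS hNS hne)
  set N := normalizerIn S P with hNdef
  have hsS : s ∈ S := hs.1
  set P' := P.map (MulAut.conj s).toMonoidHom with hP'
  have hP'N : P' ≤ N := by
    rintro _ ⟨w, hw, rfl⟩
    exact (Subgroup.mem_normalizer_iff.1 hs.2 w).1 (le_normalizerIn hPS hw)
  have hP'c : Nat.card P' = p ^ 3 := by
    rw [hP', Subgroup.card_map_of_injective (MulAut.conj s).injective, hc]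
  haveI : Finite P' := finite_of_le inferInstance hP'N
  have hP'ne : P' ≠ P := fun e => hsN ⟨hsS, Subgroup.mem_normalizer_fintype (S := (P : Set Ω))
    fun w hw => e.le ⟨w, hw, rfl⟩⟩
  obtain ⟨g, hgP', hgP⟩ : ∃ g ∈ P', g ∉ P := by
    by_contra h
    push Not at h
    exact hP'ne (Subgroup.eq_of_le_of_card_ge h (by rw [hP'c, hc]))
  have hgN : g ∈ N := hP'N hgP'
  -- the fixed hyperplane
  set P₀ := P.subgroupOf N with hP₀
  set P₁ := P'.subgroupOf N with hP₁
  have hc₀ : Nat.card P₀ = p ^ 3 := by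
    rw [hP₀, Nat.card_congr (Subgroup.subgroupOfEquivOfLe (le_normalizerIn hPS)).toEquiv, hc]
  have hc₁ : Nat.card P₁ = p ^ 3 := by
    rw [hP₁, Nat.card_congr (Subgroup.subgroupOfEquivOfLe hP'N).toEquiv, hP'c]
  have hidx : ∀ K : Subgroup N, Nat.card K = p ^ 3 → K.index = p := fun K hK => by
    have h := K.card_mul_index
    rw [hK, hN4] at h
    exact Nat.eq_of_mul_eq_mul_left (pow_pos hp.pos 3) (h.trans (pow_succ p 3))
  have hNp : IsPGroup p N := hS.to_le hNS
  have hnorm : ∀ K : Subgroup N, Nat.card K = p ^ 3 → K.Normal := fun K hK =>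
    Subgroup.normal_of_index_eq_minFac_card (by
      rw [hidx K hK, hN4, Nat.pow_minFac (by norm_num), hp.minFac_eq])
  haveI := hnorm P₀ hc₀
  haveI := hnorm P₁ hc₁
  set D := P ⊓ P' with hD
  set H : Subgroup (FQ P) := (D.subgroupOf P).map (QuotientGroup.mk' (frattini ↥P)) with hH
  have hqinj : Function.Injective (QuotientGroup.mk' (frattini ↥P)) := by
    rw [← MonoidHom.ker_eq_bot_iff, QuotientGroup.ker_mk', hfr]
  have hDc : Nat.card D = p ^ 2 := by
    have hlt : Nat.card D < p ^ 3 := by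
      rw [← hc]
      by_contra hcon
      have h := Subgroup.eq_of_le_of_card_ge (inf_le_left : D ≤ P) (not_lt.1 hcon)
      exact hP'ne (Subgroup.eq_of_le_of_card_ge (h.ge.trans inf_le_right) (by rw [hP'c, hc])).symm
    have h1 : Nat.card (P₀ ⊓ P₁ : Subgroup N) = Nat.card D := by
      rw [hP₀, hP₁, show P.subgroupOf N ⊓ P'.subgroupOf N = D.subgroupOf N from
        (Subgroup.comap_inf P P' N.subtype).symm]
      exact Nat.card_congr (Subgroup.subgroupOfEquivOfLe (inf_le_right.trans hP'N)).toEquiv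
    have h2 : (P₀ ⊓ P₁).index ≤ p * p := by
      have := Subgroup.index_inf_le (H := P₀) (K := P₁)
      rwa [hidx P₀ hc₀, hidx P₁ hc₁] at this
    have h3 := (P₀ ⊓ P₁).card_mul_index
    rw [h1, hN4] at h3
    haveI : Finite D := finite_of_le ‹Finite P› inf_le_left
    obtain ⟨j, hj⟩ := IsPGroup.iff_card.1 (hPp.to_le (inf_le_left : D ≤ P))
    rw [hj] at hlt h3 ⊢
    have hj3 : j < 3 := (Nat.pow_lt_pow_iff_right hp.one_lt).1 hlt
    congr 1
    by_contra hj2
    have : p ^ 4 ≤ p ^ j * (p * p) := h3 ▸ Nat.mul_le_mul_left _ h2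
    rw [← pow_two, ← pow_add] at this
    have := (Nat.pow_le_pow_iff_right hp.one_lt).1 this
    omega
  have hHidx : H.index = p := by
    have h2 := H.card_mul_index
    rw [hH, Subgroup.card_map_of_injective hqinj,
      Nat.card_congr (Subgroup.subgroupOfEquivOfLe (inf_le_left : D ≤ P)).toEquiv, hDc, hrk] at h2
    exact Nat.eq_of_mul_eq_mul_left (pow_pos hp.pos 2) (h2.trans (pow_succ p 2))
  have hP'ab : ∀ w ∈ P', g * w = w * g := by
    obtain ⟨g0, hg0, rfl⟩ := hgP'
    rintro _ ⟨w, hw, rfl⟩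
    have hgw : g0 * w = w * g0 := congrArg Subtype.val (hel.1.is_comm.comm ⟨g0, hg0⟩ ⟨w, hw⟩)
    rw [← map_mul, ← map_mul, hgw]
  set u := rho F P (conjAut F hPS ⟨g, hgN⟩) with hu
  have hfix : ∀ h ∈ H, u h = h := by
    rintro _ ⟨w, hw, rfl⟩
    show u (w : FQ P) = (w : FQ P)
    rw [hu, rho_mk]
    congr 1
    refine Subtype.ext ?_
    rw [conjAut_apply]
    show g * (w : Ω) * g⁻¹ = w
    rw [hP'ab (w : Ω) hw.2, mul_inv_cancel_right]
  have hdisp : ∀ v, v⁻¹ * u v ∈ H := by
    intro v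
    obtain ⟨w, rfl⟩ := QuotientGroup.mk'_surjective (frattini ↥P) v
    refine ⟨w⁻¹ * (conjAut F hPS ⟨g, hgN⟩ : MulAut P) w, ?_, rfl⟩
    show ((w⁻¹ * (conjAut F hPS ⟨g, hgN⟩ : MulAut P) w : P) : Ω) ∈ D
    refine ⟨Subtype.prop _, ?_⟩
    push_cast
    rw [conjAut_apply]
    show (w : Ω)⁻¹ * (g * w * g⁻¹) ∈ P'
    have h1 : (⟨w, le_normalizerIn hPS w.2⟩ : N)⁻¹ * ⟨g, hgN⟩ * ⟨w, le_normalizerIn hPS w.2⟩ ∈ P₁ := by
      have := (inferInstance : P₁.Normal).conj_mem ⟨g, hgN⟩ hgP' (⟨w, le_normalizerIn hPS w.2⟩ : N)⁻¹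
      rwa [inv_inv] at this
    have h2 : (w : Ω)⁻¹ * g * w ∈ P' := h1
    have h3 := mul_mem h2 (inv_mem hgP')
    simpa [mul_assoc] using h3
  have hu1 : u ≠ 1 := fun e => hgP ((rho_conjAut_eq_one hS hP ⟨g, hgN⟩).1 e)
  obtain ⟨I, hI, hIc, -⟩ := MCE.tv_of_hyperplane hHidx hfix hdisp hu1
  exact ⟨⟨g, hgN⟩, hgP, I, hIc, hI.disp, hI.fix⟩

/-- Essential subgroups of order `p ^ 2` or `p ^ 3` carry a transvection. -/
theorem transv_small (hS : IsPGroup p S) {F : FusionSystem S} (hF : F.IsSaturated p) (hp : p ≠ 2)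
    (hcard : Nat.card S = p ^ 5) (hna : NoAbelian p S) {P : Subgroup Ω} (hP : F.IsEssential p P)
    (hc : Nat.card P = p ^ 2 ∨ Nat.card P = p ^ 3) : Transv F p P := by
  classical
  have hPS : P ≤ S := hP.1.1
  haveI : Finite P := finite_of_le ‹_› hPS
  have hPp : IsPGroup p P := hS.to_le hPS
  rcases hc with hc | hc
  · have hel := (S5185.result p hS F hF P hP hc).1
    refine transv_of_rank_two hS hF hP ?_
    rw [← Subgroup.index_eq_card, (PGroup.frattini_eq_bot_iff hPp).2
      ⟨hel.1, fun z => Subtype.ext (by simpa using hel.2 z z.2)⟩, Subgroup.index_bot, hc]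
  · rcases S5186.result p hS F hF P hP hc with hel | ⟨-, ⟨⟨-, hfr, -⟩, hZ⟩, -⟩ | ⟨h2, -⟩
    · exact transv_of_cube hS hF hcard hP hel hc
    · refine transv_of_rank_two hS hF hP ?_
      rw [← Subgroup.index_eq_card, hfr]
      have h := (Subgroup.center ↥P).card_mul_index
      rw [hZ, hc, pow_succ'] at h
      exact Nat.eq_of_mul_eq_mul_left (Fact.out : p.Prime).pos h
    · exact absurd h2 hp

end Cfsg.Agent.PFifth
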